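import Mathlib
import Cfsg.Agent.OddChar.PF.OddOrder

/-!
An odd group transitive on the involutions of an elementary abelian group, with small point stabiliser (row 3262).
-/

set_option autoImplicit false
set_option linter.unusedSectionVars false
set_option linter.style.haveILetI false

namespace Cfsg.Lib.TwoPointFive

open scoped commutatorElement

universe u v

/-- A free action has degree divisible by the order of the group. -/
theorem card_dvd_of_free_action {S : Type u} {α : Type v} [Group S] [Finite S] [Finite α] [MulAction S α]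
    (h : ∀ (s : S) (x : α), s • x = x → s = 1) : Nat.card S ∣ Nat.card α := by
  classical
  haveI := Fintype.ofFinite (Quotient (MulAction.orbitRel S α))
  rw [Nat.card_congr (MulAction.selfEquivSigmaOrbitsQuotientStabilizer S α), Nat.card_sigma]
  refine Finset.dvd_sum fun q _ => ?_
  rw [← Subgroup.index_eq_card, (Subgroup.eq_bot_iff_forall (MulAction.stabilizer S q.out)).2 fun s hs => h s _ hs,
    Subgroup.index_bot]

/-- A finite field of characteristic two has at most as many automorphisms as its dimension. -/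
theorem card_aut_le {K : Type u} [Field K] [Finite K] {m : ℕ} (hK : Nat.card K = 2 ^ m) {S : Type v} [Finite S]
    (f : S → (K ≃+* K)) (hf : Function.Injective f) : Nat.card S ≤ m := by
  classical
  haveI := Fintype.ofFinite K
  haveI : Fact (Nat.Prime 2) := ⟨Nat.prime_two⟩
  haveI : CharP K 2 := charP_of_card_eq_prime_pow (f := m) (by rw [← Nat.card_eq_fintype_card, hK])
  letI : Algebra (ZMod 2) K := ZMod.algebra K 2
  let g : S → (K ≃ₐ[ZMod 2] K) := fun s => AlgEquiv.ofRingEquiv (f := f s) fun x => by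
    obtain ⟨j, rfl⟩ := ZMod.natCast_zmod_surjective (n := 2) x
    simp
  have hg : Function.Injective g := fun s s' e => hf (RingEquiv.ext fun x => by
    have := DFunLike.congr_fun e x
    simpa [g] using this)
  have hfin : Module.finrank (ZMod 2) K = m := by
    have := Module.card_eq_pow_finrank (K := ZMod 2) (V := K)
    rw [ZMod.card, ← Nat.card_eq_fintype_card, hK] at this
    exact (Nat.pow_right_injective le_rfl this).symm
  calc Nat.card S ≤ Nat.card (K ≃ₐ[ZMod 2] K) := Nat.card_le_card_of_injective g hg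
    _ ≤ Module.finrank (ZMod 2) K := by
      rw [Nat.card_eq_fintype_card]
      exact AlgEquiv.card_le
    _ = m := hfin

variable {T : Type u} [Group T] [Finite T] {D : Type v} [Group D] [Finite D]

/-- An abelian group regular on the non-trivial elements makes the elementary abelian group a field, and a group of
automorphisms normalising it and fixing a point embeds in the automorphisms of the field. -/
theorem card_fix_le (hsq : ∀ x : T, x * x = 1) {m : ℕ} (hT : Nat.card T = 2 ^ m) (ψ : D →* MulAut T)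
    (hψ : Function.Injective ψ) (A : Subgroup D) [A.Normal] (hA : ∀ a ∈ A, ∀ b ∈ A, a * b = b * a) {x : T}
    (hx : x ≠ 1) (hreg : ∀ y : T, y ≠ 1 → ∃ a ∈ A, ψ a x = y)
    (hcent : ∀ d : D, ψ d x = x → (∀ a ∈ A, d * a = a * d) → d = 1) :
    Nat.card {d : D // ψ d x = x} ≤ m := by
  classical
  letI : CommGroup T :=
    { (inferInstance : Group T) with
      mul_comm := fun p q => by
        calc p * q = (p * q)⁻¹ := (inv_eq_of_mul_eq_one_right (hsq _)).symm
          _ = q * p := by rw [mul_inv_rev, inv_eq_of_mul_eq_one_right (hsq q), inv_eq_of_mul_eq_one_right (hsq p)] }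
  let φ : D →* AddMonoid.End (Additive T) :=
    { toFun := fun d => MonoidHom.toAdditive (ψ d).toMonoidHom
      map_one' := by
        refine DFunLike.ext _ _ fun y => ?_
        show Additive.ofMul (ψ 1 (Additive.toMul y)) = y
        rw [map_one]; rfl
      map_mul' := fun c d => by
        refine DFunLike.ext _ _ fun y => ?_
        show Additive.ofMul (ψ (c * d) (Additive.toMul y)) = Additive.ofMul (ψ c (ψ d (Additive.toMul y)))
        rw [map_mul]; rfl }
  have hφ : ∀ (d : D) (y : T), φ d (Additive.ofMul y) = Additive.ofMul (ψ d y) := fun _ _ => rfl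
  set R : Subring (AddMonoid.End (Additive T)) := Subring.closure (φ '' (A : Set D)) with hR
  have hcomm : ∀ p ∈ R, ∀ q ∈ R, p * q = q * p := by
    letI := Subring.closureCommRingOfComm (s := φ '' (A : Set D)) (by
      rintro _ ⟨a, ha, rfl⟩ _ ⟨b, hb, rfl⟩
      rw [← map_mul, ← map_mul, hA a ha b hb])
    exact fun p hp q hq => congrArg Subtype.val (mul_comm (⟨p, hp⟩ : R) ⟨q, hq⟩)
  have hmem : ∀ a ∈ A, φ a ∈ R := fun a ha => Subring.subset_closure ⟨a, ha, rfl⟩
  let ev : R → Additive T := fun P => (P.1 : AddMonoid.End (Additive T)) (Additive.ofMul x)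
  have hinj : Function.Injective ev := by
    intro P Q e
    refine Subtype.ext (DFunLike.ext _ _ fun y => ?_)
    by_cases hy : Additive.toMul y = 1
    · rw [show y = 0 from hy, map_zero, map_zero]
    obtain ⟨a, ha, hay⟩ := hreg _ hy
    have hy' : y = φ a (Additive.ofMul x) := by rw [hφ, hay]; rfl
    rw [hy']
    calc P.1 (φ a (Additive.ofMul x)) = (P.1 * φ a) (Additive.ofMul x) := rfl
      _ = (φ a * P.1) (Additive.ofMul x) := by rw [hcomm _ P.2 _ (hmem a ha)]
      _ = φ a (ev P) := rfl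
      _ = φ a (ev Q) := by rw [e]
      _ = (φ a * Q.1) (Additive.ofMul x) := rfl
      _ = (Q.1 * φ a) (Additive.ofMul x) := by rw [hcomm _ Q.2 _ (hmem a ha)]
      _ = Q.1 (φ a (Additive.ofMul x)) := rfl
  have hsurj : Function.Surjective ev := fun y => by
    by_cases hy : Additive.toMul y = 1
    · exact ⟨0, hy.symm⟩
    · obtain ⟨a, ha, hay⟩ := hreg _ hy
      exact ⟨⟨φ a, hmem a ha⟩, (hφ a x).trans (congrArg Additive.ofMul hay)⟩
  haveI : Finite R := Finite.of_injective ev hinj
  have hcard : Nat.card R = 2 ^ m := by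
    rw [Nat.card_congr (Equiv.ofBijective ev ⟨hinj, hsurj⟩), Nat.card_congr (Additive.toMul), hT]
  letI : CommRing R := { (inferInstance : Ring R) with mul_comm := fun p q => Subtype.ext (hcomm _ p.2 _ q.2) }
  have hfield : IsField R := by
    refine ⟨⟨0, 1, fun e => hx ?_⟩, mul_comm, fun {P} hP => ?_⟩
    · exact (congrArg (fun P : R => Additive.toMul (ev P)) e).symm
    · by_cases hy : Additive.toMul (ev P) = 1
      · exact absurd (hinj (a₂ := 0) (by rw [show ev P = 0 from hy]; rfl)) hP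
      · obtain ⟨a, ha, hay⟩ := hreg _ hy
        obtain rfl : (⟨φ a, hmem a ha⟩ : R) = P :=
          hinj ((hφ a x).trans (congrArg Additive.ofMul hay))
        exact ⟨⟨φ a⁻¹, hmem _ (A.inv_mem ha)⟩,
          Subtype.ext (by show φ a * φ a⁻¹ = 1; rw [← map_mul, mul_inv_cancel, map_one])⟩
  letI : Field R := hfield.toField
  have hconj : ∀ (d : D), ∀ P ∈ R, φ d * P * φ d⁻¹ ∈ R := by
    intro d P hP
    induction hP using Subring.closure_induction with
    | mem p hp =>
      obtain ⟨a, ha, rfl⟩ := hp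
      rw [← map_mul, ← map_mul]
      exact hmem _ (‹A.Normal›.conj_mem a ha d)
    | zero => rw [mul_zero, zero_mul]; exact R.zero_mem
    | one => rw [mul_one, ← map_mul, mul_inv_cancel, map_one]; exact R.one_mem
    | add p q _ _ hp hq => rw [mul_add, add_mul]; exact R.add_mem hp hq
    | neg p _ hp =>
      have e : φ d * -p * φ d⁻¹ = -(φ d * p * φ d⁻¹) := DFunLike.ext _ _ fun y => by
        show φ d ((-p) (φ d⁻¹ y)) = -(φ d (p (φ d⁻¹ y)))
        rw [← map_neg]
        rfl
      rw [e]; exact R.neg_mem hp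
    | mul p q _ _ hp hq =>
      rw [show φ d * (p * q) * φ d⁻¹ = φ d * p * φ d⁻¹ * (φ d * q * φ d⁻¹) by
        rw [show φ d * p * φ d⁻¹ * (φ d * q * φ d⁻¹) = φ d * p * (φ d⁻¹ * φ d) * q * φ d⁻¹ by simp only [mul_assoc],
          ← map_mul, inv_mul_cancel, map_one, mul_one]
        simp only [mul_assoc]]
      exact R.mul_mem hp hq
  let Dx : Subgroup D :=
    { carrier := {d | ψ d x = x}
      one_mem' := by show ψ 1 x = x; rw [map_one]; rfl
      mul_mem' := fun {c d} hc hd => by
        show ψ (c * d) x = x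
        rw [map_mul]
        show ψ c (ψ d x) = x
        rw [show ψ d x = x from hd]
        exact hc
      inv_mem' := fun {c} hc => by
        show ψ c⁻¹ x = x
        rw [map_inv]
        show (ψ c).symm x = x
        rw [MulEquiv.symm_apply_eq]
        exact hc.symm }
  have hinv : ∀ d : D, φ d⁻¹ * φ d = 1 := fun d => by rw [← map_mul, inv_mul_cancel, map_one]
  have hinv' : ∀ d : D, φ d * φ d⁻¹ = 1 := fun d => by rw [← map_mul, mul_inv_cancel, map_one]
  let σ : Dx → (R ≃+* R) := fun d =>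
    { toFun := fun P => ⟨φ d.1 * P.1 * φ d.1⁻¹, hconj d.1 P.1 P.2⟩
      invFun := fun P => ⟨φ d.1⁻¹ * P.1 * φ d.1, by simpa using hconj d.1⁻¹ P.1 P.2⟩
      left_inv := fun P => Subtype.ext (by
        show φ d.1⁻¹ * (φ d.1 * P.1 * φ d.1⁻¹) * φ d.1 = P.1
        rw [show φ d.1⁻¹ * (φ d.1 * P.1 * φ d.1⁻¹) * φ d.1 = φ d.1⁻¹ * φ d.1 * P.1 * (φ d.1⁻¹ * φ d.1) by
          simp only [mul_assoc], hinv, one_mul, mul_one])
      right_inv := fun P => Subtype.ext (by
        show φ d.1 * (φ d.1⁻¹ * P.1 * φ d.1) * φ d.1⁻¹ = P.1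
        rw [show φ d.1 * (φ d.1⁻¹ * P.1 * φ d.1) * φ d.1⁻¹ = φ d.1 * φ d.1⁻¹ * P.1 * (φ d.1 * φ d.1⁻¹) by
          simp only [mul_assoc], hinv', one_mul, mul_one])
      map_mul' := fun P Q => Subtype.ext (by
        show φ d.1 * (P.1 * Q.1) * φ d.1⁻¹ = φ d.1 * P.1 * φ d.1⁻¹ * (φ d.1 * Q.1 * φ d.1⁻¹)
        rw [show φ d.1 * P.1 * φ d.1⁻¹ * (φ d.1 * Q.1 * φ d.1⁻¹) = φ d.1 * P.1 * (φ d.1⁻¹ * φ d.1) * Q.1 * φ d.1⁻¹ by
          simp only [mul_assoc], hinv, mul_one]
        simp only [mul_assoc])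
      map_add' := fun P Q => Subtype.ext (by
        show φ d.1 * (P.1 + Q.1) * φ d.1⁻¹ = φ d.1 * P.1 * φ d.1⁻¹ + φ d.1 * Q.1 * φ d.1⁻¹
        rw [mul_add, add_mul]) }
  have hσ : Function.Injective σ := by
    intro c d e
    have key : ∀ a ∈ A, c.1 * a * c.1⁻¹ = d.1 * a * d.1⁻¹ := by
      intro a ha
      have h1 := congrArg Subtype.val (DFunLike.congr_fun e (⟨φ a, hmem a ha⟩ : R))
      have h2 : φ (c.1 * a * c.1⁻¹) = φ (d.1 * a * d.1⁻¹) := by
        rw [map_mul, map_mul, map_mul, map_mul]; exact h1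
      refine hψ (MulEquiv.ext fun y => ?_)
      exact congrArg Additive.toMul (DFunLike.congr_fun h2 (Additive.ofMul y))
    have h1 := hcent (d⁻¹ * c : Dx).1 (d⁻¹ * c : Dx).2 fun a ha => by
      show d.1⁻¹ * c.1 * a = a * (d.1⁻¹ * c.1)
      calc d.1⁻¹ * c.1 * a = d.1⁻¹ * (c.1 * a * c.1⁻¹) * c.1 := by group
        _ = d.1⁻¹ * (d.1 * a * d.1⁻¹) * c.1 := by rw [key a ha]
        _ = a * (d.1⁻¹ * c.1) := by group
    exact Subtype.ext (inv_mul_eq_one.1 h1).symm
  exact card_aut_le hcard σ hσ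

/-- The bound on the stabiliser. -/
theorem odd_transitive_bound (hsq : ∀ x : T, x * x = 1) {m : ℕ} (hm : 2 ≤ m) (hT : Nat.card T = 2 ^ m)
    (ψ : D →* MulAut T) (hψ : Function.Injective ψ) (hodd : Odd (Nat.card D))
    (htrans : ∀ x y : T, x ≠ 1 → y ≠ 1 → ∃ d : D, ψ d x = y)
    (hfix : ∀ (d : D) (x y : T), x ≠ 1 → y ≠ 1 → x ≠ y → ψ d x = x → ψ d y = y → d = 1)
    {x : T} (hx : x ≠ 1) {s : ℕ} (hs : Nat.card {d : D // ψ d x = x} = s) (hs2 : 2 * s + 2 = Nat.card T)
    : s ≤ m := by
  classical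
  haveI : Fintype T := Fintype.ofFinite T
  have hs1 : 1 ≤ s := by
    rw [← hs]
    exact Nat.card_pos_iff.2 ⟨⟨⟨1, by rw [map_one]; rfl⟩⟩, inferInstance⟩
  haveI : Group.IsSolvable D := Cfsg.Agent.PF.isSolvable_of_odd D hodd
  have hT4 : 4 ≤ Nat.card T := by
    rw [hT]; exact (Nat.pow_le_pow_right (by norm_num : 0 < 2) hm : 2 ^ 2 ≤ 2 ^ m)
  haveI hnt : Nontrivial D := by
    obtain ⟨y, hy⟩ : ∃ y : T, y ∉ ({1, x} : Finset T) := by
      by_contra! hh
      have := Finset.card_le_card (show (Finset.univ : Finset T) ⊆ {1, x} from fun y _ => hh y)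
      rw [Finset.card_univ, ← Nat.card_eq_fintype_card] at this
      have := (Finset.card_le_two (a := (1 : T)) (b := x))
      omega
    simp only [Finset.mem_insert, Finset.mem_singleton, not_or] at hy
    obtain ⟨d, hd⟩ := htrans x y hx hy.1
    exact ⟨d, 1, fun e => hy.2 (by rw [← hd, e, map_one]; rfl)⟩
  have hex : ∃ n, derivedSeries D n = ⊥ := Group.IsSolvable.solvable
  obtain ⟨n, hn, hmin⟩ : ∃ n, derivedSeries D n = ⊥ ∧ ∀ j, j < n → derivedSeries D j ≠ ⊥ :=
    ⟨Nat.find hex, Nat.find_spec hex, fun j hj => Nat.find_min hex hj⟩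
  rcases n with _ | n
  · rw [derivedSeries_zero] at hn
    exact absurd hn top_ne_bot
  set A := derivedSeries D n
  have hAne : A ≠ ⊥ := hmin n (Nat.lt_succ_self n)
  haveI : A.Normal := derivedSeries_normal D n
  have hA : ∀ a ∈ A, ∀ b ∈ A, a * b = b * a := fun a ha b hb => by
    have hm' : ⁅a, b⁆ ∈ derivedSeries D (n + 1) := by
      rw [derivedSeries_succ]
      exact Subgroup.commutator_mem_commutator ha hb
    rwa [hn, Subgroup.mem_bot, commutatorElement_eq_one_iff_mul_comm] at hm'
  have hfree : ∀ a ∈ A, ∀ y : T, y ≠ 1 → ψ a y = y → a = 1 := by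
    intro a ha y hy hay
    by_cases hall : ∀ a' ∈ A, ψ a' y = y
    · -- then all of `A` is trivial
      have htriv : ∀ a' ∈ A, a' = 1 := by
        intro a' ha'
        refine hψ (MulEquiv.ext fun z => ?_)
        rw [map_one]
        show ψ a' z = z
        by_cases hz : z = 1
        · rw [hz, map_one]
        obtain ⟨d, rfl⟩ := htrans y z hy hz
        have := hall _ (‹A.Normal›.conj_mem a' ha' d⁻¹)
        rw [inv_inv, map_mul, map_mul, map_inv] at this
        have h1 : (ψ d).symm (ψ a' (ψ d y)) = y := this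
        rwa [MulEquiv.symm_apply_eq] at h1
      exact htriv a ha
    · push Not at hall
      obtain ⟨a', ha', hne⟩ := hall
      refine hfix a y (ψ a' y) hy (fun e => hy ((map_eq_one_iff (ψ a') (ψ a').injective).1 e)) (Ne.symm hne) hay ?_
      have h1 : ψ (a * a') y = ψ (a' * a) y := by rw [hA a ha a' ha']
      rw [map_mul, map_mul] at h1
      change ψ a (ψ a' y) = ψ a' (ψ a y) at h1
      rwa [hay] at h1
  have hcent : ∀ d : D, ψ d x = x → (∀ a ∈ A, d * a = a * d) → d = 1 := by
    intro d hd hc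
    obtain ⟨a, ha, ha1⟩ := (Subgroup.bot_or_exists_ne_one A).resolve_left hAne
    refine hfix d x (ψ a x) hx (fun e => hx ((map_eq_one_iff (ψ a) (ψ a).injective).1 e))
      (fun e => ha1 (hfree a ha x hx e.symm)) hd ?_
    have h1 : ψ (d * a) x = ψ (a * d) x := by rw [hc a ha]
    rw [map_mul, map_mul] at h1
    change ψ d (ψ a x) = ψ a (ψ d x) at h1
    rwa [hd] at h1
  let Dx : Subgroup D :=
    { carrier := {d | ψ d x = x}
      one_mem' := by show ψ 1 x = x; rw [map_one]; rfl
      mul_mem' := fun {c d} hc hd => by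
        show ψ (c * d) x = x
        rw [map_mul]
        show ψ c (ψ d x) = x
        rw [show ψ d x = x from hd]
        exact hc
      inv_mem' := fun {c} hc => by
        show ψ c⁻¹ x = x
        rw [map_inv]
        show (ψ c).symm x = x
        rw [MulEquiv.symm_apply_eq]
        exact hc.symm }
  letI : MulAction Dx {a : A // a ≠ 1} :=
    { smul := fun d a => ⟨⟨d.1 * a.1.1 * d.1⁻¹, ‹A.Normal›.conj_mem _ a.1.2 _⟩,
        fun e => a.2 (Subtype.ext (conj_eq_one_iff.1 (congrArg Subtype.val e)))⟩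
      one_smul := fun a => Subtype.ext (Subtype.ext (by show (1 : D) * a.1.1 * (1 : D)⁻¹ = _; simp))
      mul_smul := fun c d a => Subtype.ext (Subtype.ext (by
        show (c.1 * d.1) * a.1.1 * (c.1 * d.1)⁻¹ = c.1 * (d.1 * a.1.1 * d.1⁻¹) * c.1⁻¹
        group)) }
  have hdvd : Nat.card Dx ∣ Nat.card {a : A // a ≠ 1} := card_dvd_of_free_action fun d a he => by
    refine Subtype.ext ?_
    have hc : d.1 * a.1.1 = a.1.1 * d.1 := mul_inv_eq_iff_eq_mul.1 (congrArg (fun q => q.1.1) he)
    refine hfix d.1 x (ψ a.1.1 x) hx (fun e => hx ((map_eq_one_iff (ψ a.1.1) (ψ a.1.1).injective).1 e))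
      (fun e => a.2 (Subtype.ext (hfree _ a.1.2 x hx e.symm))) d.2 ?_
    have h1 : ψ (d.1 * a.1.1) x = ψ (a.1.1 * d.1) x := by rw [hc]
    rw [map_mul, map_mul] at h1
    change ψ d.1 (ψ a.1.1 x) = ψ a.1.1 (ψ d.1 x) at h1
    rwa [show ψ d.1 x = x from d.2] at h1
  haveI : Fintype A := Fintype.ofFinite A
  have hAodd : Odd (Nat.card A) := hodd.of_dvd_nat (Subgroup.card_subgroup_dvd_card A)
  have hA1 : 2 * s + 1 ≤ Nat.card A := by
    rw [show Nat.card Dx = s from hs, Nat.card_eq_fintype_card, Fintype.card_subtype_compl, Fintype.card_subtype_eq,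
      ← Nat.card_eq_fintype_card] at hdvd
    have hsodd : Odd s := by
      rw [← hs]
      exact hodd.of_dvd_nat (Subgroup.card_subgroup_dvd_card Dx)
    obtain ⟨j, hj⟩ := hdvd
    have hne1 : Nat.card A ≠ 1 := fun e => hAne (Subgroup.eq_bot_of_card_eq A e)
    have hpos : 0 < Nat.card A := Nat.card_pos
    rcases j with _ | _ | j
    · rw [mul_zero] at hj; omega
    · rw [zero_add, mul_one] at hj
      rw [Nat.odd_iff] at hAodd hsodd
      omega
    · have : s * 2 ≤ s * (j + 1 + 1) := Nat.mul_le_mul_left s (by omega)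
      omega
  have hreg : ∀ y : T, y ≠ 1 → ∃ a ∈ A, ψ a x = y := by
    intro y hy
    let f : A → {y : T // y ≠ 1} := fun a => ⟨ψ a.1 x, fun e => hx ((map_eq_one_iff (ψ a.1) (ψ a.1).injective).1 e)⟩
    have hfi : Function.Injective f := fun a b e => by
      have e1 : ψ a.1 x = ψ b.1 x := congrArg Subtype.val e
      refine Subtype.ext (inv_mul_eq_one.1 (hfree _ (A.mul_mem (A.inv_mem a.2) b.2) x hx ?_))
      rw [map_mul, map_inv]
      show (ψ a.1).symm (ψ b.1 x) = x
      rw [MulEquiv.symm_apply_eq]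
      exact e1.symm
    have hbij : Function.Bijective f := (Fintype.bijective_iff_injective_and_card f).2 ⟨hfi, by
      have h1 : Fintype.card {y : T // y ≠ 1} = Nat.card T - 1 := by
        rw [Fintype.card_subtype_compl, Fintype.card_subtype_eq, Nat.card_eq_fintype_card]
      have h2 := Fintype.card_le_of_injective f hfi
      rw [← Nat.card_eq_fintype_card] at h2 ⊢
      omega⟩
    obtain ⟨a, ha⟩ := hbij.2 ⟨y, hy⟩
    exact ⟨a.1, a.2, congrArg Subtype.val ha⟩
  rw [← hs]
  exact card_fix_le hsq hT ψ hψ A hA hx hreg hcent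

end Cfsg.Lib.TwoPointFive
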