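import Cfsg.Agent.TwoPointFive.HalfEven
import Cfsg.Agent.TwoPointFive.Semilinear
import Cfsg.Agent.FourGroupGW.Main
import Cfsg.Agent.GWFour.Consumers.Target
import Cfsg.Agent.Ree.PSL.Group
import Cfsg.Agent.UFourThreeType.OneClass
import Cfsg.Agent.InvolCalc.ZStarApps
import Cfsg.Agent.InvolCalc.Dihedral

/-!
Pair-transitive groups with stabiliser of order two in which all involutions have two fixed points (row 3262).
-/

set_option autoImplicit false
set_option linter.unusedSectionVars false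
set_option linter.style.haveILetI false

namespace Cfsg.Lib.TwoPointFive

open MulAction Subgroup
open scoped commutatorElement

universe u v

variable {X : Type u} {Φ : Type v} [Group X] [Finite X] [Finite Φ] [MulAction X Φ]

/-- The involutions commuting with `u`, with the identity. -/
def commInv (u : X) : Set X := {x | x * u = u * x ∧ x * x = 1}

namespace Half

variable (h : Half X Φ) {k : ℕ} (hk2 : 2 ≤ k) (hki : k < Nat.card Φ)
  (hk : ∀ u ∈ doubles X Φ, Nat.card (fixedBy Φ u) = k) (hoth : others X Φ = ∅)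
include h hk2 hki hk hoth

omit hk2 hki hk in
theorem all_doubles {x : X} (hx : x * x = 1) (hx1 : x ≠ 1) : x ∈ doubles X Φ :=
  (mem_doubles_or_others hx hx1).resolve_right fun ho => (Set.eq_empty_iff_forall_notMem.1 hoth x) ho

theorem card_eq_double : Nat.card Φ + k = 2 * (k * k) := by
  rcases h.dichotomy hk2 hki hk with e | e
  · exact e.2
  · exact absurd hoth (Set.nonempty_iff_ne_empty.1 e.1)

theorem card_X : Nat.card X = Nat.card Φ * (Nat.card Φ - 1) * 2 := by
  haveI : Nontrivial Φ := Finite.one_lt_card_iff_nontrivial.1 h.two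
  obtain ⟨a, b, hab⟩ := exists_pair_ne Φ
  rw [h.card_group hab, h.stab a b hab]

theorem card_doubles_eq : Nat.card (doubles X Φ) = 4 * (k * k) - 1 := by
  obtain ⟨j, rfl⟩ : ∃ j, k = j + 2 := ⟨k - 2, by omega⟩
  have h1 := h.card_doubles hk
  have h2 : Nat.card Φ = (j + 2) * (2 * j + 3) := by
    have := h.card_eq_double hk2 hki hk hoth
    ring_nf at this ⊢
    omega
  have h3 : Nat.card Φ - 1 = (2 * j + 5) * (j + 1) := by
    rw [h2]
    ring_nf
    omega
  rw [h3, h2, show (j + 2) * (2 * j + 3) * ((2 * j + 5) * (j + 1)) =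
    (2 * j + 3) * (2 * j + 5) * ((j + 2) * (j + 1)) by ring, show j + 2 - 1 = j + 1 by omega] at h1
  rw [Nat.eq_of_mul_eq_mul_right (by positivity) h1]
  ring_nf
  omega

/-- A non-trivial normal subgroup is transitive. -/
theorem normal_transitive {A : Subgroup X} (hA : A.Normal) (hne : A ≠ ⊥) (p q : Φ) : ∃ g ∈ A, g • p = q := by
  obtain ⟨n₀, hn₀, hn1⟩ := (Subgroup.bot_or_exists_ne_one A).resolve_left hne
  obtain ⟨a, ha⟩ : ∃ a : Φ, n₀ • a ≠ a := by
    by_contra! hh
    exact hn1 (h.faith n₀ hh)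
  have h1 : ∀ q : Φ, ∃ g ∈ A, g • a = q := fun q => by
    rcases eq_or_ne a q with rfl | hq
    · exact ⟨1, A.one_mem, one_smul X a⟩
    · obtain ⟨c, hc1, hc2⟩ := h.move a (n₀ • a) a q ha.symm hq
      exact ⟨c * n₀ * c⁻¹, hA.conj_mem n₀ hn₀ c, by rw [mul_smul, inv_smul_eq_iff.2 hc1.symm, mul_smul, hc2]⟩
  obtain ⟨g, hg, rfl⟩ := h1 p
  obtain ⟨g', hg', rfl⟩ := h1 q
  exact ⟨g' * g⁻¹, A.mul_mem hg' (A.inv_mem hg), by rw [mul_smul, inv_smul_smul]⟩

/-- For odd `k` no abelian normal subgroup: its order would be a prime power and a product of coprime numbers. -/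
theorem no_abelian_normal (hodd : Odd k) (A : Subgroup X) (hA : A.Normal) (hc : ∀ x ∈ A, ∀ y ∈ A, x * y = y * x) :
    A = ⊥ := by
  by_contra hne
  haveI : Nontrivial Φ := Finite.one_lt_card_iff_nontrivial.1 h.two
  obtain ⟨a⟩ := (inferInstance : Nonempty Φ)
  have htr := fun p q => h.normal_transitive hk2 hki hk hoth hA hne p q
  have hfree : ∀ g ∈ A, ∀ p : Φ, g • p = p → g = 1 := fun g hg p hgp => h.faith g fun q => by
    obtain ⟨c, hc', rfl⟩ := htr p q
    rw [smul_smul, hc g hg c hc', mul_smul, hgp]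
  have hb : Function.Bijective fun g : A => (g : X) • a := by
    refine ⟨fun x y hxy => Subtype.ext ?_, fun q => ?_⟩
    · exact (inv_mul_eq_one.1 (hfree _ (A.mul_mem (A.inv_mem y.2) x.2) a
        (by rw [mul_smul, inv_smul_eq_iff]; exact hxy))).symm
    · obtain ⟨g, hg, e⟩ := htr a q
      exact ⟨⟨g, hg⟩, e⟩
  have hcard : Nat.card A = Nat.card Φ := Nat.card_congr (Equiv.ofBijective _ hb)
  have hord : ∀ x y : A, x ≠ 1 → y ≠ 1 → orderOf x = orderOf y := by
    intro x y hx hy
    have hxa : a ≠ (x : X) • a := fun e => hx (Subtype.ext (hfree _ x.2 a e.symm))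
    have hya : a ≠ (y : X) • a := fun e => hy (Subtype.ext (hfree _ y.2 a e.symm))
    obtain ⟨g, hg1, hg2⟩ := h.move a ((x : X) • a) a ((y : X) • a) hxa hya
    have he : (⟨g * x.1 * g⁻¹, hA.conj_mem x.1 x.2 g⟩ : A) = y :=
      hb.1 (show (g * x.1 * g⁻¹) • a = y.1 • a by rw [mul_smul, inv_smul_eq_iff.2 hg1.symm, mul_smul, hg2])
    rw [← he, ← Subgroup.orderOf_coe x]
    rw [← Subgroup.orderOf_coe (⟨g * x.1 * g⁻¹, hA.conj_mem x.1 x.2 g⟩ : A)]
    exact ((MulAut.conj g).orderOf_eq x.1).symm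
  obtain ⟨j, rfl⟩ : ∃ j, k = j + 1 := ⟨k - 1, by omega⟩
  have hΦ : Nat.card Φ = (j + 1) * (2 * j + 1) := by
    have := h.card_eq_double hk2 hki hk hoth
    ring_nf at this ⊢
    omega
  obtain ⟨p, hp, hpk⟩ := Nat.exists_prime_and_dvd (show j + 1 ≠ 1 by omega)
  obtain ⟨q, hq, hqk⟩ := Nat.exists_prime_and_dvd (show 2 * j + 1 ≠ 1 by omega)
  haveI := Fact.mk hp
  haveI := Fact.mk hq
  obtain ⟨x, hx⟩ := exists_prime_orderOf_dvd_card' (G := A) p (by rw [hcard, hΦ]; exact hpk.mul_right _)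
  obtain ⟨y, hy⟩ := exists_prime_orderOf_dvd_card' (G := A) q (by rw [hcard, hΦ]; exact hqk.mul_left _)
  have hpq : p = q := by
    rw [← hx, ← hy]
    exact hord x y (fun e => hp.ne_one (by rw [← hx, e, orderOf_one])) fun e => hq.ne_one (by rw [← hy, e, orderOf_one])
  subst hpq
  have h1 : p ∣ 2 * (j + 1) := hpk.mul_left 2
  rw [show 2 * (j + 1) = 2 * j + 1 + 1 by ring] at h1
  exact hp.one_lt.ne' (Nat.dvd_one.1 ((Nat.dvd_add_right hqk).1 h1))

theorem no_solvable_normal (hodd : Odd k) (N : Subgroup X) (hN : N.Normal) [Group.IsSolvable N] : N = ⊥ := by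
  haveI := hN
  by_contra hne
  classical
  have hex : ∃ n, derivedSeries ↥N n = ⊥ := Group.IsSolvable.solvable
  obtain ⟨n, hn, hmin⟩ : ∃ n, derivedSeries ↥N n = ⊥ ∧ ∀ j, j < n → derivedSeries ↥N j ≠ ⊥ :=
    ⟨Nat.find hex, Nat.find_spec hex, fun j hj => Nat.find_min hex hj⟩
  rcases n with _ | n
  · rw [derivedSeries_zero] at hn
    exact hne ((Subgroup.eq_bot_iff_forall _).2 fun x hx => congrArg Subtype.val
      ((Subgroup.eq_bot_iff_forall _).1 hn (⟨x, hx⟩ : ↥N) (mem_top _)))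
  · have hA := h.no_abelian_normal hk2 hki hk hoth hodd ((derivedSeries ↥N n).map N.subtype) inferInstance (by
      rintro _ ⟨x, hx, rfl⟩ _ ⟨y, hy, rfl⟩
      have hm : ⁅(x : ↥N), y⁆ ∈ derivedSeries ↥N (n + 1) := by
        rw [derivedSeries_succ]
        exact commutator_mem_commutator hx hy
      rw [hn, Subgroup.mem_bot, commutatorElement_eq_one_iff_mul_comm] at hm
      rw [← map_mul, ← map_mul, hm])
    rw [Subgroup.map_eq_bot_iff_of_injective _ N.subtype_injective] at hA
    exact hmin n (Nat.lt_succ_self n) hA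

/-- For odd `k` the simple socle would have too many involutions. -/
theorem double_odd (hodd : Odd k) : False := by
  classical
  haveI : Fact (Nat.Prime 2) := ⟨Nat.prime_two⟩
  haveI : Nontrivial Φ := Finite.one_lt_card_iff_nontrivial.1 h.two
  obtain ⟨a₀, b₀, hab₀⟩ := exists_pair_ne Φ
  have hsq : ∀ y : X, y * y * (y * y) = 1 → y * y = 1 := fun y hy => by
    by_contra hne
    exact h.not_square hk2 hki hk (h.all_doubles hoth hy hne)
  have h2el : ∀ y : X, (∃ j : ℕ, y ^ 2 ^ j = 1) → y * y = 1 := by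
    rintro y ⟨j, hj⟩
    induction j generalizing y with
    | zero => rw [pow_zero, pow_one] at hj; rw [hj, one_mul]
    | succ j ih =>
      refine hsq y (ih (y * y) ?_)
      rw [← pow_two y, ← pow_mul, ← pow_succ']
      exact hj
  have hΦodd : Odd (Nat.card Φ) := by
    have := h.card_eq_double hk2 hki hk hoth
    rw [Nat.odd_iff] at hodd ⊢
    omega
  have h4 : 4 ∣ Nat.card X := by
    rw [h.card_X hk2 hki hk hoth]
    obtain ⟨l, hl⟩ := hΦodd
    exact ⟨(2 * l + 1) * l, by rw [hl, show 2 * l + 1 - 1 = 2 * l by omega]; ring⟩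
  obtain ⟨S⟩ := (inferInstance : Nonempty (Sylow 2 X))
  have hS4 : 4 ≤ Nat.card (S : Subgroup X) := by
    obtain ⟨D, hD⟩ := Sylow.exists_subgroup_card_pow_prime (G := X) 2 (n := 2) (by simpa using h4)
    obtain ⟨P, hP⟩ := (IsPGroup.of_card hD : IsPGroup 2 D).exists_le_sylow
    rw [Nat.card_congr (Sylow.equiv S P).toEquiv]
    calc 4 = Nat.card D := by rw [hD]; norm_num
      _ ≤ _ := Subgroup.card_le_of_le hP
  have hSsq : ∀ x ∈ (S : Subgroup X), x * x = 1 := fun x hx => by
    obtain ⟨j, hj⟩ := S.2 ⟨x, hx⟩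
    exact h2el x ⟨j, congrArg Subtype.val hj⟩
  obtain ⟨⟨u, huS⟩, hu1⟩ : ∃ u : (S : Subgroup X), u ≠ 1 := by
    haveI : Nontrivial (S : Subgroup X) := Finite.one_lt_card_iff_nontrivial.1 (by omega)
    exact exists_ne 1
  have hu1' : u ≠ 1 := fun e => hu1 (Subtype.ext e)
  have hud : u ∈ doubles X Φ := h.all_doubles hoth (hSsq u huS) hu1'
  have hSC : ∀ x ∈ (S : Subgroup X), x ∈ centralizer ({u} : Set X) := fun x hx => mem_centralizer_singleton_iff.2 (by
    calc x * u = (x * u)⁻¹ := (inv_eq_of_mul_eq_one_right (hSsq _ (mul_mem hx huS))).symm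
      _ = u * x := by rw [mul_inv_rev, inv_eq_of_mul_eq_one_right (hSsq u huS),
        inv_eq_of_mul_eq_one_right (hSsq x hx)])
  set ψ := restrictHom (centralizer ({u} : Set X)) (fixedBy Φ u) (h.cent_maps u) with hψ
  have hsharp := h.cent_sharp hud
  have hodd' : Odd (Nat.card (fixedBy Φ u)) := by rw [hk u hud]; exact hodd
  -- the Sylow subgroup is a four group
  have hS : IsKleinFour (S : Subgroup X) := by
    let f : (S : Subgroup X) →* ψ.range := ψ.rangeRestrict.comp (Subgroup.inclusion hSC)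
    obtain ⟨p, hp⟩ : ∃ p : fixedBy Φ u, ∀ x, f x • p = p := by
      letI : MulAction (S : Subgroup X) (fixedBy Φ u) := MulAction.compHom _ f
      obtain ⟨p, hp⟩ := S.2.nonempty_fixed_point_of_prime_not_dvd_card (fixedBy Φ u)
        (fun hd => by rw [Nat.odd_iff] at hodd'; omega)
      exact ⟨p, hp⟩
    have hker : Nat.card f.ker ≤ 2 := by
      haveI := Fintype.ofFinite f.ker
      rw [Nat.card_eq_fintype_card, ← Finset.card_univ]
      exact le_trans (Finset.card_le_card_of_injOn (fun y : f.ker => y.1.1) (t := ({1, u} : Finset X))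
        (fun y _ => by
          have h1 : ψ.rangeRestrict ⟨y.1.1, hSC _ y.1.2⟩ = 1 := MonoidHom.mem_ker.1 y.2
          simpa using h.fix_sub hud ((restrictHom_rangeRestrict_eq_one _).1 h1))
        fun y _ y' _ e => Subtype.ext (Subtype.ext e)) Finset.card_le_two
    have hrange : Nat.card f.range ≤ 2 := by
      by_contra hgt
      obtain ⟨⟨_, x₀, rfl⟩, hx⟩ : ∃ x : f.range, x ≠ 1 := by
        haveI : Nontrivial f.range := Finite.one_lt_card_iff_nontrivial.1 (by omega)
        exact exists_ne 1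
      have hall : ∀ y : f.range, y = 1 ∨ y = ⟨f x₀, x₀, rfl⟩ := by
        rintro ⟨_, y₀, rfl⟩
        by_cases hy : f y₀ = 1
        · exact Or.inl (Subtype.ext hy)
        refine Or.inr (Subtype.ext (hsharp.eq_of_fix hodd' ?_ hy ?_ (fun e => hx (Subtype.ext e)) (hp y₀) (hp x₀)))
        · rw [← map_mul, ← map_one f]; exact congrArg f (Subtype.ext (hSsq _ y₀.2))
        · rw [← map_mul, ← map_one f]; exact congrArg f (Subtype.ext (hSsq _ x₀.2))
      haveI := Fintype.ofFinite f.range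
      have : Nat.card f.range ≤ 2 := by
        rw [Nat.card_eq_fintype_card]
        calc Fintype.card f.range ≤ ({1, ⟨f x₀, x₀, rfl⟩} : Finset f.range).card :=
              Finset.card_le_card fun y _ => by simpa using hall y
          _ ≤ 2 := Finset.card_le_two
      omega
    have hc : Nat.card (S : Subgroup X) = 4 := by
      refine le_antisymm ?_ hS4
      have hmul := f.ker.card_mul_index
      rw [Subgroup.index_ker] at hmul
      rw [← hmul]
      exact Nat.mul_le_mul hker hrange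
    haveI : Nontrivial (S : Subgroup X) := Finite.one_lt_card_iff_nontrivial.1 (by omega)
    exact ⟨hc, (Nat.dvd_prime Nat.prime_two).1 (Monoid.exponent_dvd_of_forall_pow_eq_one (G := (S : Subgroup X))
      (n := 2) fun x => Subtype.ext (by rw [pow_two]; exact hSsq x.1 x.2)) |>.resolve_left fun e =>
        not_subsingleton (S : Subgroup X) (Monoid.exp_eq_one_iff.1 e)⟩
  have hns : ¬ Group.IsSolvable X := fun hs => by
    haveI := hs
    exact hu1' (Subgroup.mem_bot.1 (h.no_solvable_normal hk2 hki hk hoth hodd ⊤ inferInstance ▸ mem_top u))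
  obtain ⟨F, iF, iF', h8, h5, N, hN, -, ⟨e₀⟩, -⟩ :=
    Cfsg.Lib.GWFour.almost_simple Cfsg.Lib.GW.fourGroupProp S hS hns
  haveI := hN
  haveI : Group.IsSolvable ↥(Cfsg.oddCore X) :=
    Cfsg.Agent.PF.isSolvable_of_odd _ Cfsg.Lib.ZStarApps.odd_card_pPrimeCore
  have hO : Cfsg.oddCore X = ⊥ := h.no_solvable_normal hk2 hki hk hoth hodd _ inferInstance
  set π : X →* X ⧸ Cfsg.oddCore X := QuotientGroup.mk' _
  have hinj : Function.Injective π := (MonoidHom.ker_eq_bot_iff π).1 (by rw [QuotientGroup.ker_mk']; exact hO)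
  have hsur : Function.Surjective π := QuotientGroup.mk'_surjective _
  set L : Subgroup X := N.comap π
  haveI hLn : L.Normal := hN.comap π
  let fN : ↥L →* ↥N :=
    { toFun := fun x => ⟨π x.1, x.2⟩
      map_one' := Subtype.ext (map_one π)
      map_mul' := fun x y => Subtype.ext (map_mul π x.1 y.1) }
  let e : ↥L ≃* Matrix.ProjectiveSpecialLinearGroup (Fin 2) F := (MulEquiv.ofBijective fN
    ⟨fun x y e => Subtype.ext (hinj (Subtype.ext_iff.1 e)),
      fun y => (hsur y.1).elim fun x hx => ⟨⟨x, show π x ∈ N by rw [hx]; exact y.2⟩, Subtype.ext hx⟩⟩).trans e₀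
  have hFodd : Odd (Fintype.card F) := by rw [Nat.odd_iff]; omega
  -- the socle contains every involution
  obtain ⟨v, hvL, hv, hv1⟩ : ∃ v : X, v ∈ L ∧ v * v = 1 ∧ v ≠ 1 := by
    have hdvd : 2 ∣ Nat.card L := by
      rw [Nat.card_congr e.toEquiv]
      have h1 := (Cfsg.Lib.Classical.SLTwoTori.card_SL2 (F := F))
      obtain ⟨x, hx⟩ : ∃ x : Matrix.ProjectiveSpecialLinearGroup (Fin 2) F, orderOf x = 2 :=
        ⟨_, Cfsg.Lib.FourGW.orderOf_πJ hFodd⟩
      have := _root_.orderOf_dvd_natCard x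
      rwa [hx] at this
    obtain ⟨x, hx⟩ := exists_prime_orderOf_dvd_card' (G := L) 2 hdvd
    rw [← Subgroup.orderOf_coe] at hx
    exact ⟨x.1, x.2, InvolCalc.sq_of_order_two hx, InvolCalc.ne_one_of_order_two hx⟩
  have hUL : ∀ w ∈ doubles X Φ, w ∈ L := fun w hw => by
    obtain ⟨g, rfl⟩ := h.doubles_conj (h.all_doubles hoth hv hv1) hw
    exact hLn.conj_mem v hvL g
  set uL : L := ⟨u, hUL u hud⟩
  have huL : orderOf uL = 2 := by
    rw [← Subgroup.orderOf_coe]; exact InvolCalc.order_two_of_mul_self (hSsq u huS) hu1'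
  have hclass : ∀ w : L, orderOf w = 2 → ∃ g : L, g * uL * g⁻¹ = w := fun w hw => by
    obtain ⟨c, hc⟩ := isConj_iff.1 (Cfsg.Lib.Ree.PSL.psl_one_class hFodd (a := e uL) (b := e w)
      (by rw [MulEquiv.orderOf_eq]; exact huL) (by rw [MulEquiv.orderOf_eq]; exact hw))
    refine ⟨e.symm c, e.injective ?_⟩
    rw [map_mul, map_mul, map_inv, MulEquiv.apply_symm_apply, hc]
  have hcount := Cfsg.Lib.UFourThreeType.card_involutions huL hclass
  have hU : Nat.card {w : L // orderOf w = 2} = Nat.card (doubles X Φ) := by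
    refine Nat.card_congr
      { toFun := fun w => ⟨w.1.1, ?_⟩
        invFun := fun w => ⟨⟨w.1, hUL _ w.2⟩, ?_⟩
        left_inv := fun _ => rfl
        right_inv := fun _ => rfl }
    · have hw := w.2
      rw [← Subgroup.orderOf_coe] at hw
      exact h.all_doubles hoth (InvolCalc.sq_of_order_two hw) (InvolCalc.ne_one_of_order_two hw)
    · rw [← Subgroup.orderOf_coe]; exact InvolCalc.order_two_of_mul_self w.2.1 w.2.2.1
  obtain ⟨hcP, hcC, -⟩ := Cfsg.Lib.Ree.PSL.involution_centralizer hFodd (a := e uL)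
    (by rw [MulEquiv.orderOf_eq]; exact huL)
  have hCc : Nat.card (centralizer ({uL} : Set L)) =
      Nat.card (centralizer ({e uL} : Set (Matrix.ProjectiveSpecialLinearGroup (Fin 2) F))) :=
    Nat.card_congr
      { toFun := fun x => ⟨e x.1, mem_centralizer_singleton_iff.2 (by
          rw [← map_mul, ← map_mul]; exact congrArg e (mem_centralizer_singleton_iff.1 x.2))⟩
        invFun := fun y => ⟨e.symm y.1, mem_centralizer_singleton_iff.2 (e.injective (by
          rw [map_mul, map_mul, MulEquiv.apply_symm_apply]; exact mem_centralizer_singleton_iff.1 y.2))⟩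
        left_inv := fun x => Subtype.ext (e.symm_apply_apply x.1)
        right_inv := fun y => Subtype.ext (e.apply_symm_apply y.1) }
  rw [hcC] at hCc
  rw [hU, Nat.card_congr e.toEquiv, h.card_doubles_eq hk2 hki hk hoth, hCc] at hcount
  -- the centraliser in the socle moves the fixed points of `u`
  let g : centralizer ({uL} : Set L) →* ψ.range := ψ.rangeRestrict.comp
    ((L.subtype.comp (centralizer ({uL} : Set L)).subtype).codRestrict (centralizer ({u} : Set X))
      fun x => mem_centralizer_singleton_iff.2 (congrArg Subtype.val (mem_centralizer_singleton_iff.1 x.2)))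
  have hgker : Nat.card g.ker ≤ 2 := by
    haveI := Fintype.ofFinite g.ker
    rw [Nat.card_eq_fintype_card, ← Finset.card_univ]
    exact le_trans (Finset.card_le_card_of_injOn (fun y : g.ker => (y.1.1 : X)) (t := ({1, u} : Finset X))
      (fun y _ => by simpa using h.fix_sub hud ((restrictHom_rangeRestrict_eq_one _).1 (MonoidHom.mem_ker.1 y.2)))
      fun y _ y' _ e => Subtype.ext (Subtype.ext (Subtype.ext e))) Finset.card_le_two
  have hC4 : 4 ≤ Nat.card (centralizer ({uL} : Set L)) := by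
    rw [hCc]; split_ifs <;> omega
  have hmul := g.ker.card_mul_index
  rw [Subgroup.index_ker] at hmul
  haveI hgn : g.range.Normal := by
    refine ⟨fun x hx r => ?_⟩
    obtain ⟨y, rfl⟩ := hx
    obtain ⟨c, rfl⟩ := ψ.rangeRestrict_surjective r
    have hc : c.1 * u * c.1⁻¹ = u := mul_inv_eq_iff_eq_mul.2 (mem_centralizer_singleton_iff.1 c.2)
    refine ⟨⟨⟨c.1 * y.1.1 * c.1⁻¹, hLn.conj_mem _ y.1.2 c.1⟩, mem_centralizer_singleton_iff.2 (Subtype.ext ?_)⟩, ?_⟩
    · show c.1 * y.1.1 * c.1⁻¹ * u = u * (c.1 * y.1.1 * c.1⁻¹)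
      have hy : y.1.1 * u = u * y.1.1 := congrArg Subtype.val (mem_centralizer_singleton_iff.1 y.2)
      calc c.1 * y.1.1 * c.1⁻¹ * u = c.1 * y.1.1 * c.1⁻¹ * (c.1 * u * c.1⁻¹) := by rw [hc]
        _ = c.1 * (y.1.1 * u) * c.1⁻¹ := by group
        _ = c.1 * (u * y.1.1) * c.1⁻¹ := by rw [hy]
        _ = c.1 * u * c.1⁻¹ * (c.1 * y.1.1 * c.1⁻¹) := by group
        _ = u * (c.1 * y.1.1 * c.1⁻¹) := by rw [hc]
    · show ψ.rangeRestrict _ = ψ.rangeRestrict c * ψ.rangeRestrict _ * (ψ.rangeRestrict c)⁻¹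
      rw [← map_inv, ← map_mul, ← map_mul]
      exact congrArg _ (Subtype.ext rfl)
  have htr : MulAction.IsPretransitive g.range (fixedBy Φ u) := by
    obtain ⟨⟨r, hr⟩, hr1⟩ : ∃ r : g.range, r ≠ 1 := by
      haveI : Nontrivial g.range := Finite.one_lt_card_iff_nontrivial.1 (by
        by_contra hh
        have := Nat.mul_le_mul hgker (show Nat.card g.range ≤ 1 by omega)
        omega)
      exact exists_ne 1
    obtain ⟨p₀, hp₀⟩ : ∃ p : fixedBy Φ u, r • p ≠ p := by
      by_contra! hh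
      obtain ⟨p, q, hpq⟩ := hsharp.exists_pair
      exact hr1 (Subtype.ext (hsharp.triv r p q hpq (hh p) (hh q)))
    have h1 : ∀ q : fixedBy Φ u, ∃ x ∈ g.range, x • p₀ = q := fun q => by
      rcases eq_or_ne p₀ q with rfl | hq
      · exact ⟨1, g.range.one_mem, one_smul _ _⟩
      · obtain ⟨c, hc1, hc2⟩ := hsharp.move p₀ (r • p₀) p₀ q (Ne.symm hp₀) hq
        exact ⟨c * r * c⁻¹, hgn.conj_mem r hr c, by rw [mul_smul, inv_smul_eq_iff.2 hc1.symm, mul_smul, hc2]⟩
    refine ⟨fun p q => ?_⟩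
    obtain ⟨x, hx, rfl⟩ := h1 p
    obtain ⟨y, hy, rfl⟩ := h1 q
    exact ⟨⟨y * x⁻¹, mul_mem hy (inv_mem hx)⟩, show (y * x⁻¹) • x • p₀ = _ by rw [mul_smul, inv_smul_smul]⟩
  obtain ⟨p₀⟩ : Nonempty (fixedBy Φ u) := ⟨(hsharp.exists_pair).choose⟩
  have hkdvd : k ∣ Nat.card (centralizer ({uL} : Set L)) := by
    have h1 := (stabilizer g.range p₀).index_dvd_card
    rw [index_stabilizer_of_transitive, hk u hud] at h1
    exact h1.trans ⟨Nat.card g.ker, by rw [mul_comm]; exact hmul.symm⟩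
  rw [hCc] at hkdvd
  -- arithmetic
  set q := Fintype.card F
  obtain ⟨a, haq⟩ : ∃ a, (if q % 4 = 1 then q - 1 else q + 1) = 4 * a := ⟨(if q % 4 = 1 then q - 1 else q + 1) / 4, by
    split_ifs <;> omega⟩
  rw [haq] at hkdvd hcount
  have hka : k ∣ a := by
    refine Nat.Coprime.dvd_of_dvd_mul_left ?_ hkdvd
    exact Nat.Coprime.pow_right 2 (Nat.coprime_two_right.2 hodd)
  have hapos : 0 < a := by split_ifs at haq <;> omega
  have hle : k ≤ a := Nat.le_of_dvd hapos hka
  rw [← hcount] at hcP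
  by_cases hmod : q % 4 = 1
  · rw [if_pos hmod] at haq
    have hq : q = 4 * a + 1 := by omega
    rw [hq, show (4 * a + 1) * (4 * a + 1) - 1 = (4 * a) * (4 * a + 2) by ring_nf; omega,
      show 2 * ((4 * (k * k) - 1) * (4 * a)) = (4 * (k * k) - 1) * 2 * (4 * a) by ring,
      show (4 * a + 1) * (4 * a * (4 * a + 2)) = (4 * a + 1) * (4 * a + 2) * (4 * a) by ring] at hcP
    have h1 := Nat.eq_of_mul_eq_mul_right (by omega) hcP
    have h2 : (4 * k + 1) * (4 * k + 2) ≤ (4 * a + 1) * (4 * a + 2) := Nat.mul_le_mul (by omega) (by omega)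
    ring_nf at h1 h2
    omega
  · rw [if_neg hmod] at haq
    obtain ⟨b, rfl⟩ : ∃ b, a = b + 1 := ⟨a - 1, by omega⟩
    obtain ⟨l, rfl⟩ : ∃ l, k = l + 2 := ⟨k - 2, by omega⟩
    have hq : q = 4 * b + 3 := by omega
    rw [hq, show (4 * b + 3) * (4 * b + 3) - 1 = (4 * b + 2) * (4 * (b + 1)) by ring_nf; omega,
      show 2 * ((4 * ((l + 2) * (l + 2)) - 1) * (4 * (b + 1))) = (4 * ((l + 2) * (l + 2)) - 1) * 2 * (4 * (b + 1))
        by ring, ← mul_assoc (4 * b + 3)] at hcP
    have h1 := Nat.eq_of_mul_eq_mul_right (by omega) hcP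
    have h2 : (4 * l + 7) * (4 * l + 6) ≤ (4 * b + 3) * (4 * b + 2) := Nat.mul_le_mul (by omega) (by omega)
    ring_nf at h1 h2
    omega

/-- For even `k` the involutions commuting with one form an elementary abelian group, and the bound follows. -/
theorem double_even {j : ℕ} (hj : k = 2 ^ j) : k - 1 ≤ j + 1 := by
  classical
  haveI : Nontrivial Φ := Finite.one_lt_card_iff_nontrivial.1 h.two
  obtain ⟨a₀, b₀, hab₀⟩ := exists_pair_ne Φ
  obtain ⟨u, hu, -⟩ := h.exists_stab hab₀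
  have hj1 : 1 ≤ j := by
    rcases j with _ | j
    · rw [pow_zero] at hj; omega
    · omega
  have heven : Even k := hj ▸ (Nat.even_pow.2 ⟨even_two, by omega⟩)
  have heven' : ∀ w ∈ doubles X Φ, Even (Nat.card (fixedBy Φ w)) := fun w hw => by rw [hk w hw]; exact heven
  -- lifts of involutions
  have hlift : ∀ w ∈ doubles X Φ, ∀ c : centralizer ({w} : Set X),
      (restrictHom _ (fixedBy Φ w) (h.cent_maps w)).rangeRestrict c *
        (restrictHom _ (fixedBy Φ w) (h.cent_maps w)).rangeRestrict c = 1 → c.1 * c.1 = 1 := by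
    intro w hw c hc
    by_cases hc1 : ∀ p ∈ fixedBy Φ w, c.1 • p = p
    · rcases h.fix_sub hw hc1 with e | e <;> rw [e]
      · exact one_mul 1
      · exact hw.1
    · push Not at hc1
      obtain ⟨p, hp, hcp⟩ := hc1
      refine h.swap_sq hk2 hki hk (a := p) (b := c.1 • p) hcp.symm ⟨rfl, ?_⟩
      have := congrArg (fun r => ((r • (⟨p, hp⟩ : fixedBy Φ w)) : fixedBy Φ w).1) hc
      simp only [one_smul, mul_smul] at this
      exact this
  have hmulmem : ∀ w ∈ doubles X Φ, ∀ x ∈ commInv w, ∀ y ∈ commInv w, x * y ∈ commInv w := by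
    rintro w hw x ⟨hxw, hx2⟩ y ⟨hyw, hy2⟩
    have hxC : x ∈ centralizer ({w} : Set X) := mem_centralizer_singleton_iff.2 hxw
    have hyC : y ∈ centralizer ({w} : Set X) := mem_centralizer_singleton_iff.2 hyw
    refine ⟨by rw [mul_assoc, hyw, ← mul_assoc, hxw, mul_assoc], ?_⟩
    refine hlift w hw ⟨x * y, mul_mem hxC hyC⟩ ?_
    set φ := (restrictHom (centralizer ({w} : Set X)) (fixedBy Φ w) (h.cent_maps w)).rangeRestrict
    rw [show (⟨x * y, mul_mem hxC hyC⟩ : centralizer ({w} : Set X)) = ⟨x, hxC⟩ * ⟨y, hyC⟩ from rfl, map_mul]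
    have hx' : φ ⟨x, hxC⟩ * φ ⟨x, hxC⟩ = 1 := by rw [← map_mul, ← map_one φ]; exact congrArg φ (Subtype.ext hx2)
    have hy' : φ ⟨y, hyC⟩ * φ ⟨y, hyC⟩ = 1 := by rw [← map_mul, ← map_one φ]; exact congrArg φ (Subtype.ext hy2)
    have hc : φ ⟨x, hxC⟩ * φ ⟨y, hyC⟩ = φ ⟨y, hyC⟩ * φ ⟨x, hxC⟩ := by
      by_cases h1 : φ ⟨x, hxC⟩ = 1
      · rw [h1, one_mul, mul_one]
      by_cases h2 : φ ⟨y, hyC⟩ = 1
      · rw [h2, one_mul, mul_one]
      exact (h.cent_sharp hw).commute_of_even (heven' w hw) hx' h1 hy' h2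
    rw [mul_assoc, ← mul_assoc (φ ⟨y, hyC⟩), ← hc, mul_assoc (φ ⟨x, hxC⟩), hy', mul_one, hx']
  let T : Subgroup X :=
    { carrier := commInv u
      one_mem' := ⟨by rw [one_mul, mul_one], one_mul 1⟩
      mul_mem' := fun {x y} hx hy => hmulmem u hu x hx y hy
      inv_mem' := fun {x} hx => by rw [inv_eq_of_mul_eq_one_right hx.2]; exact hx }
  have hTsq : ∀ x : T, x * x = 1 := fun x => Subtype.ext x.2.2
  have hTcomm : ∀ x ∈ T, ∀ y ∈ T, x * y = y * x := fun x hx y hy => by
    calc x * y = (x * y)⁻¹ := (inv_eq_of_mul_eq_one_right (T.mul_mem hx hy).2).symm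
      _ = y * x := by rw [mul_inv_rev, inv_eq_of_mul_eq_one_right hx.2, inv_eq_of_mul_eq_one_right hy.2]
  -- its order
  have hTu : u ∈ T := ⟨rfl, hu.1⟩
  have hTC : ∀ x : T, x.1 ∈ centralizer ({u} : Set X) := fun x => mem_centralizer_singleton_iff.2 x.2.1
  have hTcard : Nat.card T = 2 * k := by
    letI : MulAction T (fixedBy Φ u) :=
      { smul := fun x p => ⟨x.1 • p.1, h.cent_maps u x.1 (hTC x) p.1 p.2⟩
        one_smul := fun p => Subtype.ext (one_smul X p.1)
        mul_smul := fun x y p => Subtype.ext (mul_smul x.1 y.1 p.1) }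
    obtain ⟨p₀, q₀, hpq₀⟩ := (h.cent_sharp hu).exists_pair
    have key : ∀ q : fixedBy Φ u, ∃ x : T, x.1 • p₀.1 = q.1 := by
      intro q
      rcases eq_or_ne p₀ q with rfl | hne
      · exact ⟨1, one_smul X p₀.1⟩
      · have hne' : p₀.1 ≠ q.1 := fun e => hne (Subtype.ext e)
        obtain ⟨s, hs, hsw⟩ := h.exists_swap hk2 hki hk hne'
        obtain ⟨u', hu', ha, hb, hcomm, -⟩ := h.swappers hk2 hki hk hs hne' hsw hsw
        have : u' = u := (h.eq_of_fix hu hne' p₀.2 q.2 ha hb).resolve_left hu'.2.1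
        subst this
        exact ⟨⟨s, hcomm.symm, hs.1⟩, hsw.1⟩
    haveI : MulAction.IsPretransitive T (fixedBy Φ u) := ⟨fun p q => by
      obtain ⟨x, hx⟩ := key p
      obtain ⟨y, hy⟩ := key q
      refine ⟨y * x⁻¹, Subtype.ext ?_⟩
      show (y.1 * x.1⁻¹) • p.1 = q.1
      rw [mul_smul, ← hx, inv_smul_smul, hy]⟩
    have hst : Nat.card (stabilizer T p₀) = 2 := by
      rw [Nat.card_eq_two_iff' (1 : stabilizer T p₀)]
      refine ⟨⟨⟨u, hTu⟩, Subtype.ext p₀.2⟩, fun e => hu.2.1 (congrArg (fun y : stabilizer T p₀ => y.1.1) e),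
        fun y hy => ?_⟩
      have hyp : y.1.1 • p₀.1 = p₀.1 := congrArg Subtype.val y.2
      by_contra hne
      refine (h.cent_sharp hu).free_of_even (heven' u hu)
        (s := (restrictHom _ (fixedBy Φ u) (h.cent_maps u)).rangeRestrict ⟨y.1.1, hTC y.1⟩) ?_ ?_ p₀ (Subtype.ext hyp)
      · rw [← map_mul, ← map_one (restrictHom _ (fixedBy Φ u) (h.cent_maps u)).rangeRestrict]
        exact congrArg _ (Subtype.ext y.1.2.2)
      · intro e1
        rcases h.fix_sub hu ((restrictHom_rangeRestrict_eq_one _).1 e1) with e2 | e2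
        · exact hy (Subtype.ext (Subtype.ext e2))
        · exact hne (Subtype.ext (Subtype.ext e2))
    have h1 := (stabilizer T p₀).card_mul_index
    rw [index_stabilizer_of_transitive, hst, hk u hu] at h1
    exact h1.symm
  -- every member sees the same group
  have hTI : ∀ y ∈ T, y ≠ 1 → ∀ x : X, x ∈ T ↔ x * y = y * x ∧ x * x = 1 := by
    intro y hy hy1 x
    refine ⟨fun hx => ⟨hTcomm x hx y hy, hx.2⟩, fun ⟨hxy, hx2⟩ => ?_⟩
    have hxC : x * u = u * x := by
      have := (hmulmem y (h.all_doubles hoth hy.2 hy1) x ⟨hxy, hx2⟩ u ⟨(hTcomm y hy u hTu).symm, hu.1⟩).2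
      calc x * u = (x * u)⁻¹ := (inv_eq_of_mul_eq_one_right this).symm
        _ = u * x := by rw [mul_inv_rev, inv_eq_of_mul_eq_one_right hu.1, inv_eq_of_mul_eq_one_right hx2]
    exact ⟨hxC, hx2⟩
  have hnorm : ∀ g : X, ∀ y ∈ T, y ≠ 1 → g * y * g⁻¹ ∈ T → g ∈ normalizer (T : Set X) := by
    intro g y hy hy1 hgy
    refine Cfsg.Lib.ZStarApps.mem_normalizer_of_maps fun x hx => ?_
    refine (hTI _ hgy (fun e => hy1 (conj_eq_one_iff.1 e)) _).2 ⟨?_, ?_⟩
    · rw [show g * x * g⁻¹ * (g * y * g⁻¹) = g * (x * y) * g⁻¹ by group, hTcomm x hx y hy]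
      group
    · rw [show g * x * g⁻¹ * (g * x * g⁻¹) = g * (x * x) * g⁻¹ by group, hx.2, mul_one, mul_inv_cancel]
  set ψ := T.normalizerMonoidHom
  have hψa : ∀ (g : normalizer (T : Set X)) (y : T), (ψ g y : X) = g.1 * y.1 * g.1⁻¹ := fun _ _ => rfl
  -- an element fixing two members centralises all of them
  have hfixg : ∀ (g : normalizer (T : Set X)) (x y : T), x ≠ 1 → y ≠ 1 → x ≠ y → ψ g x = x → ψ g y = y →
      g.1 ∈ T := by
    intro g x y hx hy hxy hgx hgy
    have hgx' : g.1 * x.1 = x.1 * g.1 := mul_inv_eq_iff_eq_mul.1 ((hψa g x).symm.trans (congrArg Subtype.val hgx))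
    have hgy' : g.1 * y.1 = y.1 * g.1 := mul_inv_eq_iff_eq_mul.1 ((hψa g y).symm.trans (congrArg Subtype.val hgy))
    have hxd : x.1 ∈ doubles X Φ := h.all_doubles hoth x.2.2 fun e => hx (Subtype.ext e)
    set φ := (restrictHom (centralizer ({x.1} : Set X)) (fixedBy Φ x.1) (h.cent_maps x.1)).rangeRestrict with hφ
    set cg : centralizer ({x.1} : Set X) := ⟨g.1, mem_centralizer_singleton_iff.2 hgx'⟩
    set cy : centralizer ({x.1} : Set X) := ⟨y.1, mem_centralizer_singleton_iff.2 (hTcomm _ y.2 _ x.2)⟩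
    have hy2 : φ cy * φ cy = 1 := by rw [← map_mul, ← map_one φ]; exact congrArg φ (Subtype.ext y.2.2)
    have hy1 : φ cy ≠ 1 := fun e => by
      rcases h.fix_sub hxd ((restrictHom_rangeRestrict_eq_one _).1 e) with e2 | e2
      · exact hy (Subtype.ext e2)
      · exact hxy (Subtype.ext e2).symm
    have hg2 : φ cg * φ cg = 1 := by
      by_cases hfree : ∀ p : fixedBy Φ x.1, φ cg • p ≠ p
      · exact (((h.cent_sharp hxd).free_iff (heven' _ hxd) _).1 hfree).1
      · push Not at hfree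
        obtain ⟨p, hp⟩ := hfree
        have hp' : φ cg • φ cy • p = φ cy • p := by
          rw [smul_smul, ← map_mul, show cg * cy = cy * cg from Subtype.ext hgy', map_mul, mul_smul, hp]
        rw [(h.cent_sharp hxd).triv (φ cg) p (φ cy • p)
          (fun e => (h.cent_sharp hxd).free_of_even (heven' _ hxd) hy2 hy1 p e.symm) hp hp', one_mul]
    exact (hTI x.1 x.2 (fun e => hx (Subtype.ext e)) g.1).2 ⟨hgx', hlift _ hxd cg hg2⟩
  have hTker : ∀ g : normalizer (T : Set X), g.1 ∈ T → ψ g = 1 := fun g hg =>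
    MulEquiv.ext fun y => Subtype.ext (by
      rw [hψa, hTcomm _ hg _ y.2, mul_inv_cancel_right]; rfl)
  set D := ψ.range
  let ι : D →* MulAut T := D.subtype
  set uT : T := ⟨u, hTu⟩
  have huT : uT ≠ 1 := fun e => hu.2.1 (congrArg Subtype.val e)
  have htrans : ∀ x y : T, x ≠ 1 → y ≠ 1 → ∃ d : D, ι d x = y := by
    intro x y hx hy
    obtain ⟨g, hg⟩ := h.doubles_conj (h.all_doubles hoth x.2.2 fun e => hx (Subtype.ext e))
      (h.all_doubles hoth y.2.2 fun e => hy (Subtype.ext e))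
    exact ⟨⟨_, ⟨g, hnorm g x.1 x.2 (fun e => hx (Subtype.ext e)) (hg.symm ▸ y.2)⟩, rfl⟩, Subtype.ext hg⟩
  have hfix : ∀ (d : D) (x y : T), x ≠ 1 → y ≠ 1 → x ≠ y → ι d x = x → ι d y = y → d = 1 := by
    rintro ⟨_, g, rfl⟩ x y hx hy hxy hgx hgy
    exact Subtype.ext (hTker g (hfixg g x y hx hy hxy hgx hgy))
  -- the stabiliser
  set C := centralizer ({u} : Set X) with hC
  have hCN : C ≤ normalizer (T : Set X) := fun c hc => hnorm c u hTu hu.2.1 (by
    rw [mem_centralizer_singleton_iff.1 hc, mul_inv_cancel_right]; exact hTu)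
  have hCcard : Nat.card C = 2 * (k * (k - 1)) := by
    set φ := restrictHom C (fixedBy Φ u) (h.cent_maps u)
    have hker : Nat.card φ.ker = 2 := by
      rw [Nat.card_eq_two_iff' (1 : φ.ker)]
      refine ⟨⟨⟨u, mem_centralizer_singleton_iff.2 rfl⟩, (restrictHom_eq_one _).2 fun p hp => hp⟩,
        fun e => hu.2.1 (congrArg (fun y : φ.ker => y.1.1) e), fun y hy => ?_⟩
      rcases h.fix_sub hu ((restrictHom_eq_one _).1 y.2) with e | e
      · exact absurd (Subtype.ext (Subtype.ext e)) hy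
      · exact Subtype.ext (Subtype.ext e)
    have h1 := φ.ker.card_mul_index
    rw [Subgroup.index_ker, hker, (h.cent_sharp hu).card_eq, hk u hu] at h1
    exact h1.symm
  let Du : Subgroup D := ((stabilizer (MulAut T) uT).comap ι)
  have hDu : Nat.card Du = k - 1 := by
    let f : C →* D := ψ.rangeRestrict.comp (Subgroup.inclusion hCN)
    have hran : f.range = Du := by
      refine le_antisymm ?_ ?_
      · rintro _ ⟨c, rfl⟩
        refine Subtype.ext ?_
        show c.1 * u * c.1⁻¹ = u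
        rw [mem_centralizer_singleton_iff.1 c.2, mul_inv_cancel_right]
      · rintro ⟨_, g, rfl⟩ hd
        exact ⟨⟨g.1, mem_centralizer_singleton_iff.2 (mul_inv_eq_iff_eq_mul.1 (congrArg Subtype.val hd))⟩, rfl⟩
    have hker : Nat.card f.ker = 2 * k := by
      rw [← hTcard]
      refine Nat.card_congr
        { toFun := fun c => ⟨c.1.1, ?_⟩
          invFun := fun x => ⟨⟨x.1, mem_centralizer_singleton_iff.2 x.2.1⟩,
            Subtype.ext (hTker _ x.2)⟩
          left_inv := fun _ => rfl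
          right_inv := fun _ => rfl }
      obtain ⟨⟨y, hy⟩, hyn⟩ : ∃ y : T, y ∉ ({1, uT} : Finset T) := by
        by_contra! hh
        haveI := Fintype.ofFinite T
        have := Finset.card_le_card (show (Finset.univ : Finset T) ⊆ {1, uT} from fun y _ => hh y)
        rw [Finset.card_univ, ← Nat.card_eq_fintype_card, hTcard] at this
        have := (Finset.card_le_two (a := (1 : T)) (b := uT))
        omega
      simp only [Finset.mem_insert, Finset.mem_singleton, not_or] at hyn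
      have h1 : ψ ⟨c.1.1, hCN c.1.2⟩ = 1 := congrArg Subtype.val (MonoidHom.mem_ker.1 c.2)
      exact hfixg ⟨c.1.1, hCN c.1.2⟩ uT ⟨y, hy⟩ huT hyn.1 (Ne.symm hyn.2) (by rw [h1]; rfl) (by rw [h1]; rfl)
    have h1 := f.ker.card_mul_index
    rw [Subgroup.index_ker, hker, hran, hCcard, ← mul_assoc] at h1
    exact Nat.eq_of_mul_eq_mul_left (by omega) h1
  have hDodd : Odd (Nat.card D) := by
    letI : MulAction D {y : T // y ≠ 1} :=
      { smul := fun d y => ⟨ι d y.1, fun e => y.2 ((map_eq_one_iff (ι d) (ι d).injective).1 e)⟩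
        one_smul := fun y => Subtype.ext rfl
        mul_smul := fun c d y => Subtype.ext rfl }
    haveI : MulAction.IsPretransitive D {y : T // y ≠ 1} := ⟨fun x y => by
      obtain ⟨d, hd⟩ := htrans x.1 y.1 x.2 y.2
      exact ⟨d, Subtype.ext hd⟩⟩
    have h1 := (stabilizer D (⟨uT, huT⟩ : {y : T // y ≠ 1})).card_mul_index
    rw [index_stabilizer_of_transitive, show stabilizer D (⟨uT, huT⟩ : {y : T // y ≠ 1}) = Du from by
      ext d
      exact ⟨fun e => congrArg Subtype.val (e : d • (⟨uT, huT⟩ : {y : T // y ≠ 1}) = _),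
        fun e => Subtype.ext e⟩, hDu] at h1
    rw [← h1]
    haveI := Fintype.ofFinite T
    refine Odd.mul ?_ ?_
    · obtain ⟨l, hl⟩ := heven
      exact ⟨l - 1, by omega⟩
    · rw [Nat.card_eq_fintype_card, Fintype.card_subtype_compl, Fintype.card_subtype_eq, ← Nat.card_eq_fintype_card,
        hTcard]
      exact ⟨k - 1, by omega⟩
  exact odd_transitive_bound hTsq (m := j + 1) (by omega) (by rw [hTcard, hj, pow_succ']) ι D.subtype_injective hDodd
    htrans hfix huT (by exact hDu) (by rw [hTcard]; omega)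

end Half

end Cfsg.Lib.TwoPointFive
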