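import Cfsg.Agent.TwoPointFive.Endgame
import Cfsg.Agent.TwoPointFive.CaseTwoSym
import Cfsg.Agent.TwoPointFive.CaseTwoCentral
import Cfsg.Agent.TwoPointFive.HalfDouble
import Cfsg.Agent.Recognition.MathieuEleven.Main

/-!
Doubly transitive groups with two-point stabiliser `A₅` (row 3262).
-/

set_option autoImplicit false
set_option linter.unusedSectionVars false
set_option linter.style.haveILetI false

namespace Cfsg.Lib.TwoPointFive

open MulAction Subgroup Equiv

universe u v

variable {G : Type u} {Ω : Type v} [Group G] [Finite G] [Finite Ω] [MulAction G Ω]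

namespace TwoA5

variable (h : TwoA5 G Ω) {i : ℕ} (hi2 : 2 ≤ i) (hin : i < Nat.card Ω)
  (hi : ∀ u ∈ doubles G Ω, Nat.card (fixedBy Ω u) = i)
include h hi2 hin hi

theorem main_sym_two (hK : ∀ u ∈ doubles G Ω, ∀ g ∈ kerOf Ω u, g = 1 ∨ g = u)
    (hS : ∀ a b : Ω, a ≠ b → ∀ z : G, ¬ IsCentral a b z) : Nat.card Ω = 12 := by
  haveI : Fact (Nat.Prime 2) := ⟨Nat.prime_two⟩
  haveI := h.nontrivial
  obtain ⟨a, b, hab⟩ := exists_pair_ne Ω
  obtain ⟨-, hall, -⟩ := h.sType_facts hi2 hin hi hab (hS a b hab)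
  obtain ⟨Q⟩ := (inferInstance : Nonempty (Sylow 2 G))
  haveI : Nontrivial ↥(Q : Subgroup G) := Finite.one_lt_card_iff_nontrivial.1 (by
    have h2 : 2 ∣ Nat.card G := ⟨Nat.card Ω * (Nat.card Ω - 1) * 30, by rw [h.card_G]; ring⟩
    have := Q.dvd_card_of_dvd_card h2
    have := Nat.card_pos (α := (Q : Subgroup G))
    omega)
  haveI : Nontrivial (Subgroup.center ↥(Q : Subgroup G)) := Q.2.center_nontrivial
  obtain ⟨c, hc⟩ := exists_prime_orderOf_dvd_card' (G := Subgroup.center ↥(Q : Subgroup G)) 2 (by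
    obtain ⟨j, hj⟩ := IsPGroup.iff_card.1 (Q.2.to_subgroup (Subgroup.center ↥(Q : Subgroup G)))
    have := Finite.one_lt_card (α := Subgroup.center ↥(Q : Subgroup G))
    rcases j with _ | j
    · rw [pow_zero] at hj; omega
    · rw [hj, pow_succ]; exact Dvd.intro_left _ rfl)
  have hu2 : orderOf c.1.1 = 2 := by rw [orderOf_coe, orderOf_coe, hc]
  have hud := hall c.1.1 (InvolCalc.sq_of_order_two hu2) (InvolCalc.ne_one_of_order_two hu2)
  have hQC : (Q : Subgroup G) ≤ centralizer ({c.1.1} : Set G) := fun x hx =>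
    mem_centralizer_singleton_iff.2 (congrArg Subtype.val (Subgroup.mem_center_iff.1 c.2 ⟨x, hx⟩))
  obtain ⟨k, hk2, hki, hk⟩ := (h.half_cent hK hud).exists_k
  rcases Nat.even_or_odd k with hpar | hpar
  · exact h.caseTwo_sym_even hi2 hin hi hK hS hud hk2 hki hk hpar
  · exact (h.caseTwo_sym_odd hi2 hin hi hK hS hud Q hQC hk2 hki hk hpar).elim

theorem main_central_two (hK : ∀ u ∈ doubles G Ω, ∀ g ∈ kerOf Ω u, g = 1 ∨ g = u)
    (hZ : ∀ a b : Ω, a ≠ b → ∃ z : G, IsCentral a b z) : False := by
  haveI := h.nontrivial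
  by_cases hO : ∀ u ∈ doubles G Ω, (others (imgGroup Ω u) ↥(fixedBy Ω u)).Nonempty
  · obtain ⟨a, b, hab⟩ := exists_pair_ne Ω
    obtain ⟨z, hz⟩ := hZ a b hab
    rcases Nat.even_or_odd i with hpar | hpar
    · by_cases hzd : z ∈ doubles G Ω
      · exact h.central_even hi2 hin hi hK hab hz hzd hpar hO
      · obtain ⟨t, ht, -⟩ := h.exists_double hab
        have hH := h.half_cent hK ht
        obtain ⟨k, hk2, hki, hk⟩ := hH.exists_k
        have hsqi := hH.card_eq_sq hk2 hki hk (hO t ht)
        rw [hi t ht] at hsqi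
        have hkeven : Even k := by
          rw [hsqi] at hpar
          rcases Nat.even_mul.1 hpar with e | e <;> exact e
        obtain ⟨j, hj⟩ := hH.k_two_pow hk2 hki hk hkeven
        rcases h.central_count hi2 hin hi hK hab hz with ⟨e, -⟩ | ⟨-, hn⟩
        · exact hzd e
        · exact h.d_trick hi2 hin hi hab hz hzd (h.central_zx hi2 hin hi hK hab hz)
            (j := j + j + (j + j)) (by rw [hn, hsqi, hj, pow_add, pow_add])
    · by_cases hzd : z ∈ doubles G Ω
      · exact h.central_fano hi2 hin hi hK hab hz hzd hpar hO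
      · exact h.central_isolated hi2 hin hi hK hab hz hzd hpar
  · push Not at hO
    obtain ⟨u, hu, hemp⟩ := hO
    have hH := h.half_cent hK hu
    obtain ⟨k, hk2, hki, hk⟩ := hH.exists_k
    rcases Nat.even_or_odd k with hpar | hpar
    · obtain ⟨j, hj⟩ := hH.k_two_pow hk2 hki hk hpar
      have hb := hH.double_even hk2 hki hk hemp hj
      have hj2 : j ≤ 2 := by
        by_contra hh
        obtain ⟨l, rfl⟩ : ∃ l, j = l + 3 := ⟨j - 3, by omega⟩
        have h1 : l < 2 ^ l := Nat.lt_two_pow_self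
        rw [pow_add] at hj
        omega
      obtain ⟨a, b, hab, ha, hb'⟩ := exists_two_fixed hu
      obtain ⟨z, hz⟩ := hZ a b hab
      have hzC : z ∈ centralizer ({u} : Set G) := mem_centralizer_singleton_iff.2 (hz.2.2 u ⟨ha, hb'⟩)
      have hzd : z ∈ doubles G Ω := by
        refine h.lift_double hK hu (c := ⟨z, hzC⟩) (hH.all_doubles hemp (img_sq u hz.2.1) fun e => hab ?_)
        have := (mem_kerOf.1 ((img_eq_one u _).1 e)).2 a ha
        exact this.symm.trans hz.1.1
      have hcount : 15 * (Nat.card Ω - i) = 16 * (i * (i - 1)) :=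
        ((h.central_count hi2 hin hi hK hab hz).resolve_right fun e => e.1 hzd).2
      have hcd := hH.card_eq_double hk2 hki hk hemp
      rw [hi u hu] at hcd
      subst hj
      interval_cases j
      · norm_num at hk2
      · norm_num at hcd
        obtain rfl : i = 6 := by omega
        exact h.not_thirty_eight (by omega)
      · norm_num at hcd
        obtain rfl : i = 28 := by omega
        omega
    · exact hH.double_odd hk2 hki hk hemp hpar

theorem main : (Nat.card Ω = 7 ∧ Nonempty (G ≃* alternatingGroup (Fin 7))) ∨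
    (Nat.card Ω = 12 ∧ Cfsg.Spor.IsoM11 G) := by
  haveI := h.nontrivial
  obtain ⟨a, b, hab⟩ := exists_pair_ne Ω
  rcases h.kerOf_cases with hK | hK
  · rcases h.central_dichotomy with hS | hZ
    · rcases Nat.even_or_odd i with hpar | hpar
      · exact (h.caseOne_sym_even hi2 hin hi hK hab (hS a b hab) hpar).elim
      · exact Or.inl (h.caseOne_sym_odd hi2 hin hi hK hab (hS a b hab) hpar)
    · obtain ⟨z, hz⟩ := hZ a b hab
      rcases Nat.even_or_odd i with hpar | hpar
      · exact (h.caseOne_central_even hi2 hin hi hK hab hz hpar).elim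
      · exact (h.caseOne_central_odd hi2 hin hi hK hab hz hpar).elim
  · rcases h.central_dichotomy with hS | hZ
    · have hn := h.main_sym_two hi2 hin hi hK hS
      haveI := h.twelve_simple hi2 hin hi hn
      exact Or.inr ⟨hn, Cfsg.Lib.MathieuEleven.equiv_M11 (by rw [h.card_G, hn])⟩
    · exact (h.main_central_two hi2 hin hi hK hZ).elim

end TwoA5

end Cfsg.Lib.TwoPointFive
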