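import Cfsg.Agent.M12Cent.Gens

/-!
Facts on the alternating and symmetric groups of degree five (row 3262).
-/

set_option autoImplicit false
set_option linter.unusedSectionVars false
set_option linter.style.haveILetI false

namespace Cfsg.Lib.TwoPointFive

open Equiv

/-- The involutions of `S₅` of sign one. -/
def evenInv : Finset (Perm (Fin 5)) := Finset.univ.filter fun x => x * x = 1 ∧ x ≠ 1 ∧ Perm.sign x = 1

/-- The involutions of `S₅` of sign minus one. -/
def oddInv : Finset (Perm (Fin 5)) := Finset.univ.filter fun x => x * x = 1 ∧ Perm.sign x = -1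

/-- The elements of `A₅`. -/
def evenAll : Finset (Perm (Fin 5)) := Finset.univ.filter fun x => Perm.sign x = 1

set_option maxRecDepth 100000 in
theorem card_evenInv : evenInv.card = 15 := by decide +kernel

set_option maxRecDepth 100000 in
theorem card_oddInv : oddInv.card = 10 := by decide +kernel

set_option maxRecDepth 100000 in
theorem evenInv_conj : ∀ x ∈ evenInv, ∀ y ∈ evenInv, ∃ c ∈ evenAll, c * x * c⁻¹ = y := by decide +kernel

set_option maxRecDepth 100000 in
theorem oddInv_conj : ∀ x ∈ oddInv, ∀ y ∈ oddInv, ∃ c ∈ evenAll, c * x * c⁻¹ = y := by decide +kernel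

set_option maxRecDepth 100000 in
theorem evenInv_cent : ∀ x ∈ evenInv, (evenAll.filter fun y => y * x = x * y).card = 4 ∧
    ∀ y ∈ evenAll, y * x = x * y → y * y = 1 := by decide +kernel

set_option maxRecDepth 100000 in
theorem evenAll_center : ∀ z ∈ evenAll, (∀ y ∈ evenInv, z * y = y * z) → z = 1 := by decide +kernel

set_option maxRecDepth 100000 in
/-- An odd involution centralising an even one and moving its four group; a square root of it. -/
theorem evenInv_outer : ∀ x ∈ evenInv, (∃ r : Perm (Fin 5), Perm.sign r = -1 ∧ r * r = x) ∧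
    ∃ τ ∈ oddInv, τ * x = x * τ ∧ ∃ w ∈ evenInv, w * x = x * w ∧ w ≠ x ∧ τ * w * τ⁻¹ = w * x := by decide +kernel

set_option maxRecDepth 100000 in
/-- A dihedral subgroup of order eight of `S₅`. -/
theorem exists_dihedral_gens : ∃ r s : Perm (Fin 5), r ^ 4 = 1 ∧ r ^ 2 ≠ 1 ∧ s * s = 1 ∧ s * r * s⁻¹ = r⁻¹ ∧
    s ≠ 1 ∧ s ≠ r ^ 2 := by decide +kernel

end Cfsg.Lib.TwoPointFive
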