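import Cfsg.Agent.TwoPointFive.SType
import Cfsg.Agent.GWDihedral.Main
import Cfsg.Agent.GenDihedral.Four.L2Psl
import Cfsg.Agent.Ree.PSL.Group
import Cfsg.Agent.EqualOrder.Four
import Cfsg.Agent.SolvStruct.AltAut
import Cfsg.Agent.InvolCalc.ZStarApps

/-!
The case of a dihedral Sylow 2-subgroup and an odd number of fixed points (row 3262).
-/

set_option autoImplicit false
set_option linter.unusedSectionVars false
set_option linter.style.haveILetI false

namespace Cfsg.Lib.TwoPointFive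

open MulAction Subgroup Equiv Matrix
open scoped MatrixGroups

universe u v

/-- In `PSL(2, q)` two elements of order above two centralising one involution commute. -/
theorem psl_cent_comm {F : Type} [Field F] [Fintype F] (hodd : Odd (Fintype.card F))
    {t x y : Matrix.ProjectiveSpecialLinearGroup (Fin 2) F} (ht : orderOf t = 2) (hx : x * t = t * x)
    (hy : y * t = t * y) (hx2 : x * x ≠ 1) (hy2 : y * y ≠ 1) : x * y = y * x := by
  obtain ⟨c, hc⟩ := isConj_iff.1
    (Cfsg.Lib.Ree.PSL.psl_one_class hodd ht (Cfsg.Lib.FourGW.orderOf_πJ (F := F) hodd))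
  have key : ∀ z : Matrix.ProjectiveSpecialLinearGroup (Fin 2) F, z * t = t * z → z * z ≠ 1 →
      ∃ g ∈ Cfsg.Lib.Classical.PSLFour.C (F := F), Cfsg.Lib.Classical.PSLFour.π g = c * z * c⁻¹ := by
    intro z hz hz2
    obtain ⟨g, hg⟩ := QuotientGroup.mk'_surjective _ (c * z * c⁻¹)
    have hg' : Cfsg.Lib.Classical.PSLFour.π g = c * z * c⁻¹ := hg
    have hmem : Cfsg.Lib.Classical.PSLFour.π g ∈
        centralizer ({Cfsg.Lib.Classical.PSLFour.π (Cfsg.Lib.Classical.PSLFour.J (F := F))} :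
          Set (Matrix.ProjectiveSpecialLinearGroup (Fin 2) F)) := by
      rw [mem_centralizer_singleton_iff, hg', ← hc]
      rw [show c * z * c⁻¹ * (c * t * c⁻¹) = c * (z * t) * c⁻¹ by group, hz]
      group
    rcases (Cfsg.Lib.FourGW.mem_cent_J hodd).1 hmem with h | h
    · exact ⟨g, h, hg'⟩
    · refine absurd ?_ hz2
      have h1 : Cfsg.Lib.Classical.PSLFour.π g * Cfsg.Lib.Classical.PSLFour.π g = 1 := by
        rw [← map_mul, Cfsg.Lib.FourGW.anti_sq h, Cfsg.Lib.Classical.PSLFour.π_neg, map_one]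
      rw [hg', show c * z * c⁻¹ * (c * z * c⁻¹) = c * (z * z) * c⁻¹ by group] at h1
      exact conj_eq_one_iff.1 h1
  obtain ⟨g, hg, eg⟩ := key x hx hx2
  obtain ⟨g', hg', eg'⟩ := key y hy hy2
  have h := congrArg Cfsg.Lib.Classical.PSLFour.π (Cfsg.Lib.Classical.PSLFour.C_comm hg hg')
  rw [map_mul, map_mul, eg, eg', show c * x * c⁻¹ * (c * y * c⁻¹) = c * (x * y) * c⁻¹ by group,
    show c * y * c⁻¹ * (c * x * c⁻¹) = c * (y * x) * c⁻¹ by group] at h
  exact mul_left_cancel (mul_right_cancel h)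

variable {G : Type u} {Ω : Type v} [Group G] [Finite G] [Finite Ω] [MulAction G Ω]

namespace TwoA5

variable (h : TwoA5 G Ω) {i : ℕ} (hi2 : 2 ≤ i) (hin : i < Nat.card Ω)
  (hi : ∀ u ∈ doubles G Ω, Nat.card (fixedBy Ω u) = i)
include h hi2 hin hi

theorem not_solvable : ¬ Group.IsSolvable G := fun hs => by
  haveI := hs
  haveI := h.nontrivial
  obtain ⟨a, b, hab⟩ := exists_pair_ne Ω
  obtain ⟨u, hu, -⟩ := h.exists_double hab
  have htop := h.no_solvable_normal hi2 hin hi ⊤ inferInstance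
  exact hu.2.1 (Subgroup.mem_bot.1 (htop ▸ mem_top u))

theorem oddCore_bot : Cfsg.oddCore G = ⊥ := by
  haveI : Group.IsSolvable ↥(Cfsg.oddCore G) :=
    Cfsg.Agent.PF.isSolvable_of_odd _ Cfsg.Lib.ZStarApps.odd_card_pPrimeCore
  exact h.no_solvable_normal hi2 hin hi _ inferInstance

/-- An odd number of fixed points and a dihedral Sylow 2-subgroup leave only the alternating group of degree seven. -/
theorem dihedral_end {a b : Ω} (hab : a ≠ b) (hS : ∀ z : G, ¬ IsCentral a b z) (hodd : Odd i) (S : Sylow 2 G) {m : ℕ}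
    (hm : 2 ≤ m) (hD : Nonempty ((S : Subgroup G) ≃* DihedralGroup m))
    (hsq : ∀ t ∈ doubles G Ω, ∀ g : G, g * t = t * g → (∀ p : Ω, t • p = p → g • p = p) → g * g = 1) :
    Nat.card G ∣ 5040 ∧ (Nat.card G = 2520 → Nat.card Ω = 7 ∧ Nonempty (G ≃* alternatingGroup (Fin 7))) := by
  obtain ⟨-, hall, hts, -⟩ := h.sType_facts hi2 hin hi hab hS
  obtain ⟨N₀, hN₀, hdih, -, hc₀⟩ := Cfsg.Lib.GWD.almost_simple_of (Cfsg.Lib.GWD.dihedralProp.below _) S hm hD
    (h.not_solvable hi2 hin hi)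
  haveI := hN₀
  set π : G →* G ⧸ Cfsg.oddCore G := QuotientGroup.mk' _
  have hinj : Function.Injective π := (MonoidHom.ker_eq_bot_iff π).1 (by
    rw [QuotientGroup.ker_mk']; exact h.oddCore_bot hi2 hin hi)
  have hsur : Function.Surjective π := QuotientGroup.mk'_surjective _
  set N : Subgroup G := N₀.comap π
  haveI hNn : N.Normal := hN₀.comap π
  let fN : ↥N →* ↥N₀ :=
    { toFun := fun x => ⟨π x.1, x.2⟩
      map_one' := Subtype.ext (map_one π)
      map_mul' := fun x y => Subtype.ext (map_mul π x.1 y.1) }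
  let eN : ↥N ≃* ↥N₀ := MulEquiv.ofBijective fN
    ⟨fun x y e => Subtype.ext (hinj (Subtype.ext_iff.1 e)),
      fun y => (hsur y.1).elim fun x hx => ⟨⟨x, show π x ∈ N₀ by rw [hx]; exact y.2⟩, Subtype.ext hx⟩⟩
  have hcN : centralizer (N : Set G) = ⊥ := (Subgroup.eq_bot_iff_forall _).2 fun x hx => hinj (by
    rw [map_one]
    refine Subgroup.mem_bot.1 (hc₀ ▸ mem_centralizer_iff.2 fun y hy => ?_)
    obtain ⟨y', rfl⟩ := hsur y
    rw [← map_mul, ← map_mul, mem_centralizer_iff.1 hx y' hy])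
  obtain ⟨t, ht, htP⟩ := h.exists_double hab
  obtain ⟨⟨r, hr, hrr⟩, -⟩ := hts t htP ht.1 ht.2.1
  have hrt : r * t = t * r := by rw [← hrr, mul_assoc]
  rcases hdih.congr eN with ⟨F, iF, iF', hFodd, -, ⟨e⟩⟩ | ⟨⟨e⟩⟩
  · -- the linear groups
    exfalso
    have hNinv : ∀ u ∈ doubles G Ω, u ∈ N := by
      have heven : ∃ u : G, u ∈ N ∧ u * u = 1 ∧ u ≠ 1 := by
        have hJ := Cfsg.Lib.FourGW.orderOf_πJ (F := F) hFodd
        obtain ⟨x, hx⟩ := e.surjective (Cfsg.Lib.Classical.PSLFour.π (Cfsg.Lib.Classical.PSLFour.J (F := F)))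
        rw [← hx, MulEquiv.orderOf_eq, ← Subgroup.orderOf_coe] at hJ
        exact ⟨x.1, x.2, InvolCalc.sq_of_order_two hJ, InvolCalc.ne_one_of_order_two hJ⟩
      obtain ⟨u₀, hu₀N, hu₀, hu₀1⟩ := heven
      intro u hu
      obtain ⟨g, rfl⟩ := h.doubles_conj (hall u₀ hu₀ hu₀1) hu
      exact hNn.conj_mem u₀ hu₀N g
    have htN : t ∈ N := hNinv t ht
    have hrN : r ∈ N := by
      obtain ⟨-, τ, hτ, hτs, -⟩ := hts t htP ht.1 ht.2.1
      have hx : τ * r ∈ stabilizer G a ⊓ stabilizer G b :=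
        ⟨show (τ * r) • a = a by rw [mul_smul, hr.1, hτs.2], show (τ * r) • b = b by rw [mul_smul, hr.2, hτs.1]⟩
      obtain ⟨eP⟩ := h.iso a b hab
      haveI : IsSimpleGroup ↥(stabilizer G a ⊓ stabilizer G b) :=
        eP.isSimpleGroup_congr.2 alternatingGroup.isSimpleGroup_five
      have hle : stabilizer G a ⊓ stabilizer G b ≤ N := by
        rcases (inferInstance : (N.subgroupOf (stabilizer G a ⊓ stabilizer G b)).Normal).eq_bot_or_eq_top with e | e
        · exact absurd (congrArg Subtype.val ((Subgroup.eq_bot_iff_forall _).1 e ⟨t, htP⟩ htN)) ht.2.1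
        · exact Subgroup.subgroupOf_eq_top.1 e
      have := N.mul_mem (hNinv τ hτ) (hle hx)
      rwa [← mul_assoc, hτ.1, one_mul] at this
    have hr2 : r * r ≠ 1 := by rw [hrr]; exact ht.2.1
    set C := centralizer ({t} : Set G) with hC
    set A := closure {x : G | x ∈ N ∧ x ∈ C ∧ x * x ≠ 1} with hA
    have hcomm : ∀ x ∈ A, ∀ y ∈ A, x * y = y * x := by
      have h0 : ∀ x, (x ∈ N ∧ x ∈ C ∧ x * x ≠ 1) → ∀ y, (y ∈ N ∧ y ∈ C ∧ y * y ≠ 1) → x * y = y * x := by
        rintro x ⟨hx, hxC, hx2⟩ y ⟨hy, hyC, hy2⟩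
        have hh : e ⟨x, hx⟩ * e ⟨y, hy⟩ = e ⟨y, hy⟩ * e ⟨x, hx⟩ := by
          refine psl_cent_comm hFodd (t := e ⟨t, htN⟩) ?_ ?_ ?_ ?_ ?_
          · rw [MulEquiv.orderOf_eq, ← Subgroup.orderOf_coe]
            exact InvolCalc.order_two_of_mul_self ht.1 ht.2.1
          · rw [← map_mul, ← map_mul]; exact congrArg e (Subtype.ext (mem_centralizer_singleton_iff.1 hxC))
          · rw [← map_mul, ← map_mul]; exact congrArg e (Subtype.ext (mem_centralizer_singleton_iff.1 hyC))
          · rw [← map_mul, ← map_one e]; exact fun e' => hx2 (congrArg Subtype.val (e.injective e'))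
          · rw [← map_mul, ← map_one e]; exact fun e' => hy2 (congrArg Subtype.val (e.injective e'))
        rw [← map_mul, ← map_mul] at hh
        exact congrArg Subtype.val (e.injective hh)
      intro x hx y hy
      have h1 : A ≤ centralizer {x : G | x ∈ N ∧ x ∈ C ∧ x * x ≠ 1} :=
        (closure_le _).2 fun z hz => mem_centralizer_iff.2 fun w hw => h0 w hw z hz
      have h2 : A ≤ centralizer (A : Set G) := (closure_le _).2 fun z hz =>
        mem_centralizer_iff.2 fun w hw => (mem_centralizer_iff.1 (h1 hw) z hz).symm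
      exact (mem_centralizer_iff.1 (h2 hy) x hx)
    have hnorm : ∀ g ∈ C, ∀ x ∈ A, g * x * g⁻¹ ∈ A := by
      intro g hg x hx
      have : A ≤ A.comap (MulAut.conj g).toMonoidHom := (closure_le _).2 fun z hz => subset_closure
        ⟨hNn.conj_mem z hz.1 g, C.mul_mem (C.mul_mem hg hz.2.1) (C.inv_mem hg), fun e' => hz.2.2 (by
          change g * z * g⁻¹ * (g * z * g⁻¹) = 1 at e'
          rw [show g * z * g⁻¹ * (g * z * g⁻¹) = g * (z * z) * g⁻¹ by group] at e'
          exact conj_eq_one_iff.1 e')⟩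
      exact this hx
    have hrA : r ∈ A := subset_closure ⟨hrN, mem_centralizer_singleton_iff.2 hrt, hr2⟩
    -- `r` fixes a point of the fixed-point set
    obtain ⟨p, hpt, hpr⟩ : ∃ p : Ω, t • p = p ∧ r • p = p := by
      let f : ↥(fixedBy Ω t) → ↥(fixedBy Ω t) := fun x =>
        ⟨r • x.1, fixed_maps t r (mem_centralizer_singleton_iff.2 hrt) x.1 x.2⟩
      haveI := Fintype.ofFinite ↥(fixedBy Ω t)
      classical
      have hf : f^[2 ^ 2] = id := by
        funext x
        refine Subtype.ext ?_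
        show r • r • r • r • x.1 = x.1
        rw [smul_smul r r, hrr, smul_smul r r, hrr, smul_smul t t, ht.1, one_smul]
      haveI : Fact (Nat.Prime 2) := ⟨Nat.prime_two⟩
      have hmod := Equiv.Perm.card_fixedPoints_modEq (p := 2) (n := 2) hf
      rw [← Nat.card_eq_fintype_card, hi t ht, Nat.ModEq, Nat.odd_iff.1 hodd] at hmod
      have hpos : 0 < Fintype.card f.fixedPoints := by
        by_contra hh
        rw [show Fintype.card f.fixedPoints = 0 by omega] at hmod
        simp at hmod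
      obtain ⟨⟨x, hx⟩⟩ := Fintype.card_pos_iff.1 hpos
      exact ⟨x.1, x.2, Subtype.ext_iff.1 hx⟩
    refine hr2 (hsq t ht r hrt fun q hqt => ?_)
    by_contra hq
    have hqp : q ≠ p := fun e' => hq (e' ▸ hpr)
    have hpp : ∀ q' : Ω, t • q' = q' → ∃ y ∈ A, y • q = q' := by
      intro q' hq'
      rcases eq_or_ne q q' with rfl | hne
      · exact ⟨1, A.one_mem, one_smul G _⟩
      · obtain ⟨g, hg, hg1, hg2⟩ := h.cent_move ht (a := q) (b := r • q) (c := q) (d := q') (Ne.symm hq) hne hqt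
          (fixed_maps t r (mem_centralizer_singleton_iff.2 hrt) q hqt) hqt hq'
        exact ⟨g * r * g⁻¹, hnorm g hg r hrA, by rw [mul_smul, inv_smul_eq_iff.2 hg1.symm, mul_smul, hg2]⟩
    obtain ⟨y, hy, hyq⟩ := hpp p hpt
    refine hq (MulAction.injective y ?_)
    show y • r • q = y • q
    rw [smul_smul, hcomm y hy r hrA, mul_smul, hyq, hpr]
  · -- the alternating group
    have hA : Nat.card (MulAut (alternatingGroup (Fin 7))) = 5040 := by
      rw [← Nat.card_congr (Equiv.ofBijective _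
        (Cfsg.Lib.SolvStruct.AltAut.conjNormal_bijective (n := 7) (by norm_num) (by norm_num))), Nat.card_perm,
        Nat.card_eq_fintype_card, Fintype.card_fin]
      rfl
    haveI : Finite (MulAut (alternatingGroup (Fin 7))) := Nat.finite_of_card_ne_zero (by rw [hA]; norm_num)
    have hdvd := Cfsg.Lib.EqualOrder.card_dvd_aut hcN e
    rw [hA] at hdvd
    refine ⟨hdvd, fun h2520 => ⟨?_, ⟨?_⟩⟩⟩
    · have h1 := h.card_G
      rw [h2520] at h1
      have : Nat.card Ω * (Nat.card Ω - 1) = 42 := by omega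
      have hle : Nat.card Ω ≤ 7 := by
        by_contra hh
        have := Nat.mul_le_mul (show 8 ≤ Nat.card Ω by omega) (show 7 ≤ Nat.card Ω - 1 by omega)
        omega
      have := h.two
      interval_cases Nat.card Ω <;> omega
    · have htop : N = ⊤ := Subgroup.eq_top_of_card_eq N (by
        rw [h2520, Nat.card_congr e.toEquiv, nat_card_alternatingGroup, Nat.card_eq_fintype_card (α := Fin 7),
          Fintype.card_fin]
        rfl)
      exact ((MulEquiv.subgroupCongr htop).trans Subgroup.topEquiv).symm.trans e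

end TwoA5

end Cfsg.Lib.TwoPointFive
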