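import Cfsg.Agent.TwoPointFive.Kernel
import Cfsg.Agent.TwoPointFive.Dihedral

/-!
The case in which the four group fixes the fixed points of its involutions (row 3262).
-/

set_option autoImplicit false
set_option linter.unusedSectionVars false
set_option linter.style.haveILetI false

namespace Cfsg.Lib.TwoPointFive

open MulAction Subgroup Equiv

universe u v

variable {G : Type u} {Ω : Type v} [Group G] [Finite G] [Finite Ω] [MulAction G Ω]

/-- The image of an element of the centraliser of `u` on the fixed points of `u`. -/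
noncomputable def img (Ω : Type v) [MulAction G Ω] (u : G) : ↥(centralizer ({u} : Set G)) →*
    ↥(restrictHom (centralizer ({u} : Set G)) (fixedBy Ω u) (fixed_maps u)).range :=
  (restrictHom (centralizer ({u} : Set G)) (fixedBy Ω u) (fixed_maps u)).rangeRestrict

omit [Finite G] [Finite Ω] in
theorem img_smul (u : G) (c : ↥(centralizer ({u} : Set G))) (x : fixedBy Ω u) :
    (img Ω u c • x : fixedBy Ω u).1 = c.1 • x.1 := rfl

omit [Finite G] [Finite Ω] in
theorem img_eq_one (u : G) (c : ↥(centralizer ({u} : Set G))) : img Ω u c = 1 ↔ c.1 ∈ kerOf Ω u := by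
  rw [img, restrictHom_rangeRestrict_eq_one, mem_kerOf]
  exact ⟨fun hh => ⟨mem_centralizer_singleton_iff.1 c.2, hh⟩, fun hh => hh.2⟩

namespace TwoA5

variable (h : TwoA5 G Ω) {i : ℕ} (hi2 : 2 ≤ i) (hin : i < Nat.card Ω)
  (hi : ∀ u ∈ doubles G Ω, Nat.card (fixedBy Ω u) = i)
  (hK : ∀ u ∈ doubles G Ω, Nat.card (kerOf Ω u) = 4)
include h hi2 hin hi hK

omit hi2 hin hi in
theorem kerOf_eq {u : G} (hu : u ∈ doubles G Ω) {a b : Ω} (hab : a ≠ b) (ha : u • a = a) (hb : u • b = b) :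
    kerOf Ω u = (stabilizer G a ⊓ stabilizer G b) ⊓ centralizer ({u} : Set G) :=
  Subgroup.eq_of_le_of_card_ge (kerOf_le h ha hb) (by rw [hK u hu, (h.pair_cent hab ⟨ha, hb⟩ hu.1 hu.2.1).2])

omit hi2 hin in
theorem kerOf_elem {u : G} (hu : u ∈ doubles G Ω) {x : G} (hx : x ∈ kerOf Ω u) (hx1 : x ≠ 1) :
    x ∈ doubles G Ω ∧ (∀ p : Ω, x • p = p ↔ u • p = p) ∧ kerOf Ω x = kerOf Ω u := by
  obtain ⟨a, b, hab, ha, hb⟩ := exists_two_fixed hu
  have hxd : x ∈ doubles G Ω :=
    ⟨h.kerOf_sq hu hx, hx1, two_le_fixed hab ((mem_kerOf.1 hx).2 a ha) ((mem_kerOf.1 hx).2 b hb)⟩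
  have hsub : fixedBy Ω u ⊆ fixedBy Ω x := fun p hp => (mem_kerOf.1 hx).2 p hp
  have heq : fixedBy Ω u = fixedBy Ω x :=
    Set.eq_of_subset_of_ncard_le hsub (by rw [← Nat.card_coe_set_eq, ← Nat.card_coe_set_eq, hi u hu, hi x hxd])
      (Set.toFinite _)
  refine ⟨hxd, fun p => (Set.ext_iff.1 heq p).symm, (Subgroup.eq_of_le_of_card_ge (fun y hy => ?_)
    (by rw [hK u hu, hK x hxd])).symm⟩
  refine mem_kerOf.2 ⟨?_, fun p hp => (mem_kerOf.1 hy).2 p ((Set.ext_iff.1 heq p).2 hp)⟩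
  have h1 := h.kerOf_sq hu ((kerOf Ω u).mul_mem hy hx)
  calc y * x = (y * x)⁻¹ := (inv_eq_of_mul_eq_one_right h1).symm
    _ = x * y := by rw [mul_inv_rev, inv_eq_of_mul_eq_one_right (h.kerOf_sq hu hx),
      inv_eq_of_mul_eq_one_right (h.kerOf_sq hu hy)]

omit hi2 hin hi in
theorem sharp_cent {u : G} (hu : u ∈ doubles G Ω) :
    Sharp (restrictHom (centralizer ({u} : Set G)) (fixedBy Ω u) (fixed_maps u)).range (fixedBy Ω u) := by
  refine restrict_sharp (fun a ha b hb c hc d hd hab hcd => h.cent_move hu hab hcd ha hb hc hd)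
    (fun g hg a ha b hb hab hga hgb x hx => ?_) hu.2.2
  have hgk : g ∈ kerOf Ω u := by rw [h.kerOf_eq hK hu hab ha hb]; exact ⟨⟨hga, hgb⟩, hg⟩
  exact (mem_kerOf.1 hgk).2 x hx

/-- A central involution forces an even number of fixed points. -/
theorem caseOne_central_odd {a b : Ω} (hab : a ≠ b) {z : G} (hz : IsCentral a b z) (hodd : Odd i) : False := by
  obtain ⟨t, ht, htP⟩ := h.exists_double hab
  obtain ⟨hzs, hz2, hzc⟩ := hz
  have hV : kerOf Ω t = (stabilizer G a ⊓ stabilizer G b) ⊓ centralizer ({t} : Set G) :=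
    h.kerOf_eq hK ht hab htP.1 htP.2
  have hVc : ∀ x ∈ kerOf Ω t, ∀ y ∈ kerOf Ω t, x * y = y * x := fun x hx y hy => by
    calc x * y = (x * y)⁻¹ := (inv_eq_of_mul_eq_one_right (h.kerOf_sq ht (mul_mem hx hy))).symm
      _ = y * x := by rw [mul_inv_rev, inv_eq_of_mul_eq_one_right (h.kerOf_sq ht hx),
        inv_eq_of_mul_eq_one_right (h.kerOf_sq ht hy)]
  have hzV : ∀ x ∈ kerOf Ω t, z * x = x * z := fun x hx => hzc x (by rw [hV] at hx; exact hx.1)
  -- an involution with two fixed points exchanging `a`, `b` and centralising the four group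
  obtain ⟨s, hs, hss, hsV⟩ : ∃ s ∈ doubles G Ω, Swaps s a b ∧ ∀ x ∈ kerOf Ω t, s * x = x * s := by
    obtain ⟨m₀, m₁, hm, h0, h1⟩ := h.central_swappers hi hab ⟨hzs, hz2, hzc⟩
    rcases h1 with ⟨h1, -⟩ | ⟨-, h1⟩
    · refine ⟨z * t, h1 t htP ht.1 ht.2.1, ⟨?_, ?_⟩, fun x hx => ?_⟩
      · rw [mul_smul, show t • a = a from htP.1, hzs.1]
      · rw [mul_smul, show t • b = b from htP.2, hzs.2]
      · rw [mul_assoc, hVc t (self_mem_kerOf t) x hx, ← mul_assoc, hzV x hx, mul_assoc]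
    · rcases h0 with ⟨h0, -⟩ | ⟨-, h0⟩
      · exact ⟨z, h0, hzs, hzV⟩
      · exfalso
        obtain ⟨g, hg, hgs⟩ := h.exists_swap hi2 hin hi hab
        rw [h0, h1] at hm
        rw [Nat.card_eq_zero, or_iff_left (not_infinite_iff_finite.2 inferInstance)] at hm
        exact hm.false ⟨g, hg, hgs⟩
  have hsnot : s ∉ kerOf Ω t := fun hh => hab (((mem_kerOf.1 hh).2 a htP.1).symm.trans hss.1)
  -- an element of the four group centralising the four group of `s`
  obtain ⟨x, hx, hx1, hxs⟩ : ∃ x ∈ kerOf Ω s, x ≠ 1 ∧ x ≠ s := by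
    by_contra! hh
    have : Nat.card (kerOf Ω s) ≤ 2 := by
      have hsub : (kerOf Ω s : Set G) ⊆ {1, s} := fun y hy => by
        by_cases hy1 : y = 1
        · exact Or.inl hy1
        · exact Or.inr (hh y hy hy1)
      calc Nat.card (kerOf Ω s) = (kerOf Ω s : Set G).ncard := Nat.card_coe_set_eq _
        _ ≤ ({1, s} : Set G).ncard := Set.ncard_le_ncard hsub (Set.toFinite _)
        _ ≤ 2 := (Set.ncard_insert_le _ _).trans (by rw [Set.ncard_singleton])
    rw [hK s hs] at this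
    omega
  have hW := four_cases (hK s hs) (self_mem_kerOf s) hx hs.2.1 hx1 hxs hs.1
  have hmove : ∀ v ∈ kerOf Ω t, v * x * v⁻¹ = x ∨ v * x * v⁻¹ = s * x := by
    intro v hv
    have hvs : v * s = s * v := (hsV v hv).symm
    rcases hW _ (conj_mem_kerOf hvs hx) with e | e | e | e
    · exact absurd (conj_eq_one_iff.1 e) hx1
    · refine absurd (mul_left_cancel (mul_right_cancel (e.trans ?_) :)) hxs
      rw [hvs, mul_inv_cancel_right]
    · exact Or.inl e
    · exact Or.inr e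
  obtain ⟨u, hu, hu1, hux⟩ : ∃ u ∈ kerOf Ω t, u ≠ 1 ∧ u * x * u⁻¹ = x := by
    obtain ⟨v, hv, hv1, hvt⟩ : ∃ v ∈ kerOf Ω t, v ≠ 1 ∧ v ≠ t := by
      by_contra! hh
      have : Nat.card (kerOf Ω t) ≤ 2 := by
        have hsub : (kerOf Ω t : Set G) ⊆ {1, t} := fun y hy => by
          by_cases hy1 : y = 1
          · exact Or.inl hy1
          · exact Or.inr (hh y hy hy1)
        calc Nat.card (kerOf Ω t) = (kerOf Ω t : Set G).ncard := Nat.card_coe_set_eq _
          _ ≤ ({1, t} : Set G).ncard := Set.ncard_le_ncard hsub (Set.toFinite _)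
          _ ≤ 2 := (Set.ncard_insert_le _ _).trans (by rw [Set.ncard_singleton])
      rw [hK t ht] at this
      omega
    rcases hmove t (self_mem_kerOf t) with e | e
    · exact ⟨t, self_mem_kerOf t, ht.2.1, e⟩
    rcases hmove v hv with e' | e'
    · exact ⟨v, hv, hv1, e'⟩
    refine ⟨t * v, mul_mem (self_mem_kerOf t) hv, fun e0 => hvt ?_, ?_⟩
    · rw [← inv_eq_of_mul_eq_one_right e0, inv_eq_of_mul_eq_one_right ht.1]
    · rw [show t * v * x * (t * v)⁻¹ = t * (v * x * v⁻¹) * t⁻¹ by group, e',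
        show t * (s * x) * t⁻¹ = t * s * t⁻¹ * (t * x * t⁻¹) by group, e, (hsV t (self_mem_kerOf t)).symm,
        mul_inv_cancel_right, ← mul_assoc, hs.1, one_mul]
  obtain ⟨hud, hufix, huk⟩ := h.kerOf_elem hi hK ht hu hu1
  have hsu : s ∈ centralizer ({u} : Set G) := mem_centralizer_singleton_iff.2 (hsV u hu)
  have hxu : x ∈ centralizer ({u} : Set G) :=
    mem_centralizer_singleton_iff.2 (mul_inv_eq_iff_eq_mul.1 hux).symm
  have hxd := (h.kerOf_elem hi hK hs hx hx1)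
  have hxnot : x ∉ kerOf Ω t := fun hh => hsnot (by
    rw [← (h.kerOf_elem hi hK ht hh hx1).2.2, hxd.2.2]; exact self_mem_kerOf s)
  set R := (restrictHom (centralizer ({u} : Set G)) (fixedBy Ω u) (fixed_maps u)).range
  have hR : Sharp R (fixedBy Ω u) := h.sharp_cent hK hud
  have hrs : img Ω u ⟨s, hsu⟩ ≠ 1 := fun e => hsnot (huk ▸ (img_eq_one u _).1 e)
  have hrx : img Ω u ⟨x, hxu⟩ ≠ 1 := fun e => hxnot (huk ▸ (img_eq_one u _).1 e)
  have hodd' : Odd (Nat.card (fixedBy Ω u)) := by rw [hi u hud]; exact hodd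
  have hs2 : img Ω u ⟨s, hsu⟩ * img Ω u ⟨s, hsu⟩ = 1 := by
    rw [← map_mul, ← map_one (img Ω u)]; exact congrArg _ (Subtype.ext hs.1)
  have hx2 : img Ω u ⟨x, hxu⟩ * img Ω u ⟨x, hxu⟩ = 1 := by
    rw [← map_mul, ← map_one (img Ω u)]; exact congrArg _ (Subtype.ext hxd.1.1)
  obtain ⟨p, hp⟩ := hR.exists_fix hodd' hs2
  have hxp : img Ω u ⟨x, hxu⟩ • p = p := by
    refine hR.fix_unique hrs ?_ hp
    rw [smul_smul, ← map_mul, show (⟨s, hsu⟩ : ↥(centralizer ({u} : Set G))) * ⟨x, hxu⟩ = ⟨x, hxu⟩ * ⟨s, hsu⟩ from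
      Subtype.ext (mem_kerOf.1 hx).1.symm, map_mul, mul_smul, hp]
  have he := hR.eq_of_fix hodd' hs2 hrs hx2 hrx hp hxp
  have hmem : s * x ∈ kerOf Ω t := by
    rw [← huk]
    refine (img_eq_one (Ω := Ω) u (⟨s, hsu⟩ * ⟨x, hxu⟩)).1 ?_
    rw [map_mul, he, hx2]
  have hne1 : s * x ≠ 1 := fun e => hxs (by rw [← inv_eq_of_mul_eq_one_right e, inv_eq_of_mul_eq_one_right hs.1])
  apply hsnot
  rw [← (h.kerOf_elem hi hK ht hmem hne1).2.2,
    (h.kerOf_elem hi hK hs ((kerOf Ω s).mul_mem (self_mem_kerOf s) hx) hne1).2.2]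
  exact self_mem_kerOf s

/-- Counting the involutions of the translation cosets. -/
theorem caseOne_central_even {a b : Ω} (hab : a ≠ b) {z : G} (hz : IsCentral a b z) (heven : Even i) : False := by
  classical
  obtain ⟨t, ht, htP⟩ := h.exists_double hab
  obtain ⟨hzs, hz2, hzc⟩ := hz
  obtain ⟨m₀, m₁, hm, h0, h1⟩ := h.central_swappers hi hab ⟨hzs, hz2, hzc⟩
  have hcount := h.eq_count hi hab hm
  have hV : kerOf Ω t = (stabilizer G a ⊓ stabilizer G b) ⊓ centralizer ({t} : Set G) :=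
    h.kerOf_eq hK ht hab htP.1 htP.2
  set R := (restrictHom (centralizer ({t} : Set G)) (fixedBy Ω t) (fixed_maps t)).range
  have hR : Sharp R (fixedBy Ω t) := h.sharp_cent hK ht
  have heven' : Even (Nat.card (fixedBy Ω t)) := by rw [hi t ht]; exact heven
  set T := {s : G // s ∈ doubles G Ω ∧ s * t = t * s ∧ s ∉ kerOf Ω t} with hT
  -- the incidences outside the fixed-point set
  have hout : ∀ (s : T) (c : Ω), s.1 • c = c → t • c ≠ c := by
    intro s c hsc htc
    have hsC : s.1 ∈ centralizer ({t} : Set G) := mem_centralizer_singleton_iff.2 s.2.2.1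
    refine hR.free_of_even heven' (s := img Ω t ⟨s.1, hsC⟩) ?_ (fun e => s.2.2.2 ((img_eq_one t _).1 e)) ⟨c, htc⟩
      (Subtype.ext hsc)
    rw [← map_mul, ← map_one (img Ω t)]
    exact congrArg _ (Subtype.ext s.2.1.1)
  have hcomm : ∀ (s s' : T) (c : Ω), s.1 • c = c → s'.1 • c = c → s'.1 ∈ kerOf Ω s.1 := by
    intro s s' c hsc hs'c
    have hsC : s.1 ∈ centralizer ({t} : Set G) := mem_centralizer_singleton_iff.2 s.2.2.1
    have hs'C : s'.1 ∈ centralizer ({t} : Set G) := mem_centralizer_singleton_iff.2 s'.2.2.1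
    have hc2 := hR.commute_of_even heven' (s := img Ω t ⟨s.1, hsC⟩) (s' := img Ω t ⟨s'.1, hs'C⟩)
      (by rw [← map_mul, ← map_one (img Ω t)]; exact congrArg _ (Subtype.ext s.2.1.1))
      (fun e => s.2.2.2 ((img_eq_one t _).1 e))
      (by rw [← map_mul, ← map_one (img Ω t)]; exact congrArg _ (Subtype.ext s'.2.1.1))
      (fun e => s'.2.2.2 ((img_eq_one t _).1 e))
    have hd : s.1 * s'.1 * (s.1 * s'.1) ∈ kerOf Ω t := by
      refine (img_eq_one (Ω := Ω) t ((⟨s.1, hsC⟩ * ⟨s'.1, hs'C⟩) * (⟨s.1, hsC⟩ * ⟨s'.1, hs'C⟩))).1 ?_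
      rw [map_mul, map_mul]
      nth_rewrite 2 [hc2]
      rw [← map_mul, ← map_mul, ← map_mul, ← map_one (img Ω t)]
      refine congrArg _ (Subtype.ext ?_)
      show s.1 * s'.1 * (s'.1 * s.1) = 1
      rw [← mul_assoc, mul_assoc s.1 s'.1 s'.1, s'.2.1.1, mul_one, s.2.1.1]
    have hfc : (s.1 * s'.1 * (s.1 * s'.1)) • c = c := by simp [mul_smul, hsc, hs'c]
    have hd1 : s.1 * s'.1 * (s.1 * s'.1) = 1 := by
      by_contra hne
      exact hout s c hsc (((h.kerOf_elem hi hK ht hd hne).2.1 c).1 hfc)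
    have hcs : s'.1 * s.1 = s.1 * s'.1 := by
      calc s'.1 * s.1 = s'.1⁻¹ * s.1⁻¹ := by
            rw [inv_eq_of_mul_eq_one_right s.2.1.1, inv_eq_of_mul_eq_one_right s'.2.1.1]
        _ = (s.1 * s'.1)⁻¹ := (mul_inv_rev _ _).symm
        _ = s.1 * s'.1 := inv_eq_of_mul_eq_one_right hd1
    have hs'C' : s'.1 ∈ centralizer ({s.1} : Set G) := mem_centralizer_singleton_iff.2 hcs
    by_contra hnk
    refine (h.sharp_cent hK s.2.1).free_of_even (by rw [hi _ s.2.1]; exact heven) (s := img Ω s.1 ⟨s'.1, hs'C'⟩) ?_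
      (fun e => hnk ((img_eq_one _ _).1 e)) ⟨c, hsc⟩ (Subtype.ext hs'c)
    rw [← map_mul, ← map_one (img Ω s.1)]
    exact congrArg _ (Subtype.ext s'.2.1.1)
  have hupper : Nat.card T * i ≤ 3 * (Nat.card Ω - i) := by
    haveI := Fintype.ofFinite G
    haveI := Fintype.ofFinite Ω
    have h1 : Nat.card (Σ s : T, fixedBy Ω s.1) = Nat.card T * i := by
      rw [Nat.card_sigma, Finset.sum_congr rfl fun s _ => hi (s : T).1 (s : T).2.1, Finset.sum_const, Finset.card_univ,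
        smul_eq_mul, ← Nat.card_eq_fintype_card]
    rw [← h1, ← hi t ht, ← card_moved, mul_comm]
    let f : (Σ s : T, fixedBy Ω s.1) → {c : Ω // t • c ≠ c} := fun q => ⟨q.2.1, hout q.1 q.2.1 q.2.2⟩
    haveI := Fintype.ofFinite T
    rw [Nat.card_eq_fintype_card, Nat.card_eq_fintype_card, mul_comm, ← Finset.card_univ]
    refine Finset.card_le_mul_card_image_of_maps_to (f := f) (t := Finset.univ) (fun q _ => Finset.mem_univ _) 3
      fun c _ => ?_
    by_cases he : (Finset.univ.filter fun q => f q = c).Nonempty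
    · obtain ⟨⟨s₀, c₀⟩, hq⟩ := he
      have hc₀ : c₀.1 = c.1 := congrArg Subtype.val (Finset.mem_filter.1 hq).2
      have h3 : ((Finset.univ.filter fun y : ↥(kerOf Ω s₀.1) => y ≠ 1)).card = 3 := by
        rw [Finset.filter_ne', Finset.card_erase_of_mem (Finset.mem_univ _), Finset.card_univ,
          ← Nat.card_eq_fintype_card, hK _ s₀.2.1]
      rw [← h3]
      have hq1 : ∀ q ∈ Finset.univ.filter (fun q => f q = c), q.2.1 = c.1 := fun q hq =>
        congrArg Subtype.val (Finset.mem_filter.1 hq).2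
      refine Finset.card_le_card_of_injOn
        (fun q => if hh : q.1.1 ∈ kerOf Ω s₀.1 then ⟨q.1.1, hh⟩ else 1) (fun q hq => ?_) (fun q hq q' hq' e => ?_)
      · have hk : q.1.1 ∈ kerOf Ω s₀.1 := hcomm s₀ q.1 c.1 (hc₀ ▸ c₀.2) (hq1 q hq ▸ q.2.2)
        simp only [dif_pos hk, Finset.coe_filter, Finset.mem_univ, true_and, Set.mem_setOf_eq]
        exact fun e => q.1.2.1.2.1 (congrArg Subtype.val e)
      · have hk : q.1.1 ∈ kerOf Ω s₀.1 := hcomm s₀ q.1 c.1 (hc₀ ▸ c₀.2) (hq1 q hq ▸ q.2.2)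
        have hk' : q'.1.1 ∈ kerOf Ω s₀.1 := hcomm s₀ q'.1 c.1 (hc₀ ▸ c₀.2) (hq1 q' hq' ▸ q'.2.2)
        simp only [dif_pos hk, dif_pos hk', Subtype.mk.injEq] at e
        have e' : q.1 = q'.1 := Subtype.ext e
        obtain ⟨s, p⟩ := q
        obtain ⟨s', p'⟩ := q'
        obtain rfl : s = s' := e'
        obtain rfl : p = p' := Subtype.ext ((hq1 _ hq).trans (hq1 _ hq').symm)
        rfl
    · rw [Finset.not_nonempty_iff_eq_empty.1 he, Finset.card_empty]
      exact Nat.zero_le 3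
  -- the involutions exchanging `a` with the other fixed points
  have hlower : ∀ E : Finset G, (∀ s ∈ E, s ∈ doubles G Ω ∧ Swaps s a b ∧ s * t = t * s) →
      (i - 1) * E.card ≤ Nat.card T := by
    intro E hE
    haveI := Fintype.ofFinite Ω
    have hg : ∀ d : {d : ↥(fixedBy Ω t) // d ≠ ⟨a, htP.1⟩},
        ∃ g : G, g * t = t * g ∧ g • a = a ∧ g • b = d.1.1 := by
      intro d
      obtain ⟨g, hg, h1, h2⟩ := h.cent_move ht hab (c := a) (d := d.1.1) (fun e => d.2 (Subtype.ext e.symm)) htP.1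
        htP.2 htP.1 d.1.2
      exact ⟨g, mem_centralizer_singleton_iff.1 hg, h1, h2⟩
    choose g hgt hga hgb using hg
    have hmem : ∀ (d : {d : ↥(fixedBy Ω t) // d ≠ ⟨a, htP.1⟩}) (s : E), Swaps (g d * s.1 * (g d)⁻¹) a d.1.1 := by
      intro d s
      have := (hE s.1 s.2).2.1.conj (h := g d)
      rwa [hga d, hgb d] at this
    let F : {d : ↥(fixedBy Ω t) // d ≠ ⟨a, htP.1⟩} × E → T := fun q => ⟨g q.1 * q.2.1 * (g q.1)⁻¹,
      doubles_closed _ (hE _ q.2.2).1 _,
      mem_centralizer_singleton_iff.1 ((centralizer ({t} : Set G)).mul_mem ((centralizer ({t} : Set G)).mul_mem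
        (mem_centralizer_singleton_iff.2 (hgt q.1)) (mem_centralizer_singleton_iff.2 (hE _ q.2.2).2.2))
        ((centralizer ({t} : Set G)).inv_mem (mem_centralizer_singleton_iff.2 (hgt q.1)))),
      fun hh => q.1.2 (Subtype.ext ((hmem q.1 q.2).1.symm.trans ((mem_kerOf.1 hh).2 a htP.1)))⟩
    have hF : Function.Injective F := by
      rintro ⟨d, s⟩ ⟨d', s'⟩ e
      have e1 : g d * s.1 * (g d)⁻¹ = g d' * s'.1 * (g d')⁻¹ := congrArg Subtype.val e
      have hd : d = d' := Subtype.ext (Subtype.ext ((hmem d s).1.symm.trans (by rw [e1]; exact (hmem d' s').1)))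
      subst hd
      exact Prod.ext rfl (Subtype.ext (mul_left_cancel (mul_right_cancel e1)))
    refine le_trans (le_of_eq ?_) (Nat.card_le_card_of_injective F hF)
    rw [Nat.card_prod, Nat.card_eq_fintype_card, Nat.card_eq_fintype_card, Fintype.card_coe,
      Fintype.card_subtype_compl, Fintype.card_subtype_eq, ← Nat.card_eq_fintype_card, hi t ht]
  -- elements available in the coset of the four group
  have hzt : z * t = t * z := hzc t htP
  haveI := Fintype.ofFinite G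
  let Vs : Finset G := Finset.univ.filter fun x => x ∈ kerOf Ω t ∧ x ≠ 1
  have hVs : Vs.card = 3 := by
    rw [show Vs = (Finset.univ.filter fun x => x ∈ kerOf Ω t).erase 1 by ext; simp [Vs, and_comm],
      Finset.card_erase_of_mem (by simp [one_mem]), ← Fintype.card_subtype, ← Nat.card_eq_fintype_card, hK t ht]
  have hzV : (∀ x ∈ stabilizer G a ⊓ stabilizer G b, x * x = 1 → x ≠ 1 → z * x ∈ doubles G Ω) →
      ∀ s ∈ Vs.image (fun x => z * x), s ∈ doubles G Ω ∧ Swaps s a b ∧ s * t = t * s := by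
    intro hd s hs
    obtain ⟨x, hx, rfl⟩ := Finset.mem_image.1 hs
    obtain ⟨hx, hx1⟩ := (Finset.mem_filter.1 hx).2
    have hxk := hx
    rw [hV] at hxk
    refine ⟨hd x hxk.1 (h.kerOf_sq ht hx) hx1, ⟨?_, ?_⟩, ?_⟩
    · rw [mul_smul, show x • a = a from hxk.1.1, hzs.1]
    · rw [mul_smul, show x • b = b from hxk.1.2, hzs.2]
    · rw [mul_assoc, (mem_kerOf.1 hx).1, ← mul_assoc, hzt, mul_assoc]
  have h5 : ∀ e : ℕ, (i - 1) * e ≤ Nat.card T → 5 * e ≤ m₀ + m₁ := by
    intro e he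
    have h1 : (i - 1) * e * i ≤ 3 * (Nat.card Ω - i) := le_trans (Nat.mul_le_mul_right i he) hupper
    have h2 : 5 * e * (i * (i - 1)) ≤ (m₀ + m₁) * (i * (i - 1)) := by
      rw [← hcount]; nlinarith
    exact Nat.le_of_mul_le_mul_right h2 (Nat.mul_pos (by omega) (by omega))
  rcases h1 with ⟨h1, hm1⟩ | ⟨-, hm1⟩
  · have hc : (Vs.image fun x => z * x).card = 3 := by
      rw [Finset.card_image_of_injective _ (mul_right_injective z), hVs]
    rcases h0 with ⟨h0, hm0⟩ | ⟨h0, hm0⟩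
    · have hz' : z ∉ Vs.image fun x => z * x := fun hh => by
        obtain ⟨x, hx, e⟩ := Finset.mem_image.1 hh
        exact (Finset.mem_filter.1 hx).2.2 (mul_eq_left.1 e)
      have := h5 4 (by
        have := hlower (insert z (Vs.image fun x => z * x)) (fun s hs => (Finset.mem_insert.1 hs).elim
          (fun e => e ▸ ⟨h0, hzs, hzt⟩) (hzV h1 s))
        rwa [Finset.card_insert_of_notMem hz', hc] at this)
      omega
    · rw [hm0, hm1, zero_add] at hcount
      have hn : Nat.card Ω = i * i := by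
        have h2 := Nat.eq_of_mul_eq_mul_left (by norm_num : 0 < 15) hcount
        rw [Nat.mul_sub, mul_one] at h2
        have : i ≤ i * i := Nat.le_mul_self i
        omega
      obtain ⟨j, hj⟩ := hR.two_pow_of_even heven'
      rw [hi t ht] at hj
      exact h.d_trick hi2 hin hi hab ⟨hzs, hz2, hzc⟩ h0 h1 (j := j + j) (by rw [hn, hj, pow_add])
  · rcases h0 with ⟨h0, hm0⟩ | ⟨-, hm0⟩
    · have := h5 1 (by
        have := hlower {z} (fun s hs => by rw [Finset.mem_singleton] at hs; exact hs ▸ ⟨h0, hzs, hzt⟩)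
        rwa [Finset.card_singleton] at this)
      omega
    · rw [hm0, hm1, zero_add, zero_mul] at hcount
      omega

/-- The symmetric case forces an odd number of fixed points. -/
theorem caseOne_sym_even {a b : Ω} (hab : a ≠ b) (hS : ∀ z : G, ¬ IsCentral a b z) (heven : Even i) : False := by
  obtain ⟨h10, -, hts, -⟩ := h.sType_facts hi2 hin hi hab hS
  obtain ⟨t, ht, htP⟩ := h.exists_double hab
  have hcount := h.eq_count hi hab h10
  rcases hi2.eq_or_lt with rfl | hi3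
  · omega
  obtain ⟨-, τ, hτ, hτs, hτt, w, hwP, hw2, hw1, hwt, hwc, hτw⟩ := hts t htP ht.1 ht.2.1
  have hwV : w ∈ kerOf Ω t := by
    rw [h.kerOf_eq hK ht hab htP.1 htP.2]; exact ⟨hwP, mem_centralizer_singleton_iff.2 hwc⟩
  have hW := four_cases (hK t ht) (self_mem_kerOf t) hwV ht.2.1 hw1 hwt ht.1
  have hwt' : t * w = w * t := hwc.symm
  set R := (restrictHom (centralizer ({t} : Set G)) (fixedBy Ω t) (fixed_maps t)).range
  have hR : Sharp R (fixedBy Ω t) := h.sharp_cent hK ht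
  have heven' : Even (Nat.card (fixedBy Ω t)) := by rw [hi t ht]; exact heven
  have hd : ∀ d : Ω, t • d = d → d ≠ a → ∃ y : G, y * t = t * y ∧ y * y = 1 ∧ Swaps y a d ∧ y * w * y⁻¹ = w * t := by
    intro d hdt hda
    obtain ⟨g, hg, hga, hgb⟩ := h.cent_move ht hab (c := a) (d := d) hda.symm htP.1 htP.2 htP.1 hdt
    have hgt := mem_centralizer_singleton_iff.1 hg
    refine ⟨g * τ * g⁻¹, mem_centralizer_singleton_iff.1 ((centralizer ({t} : Set G)).mul_mem
      ((centralizer ({t} : Set G)).mul_mem hg (mem_centralizer_singleton_iff.2 hτt))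
      ((centralizer ({t} : Set G)).inv_mem hg)), sq_conj hτ.1 g, ?_, ?_⟩
    · have := hτs.conj (h := g)
      rwa [hga, hgb] at this
    · have hwg : g⁻¹ * w * g ∈ kerOf Ω t := by
        have := conj_mem_kerOf (g := g⁻¹) (mem_centralizer_singleton_iff.1 ((centralizer ({t} : Set G)).inv_mem hg)) hwV
        rwa [inv_inv] at this
      have hτ' : τ * (g⁻¹ * w * g) * τ⁻¹ = g⁻¹ * w * g * t := by
        rcases hW _ hwg with e | e | e | e
        · exfalso
          refine hw1 ?_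
          have : w = g * 1 * g⁻¹ := by rw [← e]; group
          rw [this, mul_one, mul_inv_cancel]
        · exfalso
          refine hwt ?_
          have : w = g * t * g⁻¹ := by rw [← e]; group
          rw [this, hgt, mul_inv_cancel_right]
        · rw [e, hτw]
        · rw [e, show τ * (t * w) * τ⁻¹ = τ * t * τ⁻¹ * (τ * w * τ⁻¹) by group, hτt, mul_inv_cancel_right, hτw,
            mul_assoc]
      rw [show g * τ * g⁻¹ * w * (g * τ * g⁻¹)⁻¹ = g * (τ * (g⁻¹ * w * g) * τ⁻¹) * g⁻¹ by group, hτ',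
        show g * (g⁻¹ * w * g * t) * g⁻¹ = w * (g * t * g⁻¹) by group, hgt, mul_inv_cancel_right]
  obtain ⟨d₁, hd₁t, hd₁a⟩ : ∃ d : Ω, t • d = d ∧ d ≠ a := ⟨b, htP.2, hab.symm⟩
  obtain ⟨d₂, hd₂t, hd₂a, hd₂d⟩ : ∃ d : Ω, t • d = d ∧ d ≠ a ∧ d ≠ d₁ := by
    by_contra! hh
    have hsub : fixedBy Ω t ⊆ {a, d₁} := fun p hp => by
      by_cases hpa : p = a
      · exact Or.inl hpa
      · exact Or.inr (hh p hp hpa)
    have := Set.ncard_le_ncard hsub (Set.toFinite _)
    rw [← Nat.card_coe_set_eq, hi t ht] at this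
    have h2 := (Set.ncard_insert_le a ({d₁} : Set Ω))
    rw [Set.ncard_singleton] at h2
    omega
  obtain ⟨y₁, hy₁t, hy₁, hy₁s, hy₁w⟩ := hd d₁ hd₁t hd₁a
  obtain ⟨y₂, hy₂t, hy₂, hy₂s, hy₂w⟩ := hd d₂ hd₂t hd₂a
  have hy₁C : y₁ ∈ centralizer ({t} : Set G) := mem_centralizer_singleton_iff.2 hy₁t
  have hy₂C : y₂ ∈ centralizer ({t} : Set G) := mem_centralizer_singleton_iff.2 hy₂t
  set d₃ := y₁ • d₂
  have hd₃t : t • d₃ = d₃ := fixed_maps t y₁ hy₁C d₂ hd₂t
  have hd₃a : d₃ ≠ a := fun e => hd₂d (MulAction.injective y₁ (e.trans hy₁s.2.symm))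
  obtain ⟨y₃, hy₃t, hy₃, hy₃s, hy₃w⟩ := hd d₃ hd₃t hd₃a
  have hy₃C : y₃ ∈ centralizer ({t} : Set G) := mem_centralizer_singleton_iff.2 hy₃t
  set r₁ := img Ω t ⟨y₁, hy₁C⟩
  set r₂ := img Ω t ⟨y₂, hy₂C⟩
  set r₃ := img Ω t ⟨y₃, hy₃C⟩
  have hr₁ : r₁ * r₁ = 1 := by rw [← map_mul, ← map_one (img Ω t)]; exact congrArg _ (Subtype.ext hy₁)
  have hr₂ : r₂ * r₂ = 1 := by rw [← map_mul, ← map_one (img Ω t)]; exact congrArg _ (Subtype.ext hy₂)
  have hne₁ : r₁ ≠ 1 := fun e => hd₁a (hy₁s.1.symm.trans ((mem_kerOf.1 ((img_eq_one t _).1 e)).2 a htP.1))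
  have hne₂ : r₂ ≠ 1 := fun e => hd₂a (hy₂s.1.symm.trans ((mem_kerOf.1 ((img_eq_one t _).1 e)).2 a htP.1))
  have hc := hR.commute_of_even heven' hr₁ hne₁ hr₂ hne₂
  have h12 : (r₁ * r₂) • (⟨a, htP.1⟩ : fixedBy Ω t) = ⟨d₃, hd₃t⟩ :=
    Subtype.ext (by rw [mul_smul, img_smul, img_smul]; exact congrArg (y₁ • ·) hy₂s.1)
  have hs12 : (r₁ * r₂) * (r₁ * r₂) = 1 := by
    rw [mul_assoc, ← mul_assoc r₂, ← hc, mul_assoc r₁ r₂, hr₂, mul_one, hr₁]
  have he : r₁ * r₂ = r₃ := by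
    refine hR.swap_unique (a := ⟨a, htP.1⟩) (b := ⟨d₃, hd₃t⟩) (fun e => hd₃a (congrArg Subtype.val e).symm) ?_
      ⟨Subtype.ext hy₃s.1, Subtype.ext hy₃s.2⟩
    have := swaps_invol (x := (⟨a, htP.1⟩ : fixedBy Ω t)) hs12
    rwa [h12] at this
  have hker : (y₁ * y₂)⁻¹ * y₃ ∈ kerOf Ω t := by
    refine (img_eq_one (Ω := Ω) t ((⟨y₁, hy₁C⟩ * ⟨y₂, hy₂C⟩)⁻¹ * ⟨y₃, hy₃C⟩)).1 ?_
    rw [map_mul, map_inv, map_mul]
    exact inv_mul_eq_one.2 he
  set v := (y₁ * y₂)⁻¹ * y₃ with hv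
  have hvw : v * w * v⁻¹ = w := by
    have h1 := h.kerOf_sq ht (mul_mem hker hwV)
    rw [mul_inv_eq_iff_eq_mul]
    calc v * w = (v * w)⁻¹ := (inv_eq_of_mul_eq_one_right h1).symm
      _ = w * v := by rw [mul_inv_rev, inv_eq_of_mul_eq_one_right hw2,
        inv_eq_of_mul_eq_one_right (h.kerOf_sq ht hker)]
  refine ht.2.1 (mul_eq_left.1 (?_ : w * t = w))
  calc w * t = y₃ * w * y₃⁻¹ := hy₃w.symm
    _ = y₁ * (y₂ * (v * w * v⁻¹) * y₂⁻¹) * y₁⁻¹ := by rw [hv]; group
    _ = y₁ * (w * t) * y₁⁻¹ := by rw [hvw, hy₂w]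
    _ = y₁ * w * y₁⁻¹ * (y₁ * t * y₁⁻¹) := by group
    _ = w := by rw [hy₁w, hy₁t, mul_inv_cancel_right, mul_assoc, ht.1, mul_one]

/-- The symmetric case gives the alternating group of degree seven. -/
theorem caseOne_sym_odd {a b : Ω} (hab : a ≠ b) (hS : ∀ z : G, ¬ IsCentral a b z) (hodd : Odd i) :
    Nat.card Ω = 7 ∧ Nonempty (G ≃* alternatingGroup (Fin 7)) := by
  classical
  haveI : Fact (Nat.Prime 2) := ⟨Nat.prime_two⟩
  obtain ⟨-, hall, hts, D, ⟨eD⟩⟩ := h.sType_facts hi2 hin hi hab hS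
  obtain ⟨t, ht, htP⟩ := h.exists_double hab
  obtain ⟨-, τ, hτ, hτs, hτt, w, hwP, hw2, hw1, hwt, hwc, hτw⟩ := hts t htP ht.1 ht.2.1
  set C := centralizer ({t} : Set G) with hC
  set R := (restrictHom C (fixedBy Ω t) (fixed_maps t)).range
  have hR : Sharp R (fixedBy Ω t) := h.sharp_cent hK ht
  have hodd' : Odd (Nat.card (fixedBy Ω t)) := by rw [hi t ht]; exact hodd
  have hwV : w ∈ kerOf Ω t := by
    rw [h.kerOf_eq hK ht hab htP.1 htP.2]; exact ⟨hwP, mem_centralizer_singleton_iff.2 hwc⟩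
  have hW := four_cases (hK t ht) (self_mem_kerOf t) hwV ht.2.1 hw1 hwt ht.1
  -- a 2-element of the centraliser acts as an involution
  have hexp : ∀ y : C, (∃ j : ℕ, img Ω t y ^ 2 ^ j = 1) → img Ω t y * img Ω t y = 1 := by
    intro y hy
    by_contra hne
    have hex : ∃ j : ℕ, img Ω t y ^ 2 ^ j = 1 := hy
    set j := Nat.find hex with hj
    have hj2 : 2 ≤ j := by
      by_contra hh
      have hspec := Nat.find_spec hex
      rw [← hj] at hspec
      interval_cases j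
      · rw [pow_zero, pow_one] at hspec; exact hne (by rw [hspec, one_mul])
      · rw [pow_one, pow_two] at hspec; exact hne hspec
    obtain ⟨l, hl⟩ : ∃ l, j = l + 2 := ⟨j - 2, by omega⟩
    set y' : C := y ^ 2 ^ l
    have h4 : img Ω t y' ^ 4 = 1 := by
      rw [← Nat.find_spec hex, ← hj, hl, map_pow, ← pow_mul, pow_add]
      norm_num
    have h2 : img Ω t (y' * y') ≠ 1 := by
      rw [map_mul, ← pow_two, map_pow, ← pow_mul, ← pow_succ]
      exact Nat.find_min hex (by omega)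
    have hinv : img Ω t (y' * y') * img Ω t (y' * y') = 1 := by
      rw [map_mul, ← pow_two (img Ω t y'), ← pow_add]; exact h4
    obtain ⟨q, hq⟩ := hR.exists_fix hodd' hinv
    -- a conjugate of `τ` has the same image
    have hτC : τ ∈ C := mem_centralizer_singleton_iff.2 hτt
    have hrτ : img Ω t ⟨τ, hτC⟩ * img Ω t ⟨τ, hτC⟩ = 1 := by
      rw [← map_mul, ← map_one (img Ω t)]; exact congrArg _ (Subtype.ext hτ.1)
    have hrτ1 : img Ω t ⟨τ, hτC⟩ ≠ 1 := fun e =>
      hab (((mem_kerOf.1 ((img_eq_one t _).1 e)).2 a htP.1).symm.trans hτs.1)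
    obtain ⟨p, hp⟩ := hR.exists_fix hodd' hrτ
    obtain ⟨p', hp'⟩ := hR.exists_ne p
    obtain ⟨q', hq'⟩ := hR.exists_ne q
    obtain ⟨r, hr, -⟩ := hR.move p p' q q' hp'.symm hq'.symm
    obtain ⟨g, rfl⟩ := (restrictHom C (fixedBy Ω t) (fixed_maps t)).rangeRestrict_surjective r
    have he := hR.eq_of_fix hodd' hinv h2 (s' := img Ω t (g * ⟨τ, hτC⟩ * g⁻¹)) ?_ ?_ hq ?_
    · have hker : (((y' * y') * (g * ⟨τ, hτC⟩ * g⁻¹)⁻¹ : C) : G) ∈ kerOf Ω t := by
        refine (img_eq_one t _).1 ?_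
        rw [map_mul, map_inv, he, mul_inv_cancel]
      set v : G := ((y' * y') * (g * ⟨τ, hτC⟩ * g⁻¹)⁻¹).1 with hv
      set k : G := y'.1 with hk
      have hk2 : k * k = v * (g.1 * τ * g.1⁻¹) := by rw [hv]; simp [k, mul_assoc]
      have hkt : k * t = t * k := mem_centralizer_singleton_iff.1 y'.2
      have hgt : g.1 * t = t * g.1 := mem_centralizer_singleton_iff.1 g.2
      have hcent : ∀ x ∈ kerOf Ω t, ∀ x' ∈ kerOf Ω t, x * x' = x' * x := fun x hx x' hx' => by
        calc x * x' = (x * x')⁻¹ := (inv_eq_of_mul_eq_one_right (h.kerOf_sq ht (mul_mem hx hx'))).symm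
          _ = x' * x := by rw [mul_inv_rev, inv_eq_of_mul_eq_one_right (h.kerOf_sq ht hx),
            inv_eq_of_mul_eq_one_right (h.kerOf_sq ht hx')]
      -- the square acts trivially on the four group
      have hsq : k * k * w * (k * k)⁻¹ = w := by
        rcases hW _ (conj_mem_kerOf hkt hwV) with e | e | e | e
        · exact absurd (conj_eq_one_iff.1 e) hw1
        · exact absurd (mul_left_cancel (mul_right_cancel
            (show k * w * k⁻¹ = k * t * k⁻¹ by rw [e, hkt, mul_inv_cancel_right]))) hwt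
        · rw [show k * k * w * (k * k)⁻¹ = k * (k * w * k⁻¹) * k⁻¹ by group, e, e]
        · rw [show k * k * w * (k * k)⁻¹ = k * (k * w * k⁻¹) * k⁻¹ by group, e,
            show k * (t * w) * k⁻¹ = k * t * k⁻¹ * (k * w * k⁻¹) by group, hkt, mul_inv_cancel_right, e,
            ← mul_assoc, ht.1, one_mul]
      have hwg : g.1⁻¹ * w * g.1 ∈ kerOf Ω t := by
        have := conj_mem_kerOf (g := g.1⁻¹)
          (mem_centralizer_singleton_iff.1 (C.inv_mem g.2)) hwV
        rwa [inv_inv] at this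
      have hτg : g.1 * τ * g.1⁻¹ * w * (g.1 * τ * g.1⁻¹)⁻¹ = w * t := by
        have hτ' : τ * (g.1⁻¹ * w * g.1) * τ⁻¹ = g.1⁻¹ * w * g.1 * t := by
          rcases hW _ hwg with e | e | e | e
          · exfalso
            refine hw1 ?_
            have : w = g.1 * 1 * g.1⁻¹ := by rw [← e]; group
            rw [this, mul_one, mul_inv_cancel]
          · exfalso
            refine hwt ?_
            have : w = g.1 * t * g.1⁻¹ := by rw [← e]; group
            rw [this, hgt, mul_inv_cancel_right]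
          · rw [e, hτw]
          · rw [e, show τ * (t * w) * τ⁻¹ = τ * t * τ⁻¹ * (τ * w * τ⁻¹) by group, hτt, mul_inv_cancel_right, hτw,
              mul_assoc]
        rw [show g.1 * τ * g.1⁻¹ * w * (g.1 * τ * g.1⁻¹)⁻¹ = g.1 * (τ * (g.1⁻¹ * w * g.1) * τ⁻¹) * g.1⁻¹ by group,
          hτ', show g.1 * (g.1⁻¹ * w * g.1 * t) * g.1⁻¹ = w * (g.1 * t * g.1⁻¹) by group, hgt,
          mul_inv_cancel_right]
      rw [hk2, show v * (g.1 * τ * g.1⁻¹) * w * (v * (g.1 * τ * g.1⁻¹))⁻¹ =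
          v * (g.1 * τ * g.1⁻¹ * w * (g.1 * τ * g.1⁻¹)⁻¹) * v⁻¹ by group, hτg,
        hcent v hker (w * t) (mul_mem hwV (self_mem_kerOf t)), mul_inv_cancel_right] at hsq
      exact ht.2.1 (mul_eq_left.1 hsq)
    · rw [← map_mul, ← map_one (img Ω t)]; exact congrArg _ (Subtype.ext (sq_conj hτ.1 g.1))
    · rw [map_mul, map_mul, map_inv]; exact fun e => hrτ1 (conj_eq_one_iff.1 e)
    · rw [map_mul, map_mul, map_inv, ← hr, mul_smul]
      show (img Ω t g * img Ω t ⟨τ, hτC⟩) • (img Ω t g)⁻¹ • (img Ω t g • p) = img Ω t g • p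
      rw [inv_smul_smul, mul_smul, hp]
  -- the Sylow 2-subgroups have order eight
  obtain ⟨P⟩ := (inferInstance : Nonempty (Sylow 2 G))
  have hD8 : Nat.card D = 8 := by rw [Nat.card_congr eD.toEquiv, DihedralGroup.nat_card]
  obtain ⟨Q, hDQ⟩ := (IsPGroup.of_card (p := 2) (n := 3) (by rw [hD8]; norm_num) : IsPGroup 2 D).exists_le_sylow
  haveI : Nontrivial ↥(Q : Subgroup G) := Finite.one_lt_card_iff_nontrivial.1 (by
    have := Subgroup.card_le_of_le hDQ; omega)
  haveI : Nontrivial (Subgroup.center ↥(Q : Subgroup G)) := Q.2.center_nontrivial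
  obtain ⟨c, hc⟩ := exists_prime_orderOf_dvd_card' (G := Subgroup.center ↥(Q : Subgroup G)) 2 (by
    obtain ⟨j, hj⟩ := IsPGroup.iff_card.1 (Q.2.to_subgroup (Subgroup.center ↥(Q : Subgroup G)))
    have := Finite.one_lt_card (α := Subgroup.center ↥(Q : Subgroup G))
    rcases j with _ | j
    · rw [pow_zero] at hj; omega
    · rw [hj, pow_succ]; exact Dvd.intro_left _ rfl)
  set u : G := c.1.1 with hu
  have hu2 : orderOf u = 2 := by rw [hu, orderOf_coe, orderOf_coe, hc]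
  have hud := hall u (InvolCalc.sq_of_order_two hu2) (InvolCalc.ne_one_of_order_two hu2)
  obtain ⟨g, hg⟩ := h.doubles_conj hud ht
  set Q' := (Q : Subgroup G).map (MulAut.conj g).toMonoidHom
  have hQ'C : Q' ≤ C := by
    rintro _ ⟨x, hx, rfl⟩
    refine mem_centralizer_singleton_iff.2 ?_
    show g * x * g⁻¹ * t = t * (g * x * g⁻¹)
    have hxu : x * u = u * x := congrArg Subtype.val (Subgroup.mem_center_iff.1 c.2 ⟨x, hx⟩)
    rw [← hg, show g * x * g⁻¹ * (g * u * g⁻¹) = g * (x * u) * g⁻¹ by group, hxu]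
    group
  have hcardQ' : Nat.card Q' = Nat.card (Q : Subgroup G) :=
    Subgroup.card_map_of_injective (MulAut.conj g).injective
  have hQ'8 : Nat.card Q' ≤ 8 := by
    have hQ'2 : IsPGroup 2 Q' := Q.2.map _
    let f : Q' →* R := (img Ω t).comp (Subgroup.inclusion hQ'C)
    have hinvs : ∀ x : Q', f x * f x = 1 := fun x => by
      obtain ⟨j, hj⟩ := hQ'2 x
      exact hexp _ ⟨j, by rw [← map_pow, ← map_pow, hj, map_one, map_one]⟩
    have hker : Nat.card f.ker ≤ 4 := by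
      rw [← hK t ht]
      refine Nat.card_le_card_of_injective (fun x : f.ker => (⟨x.1.1, (img_eq_one t _).1 x.2⟩ : kerOf Ω t)) ?_
      intro x y e
      exact Subtype.ext (Subtype.ext (congrArg Subtype.val e :))
    have hrange : Nat.card f.range ≤ 2 := by
      -- all the involutions of the image fix a common point
      obtain ⟨⟨p, hp⟩⟩ : Nonempty {p : fixedBy Ω t // ∀ x : Q', f x • p = p} := by
        letI : MulAction Q' (fixedBy Ω t) := MulAction.compHom _ f
        obtain ⟨p, hp⟩ := hQ'2.nonempty_fixed_point_of_prime_not_dvd_card (fixedBy Ω t)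
          (fun hd => by rw [Nat.odd_iff] at hodd'; omega)
        exact ⟨⟨p, hp⟩⟩
      by_contra hgt
      obtain ⟨x, hx⟩ : ∃ x : f.range, x ≠ 1 := by
        haveI : Nontrivial f.range := Finite.one_lt_card_iff_nontrivial.1 (by omega)
        exact exists_ne 1
      have hall' : ∀ y : f.range, y = 1 ∨ y = x := by
        intro y
        by_cases hy : y = 1
        · exact Or.inl hy
        obtain ⟨y₀, hy₀⟩ := y.2
        obtain ⟨x₀, hx₀⟩ := x.2
        refine Or.inr (Subtype.ext ?_)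
        refine hR.eq_of_fix hodd' ?_ (fun e => hy (Subtype.ext e)) ?_ (fun e => hx (Subtype.ext e)) (p := p) ?_ ?_
        · rw [← hy₀]; exact hinvs y₀
        · rw [← hx₀]; exact hinvs x₀
        · rw [← hy₀]; exact hp y₀
        · rw [← hx₀]; exact hp x₀
      have : Nat.card f.range ≤ 2 := by
        haveI := Fintype.ofFinite f.range
        rw [Nat.card_eq_fintype_card]
        calc Fintype.card f.range ≤ ({1, x} : Finset f.range).card :=
              Finset.card_le_card fun y _ => by simpa using hall' y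
          _ ≤ 2 := Finset.card_le_two
      omega
    have hmul := f.ker.card_mul_index
    rw [Subgroup.index_ker] at hmul
    calc Nat.card Q' = Nat.card f.ker * Nat.card f.range := hmul.symm
      _ ≤ 4 * 2 := Nat.mul_le_mul hker hrange
  have hQ8 : Nat.card (Q : Subgroup G) = 8 := le_antisymm (hcardQ' ▸ hQ'8) (hD8 ▸ Subgroup.card_le_of_le hDQ)
  have hDeq : D = (Q : Subgroup G) := Subgroup.eq_of_le_of_card_ge hDQ (by omega)
  have hsq : ∀ u ∈ doubles G Ω, ∀ g : G, g * u = u * g → (∀ p : Ω, u • p = p → g • p = p) → g * g = 1 :=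
    fun u hu g hg hf => h.kerOf_sq hu (mem_kerOf.2 ⟨hg, hf⟩)
  obtain ⟨h5040, hfin⟩ := h.dihedral_end hi2 hin hi hab hS hodd Q (m := 4) (by norm_num)
    ⟨(MulEquiv.subgroupCongr hDeq).symm.trans eD⟩ hsq
  refine hfin ?_
  have h60 : 60 ∣ Nat.card G := ⟨_, by rw [h.card_G, mul_comm]⟩
  have h8 : 8 ∣ Nat.card G := hQ8 ▸ Subgroup.card_subgroup_dvd_card _
  have h16 : ¬ 16 ∣ Nat.card G := fun hh => Q.not_dvd_index (by
    have h2 := (Q : Subgroup G).card_mul_index
    rw [hQ8] at h2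
    rw [← h2] at hh
    exact (Nat.mul_dvd_mul_iff_left (by norm_num : 0 < 8)).1 (show 8 * 2 ∣ 8 * (Q : Subgroup G).index from hh))
  obtain ⟨d, hd⟩ : 120 ∣ Nat.card G := (Nat.lcm_dvd h60 h8 : Nat.lcm 60 8 ∣ Nat.card G)
  rw [hd] at h5040 h16 ⊢
  have hd42 : d ∣ 42 := (Nat.mul_dvd_mul_iff_left (by norm_num : 0 < 120)).1 (show 120 * d ∣ 120 * 42 from h5040)
  obtain ⟨n, hn, hn2, hn'⟩ : ∃ n, n = Nat.card Ω ∧ 2 ≤ n ∧ n * (n - 1) * 60 = 120 * d :=
    ⟨_, rfl, h.two, by rw [← h.card_G, hd]⟩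
  have hn14 : n ≤ 10 := by
    by_contra hh
    have := Nat.mul_le_mul (show 11 ≤ n by omega) (show 10 ≤ n - 1 by omega)
    have := Nat.le_of_dvd (by norm_num) hd42
    omega
  have hn4 : 4 ≤ n := by
    obtain ⟨j, hj⟩ := hodd
    omega
  have hdodd : d % 2 = 1 := by
    by_contra hh
    obtain ⟨c, rfl⟩ : 2 ∣ d := Nat.dvd_of_mod_eq_zero (by omega)
    exact h16 ⟨15 * c, by ring⟩
  have hd2 : n * (n - 1) = 2 * d := by omega
  interval_cases n <;> norm_num at hd2
  all_goals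
    first
      | omega
      | (rcases (show d = 15 ∨ d = 45 by omega) with rfl | rfl <;> norm_num at hd42)

end TwoA5

end Cfsg.Lib.TwoPointFive
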