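import Cfsg.Agent.TwoPointFive.CaseOne

/-!
The case in which only the involution itself fixes all its fixed points: the first facts (row 3262).
-/

set_option autoImplicit false
set_option linter.unusedSectionVars false
set_option linter.style.haveILetI false

namespace Cfsg.Lib.TwoPointFive

open MulAction Subgroup Equiv

universe u v

variable {G : Type u} {Ω : Type v} [Group G] [Finite G] [Finite Ω] [MulAction G Ω]

/-- The group induced on the fixed points of `t` by its centraliser. -/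
abbrev imgGroup (Ω : Type v) [MulAction G Ω] (t : G) : Subgroup (Equiv.Perm ↥(fixedBy Ω t)) :=
  (restrictHom (centralizer ({t} : Set G)) (fixedBy Ω t) (fixed_maps t)).range

omit [Finite G] [Finite Ω] in
theorem img_surjective (t : G) : Function.Surjective (img Ω t) :=
  (restrictHom (centralizer ({t} : Set G)) (fixedBy Ω t) (fixed_maps t)).rangeRestrict_surjective

omit [Finite G] [Finite Ω] in
theorem img_fix_iff (t : G) (c : ↥(centralizer ({t} : Set G))) (p : fixedBy Ω t) :
    img Ω t c • p = p ↔ c.1 • p.1 = p.1 := by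
  rw [← img_smul t c p]
  exact ⟨congrArg Subtype.val, fun e => Subtype.ext e⟩

omit [Finite G] [Finite Ω] in
theorem img_sq (t : G) {c : ↥(centralizer ({t} : Set G))} (hc : c.1 * c.1 = 1) :
    img Ω t c * img Ω t c = 1 := by
  rw [← map_mul, ← map_one (img Ω t)]
  exact congrArg _ (Subtype.ext hc)

namespace TwoA5

variable (h : TwoA5 G Ω) {i : ℕ} (hi2 : 2 ≤ i) (hin : i < Nat.card Ω)
  (hi : ∀ u ∈ doubles G Ω, Nat.card (fixedBy Ω u) = i)
  (hK : ∀ u ∈ doubles G Ω, ∀ g ∈ kerOf Ω u, g = 1 ∨ g = u)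
include h hi2 hin hi hK

omit hi2 hin hi in
theorem img_one {t : G} (ht : t ∈ doubles G Ω) {c : ↥(centralizer ({t} : Set G))} (hc : img Ω t c = 1) :
    c.1 = 1 ∨ c.1 = t := hK t ht c.1 ((img_eq_one t c).1 hc)

omit hi2 hin hi in
theorem img_eq {t : G} (ht : t ∈ doubles G Ω) {c d : ↥(centralizer ({t} : Set G))} (hcd : img Ω t c = img Ω t d) :
    d.1 = c.1 ∨ d.1 = c.1 * t := by
  rcases h.img_one hK ht (c := c⁻¹ * d) (by rw [map_mul, map_inv, hcd, inv_mul_cancel]) with e | e
  · exact Or.inl (inv_mul_eq_one.1 e).symm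
  · exact Or.inr (eq_mul_of_inv_mul_eq e)

omit hi2 hin hi in
theorem img_self {t : G} : img Ω t ⟨t, mem_centralizer_singleton_iff.2 rfl⟩ = 1 :=
  (img_eq_one t _).2 (self_mem_kerOf t)

omit hi2 hin hi in
theorem img_ne {t : G} (ht : t ∈ doubles G Ω) {c : ↥(centralizer ({t} : Set G))} (h1 : c.1 ≠ 1) (h2 : c.1 ≠ t) :
    img Ω t c ≠ 1 := fun e => (h.img_one hK ht e).elim h1 h2

omit hi2 hin hi in
theorem half_cent {t : G} (ht : t ∈ doubles G Ω) : Half (imgGroup Ω t) (fixedBy Ω t) where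
  move a b c d hab hcd := by
    obtain ⟨g, hg, h1, h2⟩ := h.cent_move ht (fun e => hab (Subtype.ext e)) (fun e => hcd (Subtype.ext e))
      a.2 b.2 c.2 d.2
    exact ⟨img Ω t ⟨g, hg⟩, Subtype.ext h1, Subtype.ext h2⟩
  faith g hg := Subtype.ext (Equiv.ext fun x => hg x)
  two := ht.2.2
  stab a b hab := by
    have hab' : a.1 ≠ b.1 := fun e => hab (Subtype.ext e)
    set P := (stabilizer G a.1 ⊓ stabilizer G b.1) ⊓ centralizer ({t} : Set G)
    have htP : t ∈ P := ⟨⟨a.2, b.2⟩, mem_centralizer_singleton_iff.2 rfl⟩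
    let f : P →* imgGroup Ω t := (img Ω t).comp (Subgroup.inclusion inf_le_right)
    have hran : f.range = stabilizer (imgGroup Ω t) a ⊓ stabilizer (imgGroup Ω t) b := by
      refine le_antisymm ?_ fun r hr => ?_
      · rintro _ ⟨x, rfl⟩
        exact ⟨Subtype.ext x.2.1.1, Subtype.ext x.2.1.2⟩
      · obtain ⟨c, rfl⟩ := img_surjective (Ω := Ω) t r
        exact ⟨⟨c.1, ⟨congrArg Subtype.val hr.1, congrArg Subtype.val hr.2⟩, c.2⟩, rfl⟩
    have hker : Nat.card f.ker = 2 := by
      rw [Nat.card_eq_two_iff' (1 : f.ker)]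
      refine ⟨⟨⟨t, htP⟩, h.img_self hK⟩, fun e => ht.2.1 (congrArg (fun y : f.ker => y.1.1) e), fun y hy => ?_⟩
      rcases h.img_one hK ht (c := Subgroup.inclusion inf_le_right y.1) y.2 with e | e
      · exact absurd (Subtype.ext (Subtype.ext e)) hy
      · exact Subtype.ext (Subtype.ext e)
    have hmul := f.ker.card_mul_index
    rw [Subgroup.index_ker, hker, hran, (h.pair_cent hab' ⟨a.2, b.2⟩ ht.1 ht.2.1).2] at hmul
    omega

omit hi2 hin hi in
/-- The lifts of an involution with two fixed points are of the class of `t`. -/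
theorem lift_double {t : G} (ht : t ∈ doubles G Ω) {c : ↥(centralizer ({t} : Set G))}
    (hc : img Ω t c ∈ doubles (imgGroup Ω t) ↥(fixedBy Ω t)) : c.1 ∈ doubles G Ω := by
  obtain ⟨p, q, hpq, hp, hq⟩ := exists_two_fixed hc
  have hp' := (img_fix_iff t c p).1 hp
  have hq' := (img_fix_iff t c q).1 hq
  have hpq' : p.1 ≠ q.1 := fun e => hpq (Subtype.ext e)
  refine ⟨(h.pair_cent hpq' ⟨p.2, q.2⟩ ht.1 ht.2.1).1 c.1 ⟨hp', hq'⟩ (mem_centralizer_singleton_iff.1 c.2),
    fun e => ?_, two_le_fixed hpq' hp' hq'⟩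
  exact hc.2.1 ((img_eq_one t c).2 (e ▸ one_mem _))

omit hi2 hin in
theorem card_fixed_img {t : G} (ht : t ∈ doubles G Ω) : Nat.card (fixedBy Ω t) = i := hi t ht

end TwoA5

end Cfsg.Lib.TwoPointFive
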