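import Mathlib

/-!
Counting in a group transitive on ordered pairs of distinct points (row 3262).
-/

set_option autoImplicit false
set_option linter.unusedSectionVars false
set_option linter.style.haveILetI false

namespace Cfsg.Lib.TwoPointFive

open MulAction

universe u v

variable {X : Type u} {Φ : Type v} [Group X] [MulAction X Φ]

/-- `g` exchanges `a` and `b`. -/
def Swaps (g : X) (a b : Φ) : Prop := g • a = b ∧ g • b = a

/-- The group is transitive on ordered pairs of distinct points. -/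
structure Pairs (X : Type u) (Φ : Type v) [Group X] [MulAction X Φ] : Prop where
  move : ∀ a b c d : Φ, a ≠ b → c ≠ d → ∃ g : X, g • a = c ∧ g • b = d

theorem Swaps.symm {g : X} {a b : Φ} (h : Swaps g a b) : Swaps g b a := ⟨h.2, h.1⟩

theorem Swaps.conj {g h : X} {a b : Φ} (hg : Swaps g a b) : Swaps (h * g * h⁻¹) (h • a) (h • b) :=
  ⟨by simp [mul_smul, hg.1], by simp [mul_smul, hg.2]⟩

theorem swaps_invol {g : X} {x : Φ} (hg : g * g = 1) : Swaps g x (g • x) :=
  ⟨rfl, by rw [smul_smul, hg, one_smul]⟩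

theorem conj_fixedBy (g h : X) : fixedBy Φ (h * g * h⁻¹) = (fun x => h • x) '' fixedBy Φ g := by
  ext x
  simp only [Set.mem_image, mem_fixedBy]
  constructor
  · intro hx
    refine ⟨h⁻¹ • x, ?_, smul_inv_smul h x⟩
    have := congrArg (fun y => h⁻¹ • y) hx
    simpa [mul_smul] using this
  · rintro ⟨y, hy, rfl⟩
    simp [mul_smul, hy]

theorem card_fixedBy_conj (g h : X) : Nat.card (fixedBy Φ (h * g * h⁻¹)) = Nat.card (fixedBy Φ g) := by
  rw [conj_fixedBy, Nat.card_image_of_injective (MulAction.injective h)]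

theorem card_fixedBy_of_isConj {g g' : X} (h : IsConj g g') : Nat.card (fixedBy Φ g') = Nat.card (fixedBy Φ g) := by
  obtain ⟨c, rfl⟩ := isConj_iff.1 h
  exact card_fixedBy_conj g c

variable [Finite Φ]

theorem card_moved (g : X) : Nat.card {x : Φ // g • x ≠ x} = Nat.card Φ - Nat.card (fixedBy Φ g) := by
  classical
  haveI := Fintype.ofFinite Φ
  rw [Nat.card_eq_fintype_card, Fintype.card_subtype_compl, Nat.card_eq_fintype_card, Nat.card_eq_fintype_card]
  congr 1

/-- An involution fixes as many points as the degree, modulo two. -/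
theorem fixedBy_parity {g : X} (hg : g * g = 1) : Nat.card (fixedBy Φ g) % 2 = Nat.card Φ % 2 := by
  classical
  haveI : Fact (Nat.Prime 2) := ⟨Nat.prime_two⟩
  haveI := Fintype.ofFinite Φ
  let f : Φ → Φ := fun x => g • x
  have hf : f^[2 ^ 1] = id := by
    rw [pow_one]
    funext x
    show g • g • x = x
    rw [smul_smul, hg, one_smul]
  have hmod := Equiv.Perm.card_fixedPoints_modEq (p := 2) (n := 1) hf
  rw [← Nat.card_eq_fintype_card, ← Nat.card_eq_fintype_card] at hmod
  refine Eq.trans ?_ hmod.symm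
  rfl

theorem card_pairs : Nat.card {p : Φ × Φ // p.1 ≠ p.2} = Nat.card Φ * (Nat.card Φ - 1) := by
  classical
  haveI := Fintype.ofFinite Φ
  let e : {p : Φ × Φ // p.1 ≠ p.2} ≃ Σ x : Φ, {y : Φ // y ≠ x} :=
    { toFun := fun p => ⟨p.1.1, p.1.2, p.2.symm⟩
      invFun := fun q => ⟨(q.1, q.2.1), q.2.2.symm⟩
      left_inv := fun p => rfl
      right_inv := fun q => rfl }
  rw [Nat.card_congr e, Nat.card_eq_fintype_card, Fintype.card_sigma, Nat.card_eq_fintype_card]
  simp [Fintype.card_subtype_compl]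

variable [Finite X]

/-- The order of the group is the number of pairs times the order of a two-point stabiliser. -/
theorem Pairs.card_group (hX : Pairs X Φ) {a b : Φ} (hab : a ≠ b) :
    Nat.card X = Nat.card Φ * (Nat.card Φ - 1) * Nat.card ↥(stabilizer X a ⊓ stabilizer X b) := by
  classical
  haveI := Fintype.ofFinite Φ
  let f : X → {p : Φ × Φ // p.1 ≠ p.2} := fun g => ⟨(g • a, g • b), fun e => hab (MulAction.injective g e)⟩
  have hf : ∀ p, Nat.card {g : X // f g = p} = Nat.card ↥(stabilizer X a ⊓ stabilizer X b) := by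
    rintro ⟨⟨c, d⟩, hcd⟩
    obtain ⟨h, hc, hd⟩ := hX.move a b c d hab hcd
    refine Nat.card_congr
      { toFun := fun g => ⟨h⁻¹ * g.1, ?_, ?_⟩
        invFun := fun s => ⟨h * s.1, ?_⟩
        left_inv := fun g => Subtype.ext (mul_inv_cancel_left h g.1)
        right_inv := fun s => Subtype.ext (inv_mul_cancel_left h s.1) }
    · show (h⁻¹ * g.1) • a = a
      rw [mul_smul, inv_smul_eq_iff, hc]
      exact congrArg (fun p => p.1.1) g.2
    · show (h⁻¹ * g.1) • b = b
      rw [mul_smul, inv_smul_eq_iff, hd]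
      exact congrArg (fun p => p.1.2) g.2
    · refine Subtype.ext (Prod.ext ?_ ?_)
      · show (h * s.1) • a = c
        rw [mul_smul, show s.1 • a = a from s.2.1, hc]
      · show (h * s.1) • b = d
        rw [mul_smul, show s.1 • b = b from s.2.2, hd]
  haveI := Fintype.ofFinite X
  rw [← card_pairs, Nat.card_congr (Equiv.sigmaFiberEquiv f).symm, Nat.card_sigma,
    Finset.sum_congr rfl fun p _ => hf p, Finset.sum_const, Finset.card_univ, smul_eq_mul, ← Nat.card_eq_fintype_card]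

variable (U : Set X) (hU : ∀ u ∈ U, ∀ g : X, g * u * g⁻¹ ∈ U)
include hU

theorem Pairs.swappers_eq (hX : Pairs X Φ) {a b c d : Φ} (hab : a ≠ b) (hcd : c ≠ d) :
    Nat.card {u : X // u ∈ U ∧ Swaps u c d} = Nat.card {u : X // u ∈ U ∧ Swaps u a b} := by
  obtain ⟨h, rfl, rfl⟩ := hX.move a b c d hab hcd
  refine Nat.card_congr
    { toFun := fun u => ⟨h⁻¹ * u.1 * h, by simpa using hU _ u.2.1 h⁻¹, by simpa using u.2.2.conj (h := h⁻¹)⟩
      invFun := fun u => ⟨h * u.1 * h⁻¹, hU _ u.2.1 h, u.2.2.conj⟩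
      left_inv := fun u => Subtype.ext (by group)
      right_inv := fun u => Subtype.ext (by group) }

theorem Pairs.fixers_eq (hX : Pairs X Φ) {a b c d : Φ} (hab : a ≠ b) (hcd : c ≠ d) :
    Nat.card {u : X // u ∈ U ∧ u • c = c ∧ u • d = d} = Nat.card {u : X // u ∈ U ∧ u • a = a ∧ u • b = b} := by
  obtain ⟨h, rfl, rfl⟩ := hX.move a b c d hab hcd
  refine Nat.card_congr
    { toFun := fun u => ⟨h⁻¹ * u.1 * h, by simpa using hU _ u.2.1 h⁻¹, by simp [mul_smul, u.2.2.1],
        by simp [mul_smul, u.2.2.2]⟩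
      invFun := fun u => ⟨h * u.1 * h⁻¹, hU _ u.2.1 h, by simp [mul_smul, u.2.2.1], by simp [mul_smul, u.2.2.2]⟩
      left_inv := fun u => Subtype.ext (by group)
      right_inv := fun u => Subtype.ext (by group) }

variable (hsq : ∀ u ∈ U, u * u = 1) (k : ℕ) (hk : ∀ u ∈ U, Nat.card (fixedBy Φ u) = k)
include hsq hk

/-- Counting the two-cycles of a class of involutions. -/
theorem Pairs.count_swaps (hX : Pairs X Φ) {a b : Φ} (hab : a ≠ b) :
    Nat.card U * (Nat.card Φ - k) =
      Nat.card {u : X // u ∈ U ∧ Swaps u a b} * (Nat.card Φ * (Nat.card Φ - 1)) := by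
  classical
  haveI := Fintype.ofFinite X
  haveI := Fintype.ofFinite Φ
  let e : (Σ u : U, {x : Φ // u.1 • x ≠ x}) ≃ Σ p : {p : Φ × Φ // p.1 ≠ p.2}, {u : X // u ∈ U ∧ Swaps u p.1.1 p.1.2} :=
    { toFun := fun q => ⟨⟨(q.2.1, q.1.1 • q.2.1), fun h => q.2.2 h.symm⟩, q.1.1, q.1.2, swaps_invol (hsq _ q.1.2)⟩
      invFun := fun q => ⟨⟨q.2.1, q.2.2.1⟩, q.1.1.1, fun h => q.1.2 (h.symm.trans q.2.2.2.1)⟩
      left_inv := fun q => rfl
      right_inv := by
        rintro ⟨⟨⟨c, d⟩, hcd⟩, u, hu, hs⟩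
        have hd : u • c = d := hs.1
        subst hd
        rfl }
  have h1 : Nat.card (Σ u : U, {x : Φ // u.1 • x ≠ x}) = Nat.card U * (Nat.card Φ - k) := by
    rw [Nat.card_sigma, Finset.sum_congr rfl fun q _ => (card_moved (q : U).1).trans (by rw [hk _ q.2]),
      Finset.sum_const, Finset.card_univ, smul_eq_mul, ← Nat.card_eq_fintype_card]
  rw [← h1, Nat.card_congr e, Nat.card_sigma, Finset.sum_congr rfl fun p _ => hX.swappers_eq U hU hab p.2,
    Finset.sum_const, Finset.card_univ, smul_eq_mul, ← Nat.card_eq_fintype_card, card_pairs, mul_comm]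

/-- Counting the pairs of fixed points of a class. -/
theorem Pairs.count_fixes (hX : Pairs X Φ) {a b : Φ} (hab : a ≠ b) :
    Nat.card U * (k * (k - 1)) =
      Nat.card {u : X // u ∈ U ∧ u • a = a ∧ u • b = b} * (Nat.card Φ * (Nat.card Φ - 1)) := by
  classical
  haveI := Fintype.ofFinite X
  haveI := Fintype.ofFinite Φ
  let e : (Σ u : U, {p : fixedBy Φ u.1 × fixedBy Φ u.1 // p.1 ≠ p.2}) ≃
      Σ p : {p : Φ × Φ // p.1 ≠ p.2}, {u : X // u ∈ U ∧ u • p.1.1 = p.1.1 ∧ u • p.1.2 = p.1.2} :=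
    { toFun := fun q => ⟨⟨(q.2.1.1.1, q.2.1.2.1), fun h => q.2.2 (Subtype.ext h)⟩, q.1.1, q.1.2, q.2.1.1.2, q.2.1.2.2⟩
      invFun := fun q => ⟨⟨q.2.1, q.2.2.1⟩, (⟨q.1.1.1, q.2.2.2.1⟩, ⟨q.1.1.2, q.2.2.2.2⟩),
        fun h => q.1.2 (congrArg Subtype.val h)⟩
      left_inv := fun q => rfl
      right_inv := fun q => rfl }
  have h1 : Nat.card (Σ u : U, {p : fixedBy Φ u.1 × fixedBy Φ u.1 // p.1 ≠ p.2}) = Nat.card U * (k * (k - 1)) := by
    rw [Nat.card_sigma, Finset.sum_congr rfl fun q _ => (card_pairs (Φ := fixedBy Φ (q : U).1)).trans (by rw [hk _ q.2]),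
      Finset.sum_const, Finset.card_univ, smul_eq_mul, ← Nat.card_eq_fintype_card]
  rw [← h1, Nat.card_congr e, Nat.card_sigma, Finset.sum_congr rfl fun p _ => hX.fixers_eq U hU hab p.2,
    Finset.sum_const, Finset.card_univ, smul_eq_mul, ← Nat.card_eq_fintype_card, card_pairs, mul_comm]

end Cfsg.Lib.TwoPointFive
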