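import Cfsg.Agent.TwoPointFive.Setup

/-!
The degrees twelve and thirty-eight, and moving central involutions between pairs (row 3262).
-/

set_option autoImplicit false
set_option linter.unusedSectionVars false
set_option linter.style.haveILetI false

namespace Cfsg.Lib.TwoPointFive

open MulAction Subgroup Equiv

universe u v

variable {G : Type u} {Ω : Type v} [Group G] [Finite G] [Finite Ω] [MulAction G Ω]

theorem IsCentral.move {a b : Ω} {z : G} (hz : IsCentral a b z) (g : G) :
    IsCentral (g • a) (g • b) (g * z * g⁻¹) := by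
  refine ⟨hz.1.conj, sq_conj hz.2.1 g, fun y hy => ?_⟩
  have hy' : g⁻¹ * y * g ∈ stabilizer G a ⊓ stabilizer G b :=
    ⟨show (g⁻¹ * y * g) • a = a by rw [mul_smul, mul_smul, show y • g • a = g • a from hy.1, inv_smul_smul],
      show (g⁻¹ * y * g) • b = b by rw [mul_smul, mul_smul, show y • g • b = g • b from hy.2, inv_smul_smul]⟩
  have h1 := hz.2.2 _ hy'
  calc g * z * g⁻¹ * y = g * (z * (g⁻¹ * y * g)) * g⁻¹ := by group
    _ = g * (g⁻¹ * y * g * z) * g⁻¹ := by rw [h1]
    _ = y * (g * z * g⁻¹) := by group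

namespace TwoA5

variable (h : TwoA5 G Ω) {i : ℕ} (hi2 : 2 ≤ i) (hin : i < Nat.card Ω)
  (hi : ∀ u ∈ doubles G Ω, Nat.card (fixedBy Ω u) = i)
include h hi2 hin hi

omit hi2 hin hi in
theorem central_dichotomy :
    (∀ a b : Ω, a ≠ b → ∀ z : G, ¬ IsCentral a b z) ∨ ∀ a b : Ω, a ≠ b → ∃ z : G, IsCentral a b z := by
  by_cases hex : ∃ a b : Ω, a ≠ b ∧ ∃ z : G, IsCentral a b z
  · right
    obtain ⟨a, b, hab, z, hz⟩ := hex
    intro c d hcd
    obtain ⟨g, hgc, hgd⟩ := h.move a b c d hab hcd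
    exact ⟨_, hgc ▸ hgd ▸ hz.move g⟩
  · exact Or.inl fun a b hab z hz => hex ⟨a, b, hab, z, hz⟩

omit hi2 hin hi in
theorem pretransitive : MulAction.IsPretransitive G Ω := by
  haveI := h.nontrivial
  exact ⟨fun x y => by
    obtain ⟨x', hx⟩ := _root_.exists_ne x
    obtain ⟨y', hy⟩ := _root_.exists_ne y
    obtain ⟨g, hg, -⟩ := h.move x x' y y' hx.symm hy.symm
    exact ⟨g, hg⟩⟩

omit hi2 hin hi in
theorem card_stab (a : Ω) : Nat.card (stabilizer G a) = (Nat.card Ω - 1) * 60 := by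
  haveI := h.pretransitive
  have h1 := (stabilizer G a).card_mul_index
  rw [index_stabilizer_of_transitive, h.card_G, mul_comm] at h1
  rw [mul_assoc] at h1
  exact Nat.eq_of_mul_eq_mul_left (by have := h.two; omega) h1

omit hi2 hin hi in
/-- The two-point stabiliser cannot normalise a cycle on all the other points. -/
theorem no_prime_cycle {a b : Ω} (hab : a ≠ b) {p : ℕ} [hp : Fact p.Prime] (hn : Nat.card Ω = p + 1) {f : G}
    (hf : orderOf f = p) (hfa : f • a = a)
    (hnorm : ∀ x ∈ stabilizer G a ⊓ stabilizer G b, x * f * x⁻¹ ∈ zpowers f) : False := by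
  classical
  set P := stabilizer G a ⊓ stabilizer G b with hP
  set K : Subgroup P := (centralizer ({f} : Set G)).subgroupOf P with hK
  have hmem : ∀ x : P, x ∈ K ↔ x.1 * f * x.1⁻¹ = f := fun x => by
    rw [hK, mem_subgroupOf, mem_centralizer_singleton_iff, mul_inv_eq_iff_eq_mul]
  have hKn : K.Normal := ⟨fun x hx y => by
    rw [hmem] at hx ⊢
    obtain ⟨j, hj⟩ := mem_zpowers_iff.1 (hnorm _ (P.inv_mem y.2))
    simp only [Subgroup.coe_mul, Subgroup.coe_inv]
    calc y.1 * x.1 * y.1⁻¹ * f * (y.1 * x.1 * y.1⁻¹)⁻¹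
        = y.1 * (x.1 * (y.1⁻¹ * f * y.1⁻¹⁻¹) * x.1⁻¹) * y.1⁻¹ := by group
      _ = y.1 * (x.1 * f ^ j * x.1⁻¹) * y.1⁻¹ := by rw [hj]
      _ = y.1 * (x.1 * f * x.1⁻¹) ^ j * y.1⁻¹ := by rw [← conj_zpow]
      _ = y.1 * f ^ j * y.1⁻¹ := by rw [hx]
      _ = y.1 * (y.1⁻¹ * f * y.1⁻¹⁻¹) * y.1⁻¹ := by rw [hj]
      _ = f := by group⟩
  obtain ⟨eP⟩ := h.iso a b hab
  haveI : IsSimpleGroup ↥P := eP.isSimpleGroup_congr.2 alternatingGroup.isSimpleGroup_five
  have hcent : ∀ x ∈ P, x * f = f * x := by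
    rcases hKn.eq_bot_or_eq_top with e | e
    · -- otherwise the stabiliser would be abelian
      exfalso
      have hcomm : ∀ x y : P, x * y = y * x := by
        intro x y
        obtain ⟨i, hi⟩ := mem_zpowers_iff.1 (hnorm _ x.2)
        obtain ⟨j, hj⟩ := mem_zpowers_iff.1 (hnorm _ y.2)
        have hk : (y * x)⁻¹ * (x * y) ∈ K := by
          rw [hmem]
          have e1 : (x * y).1 * f * (x * y).1⁻¹ = (y * x).1 * f * (y * x).1⁻¹ := by
            simp only [Subgroup.coe_mul]
            calc x.1 * y.1 * f * (x.1 * y.1)⁻¹ = x.1 * (y.1 * f * y.1⁻¹) * x.1⁻¹ := by group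
              _ = x.1 * f ^ j * x.1⁻¹ := by rw [hj]
              _ = (f ^ i) ^ j := by rw [← conj_zpow, hi]
              _ = (f ^ j) ^ i := by rw [← zpow_mul, ← zpow_mul, mul_comm]
              _ = y.1 * f ^ i * y.1⁻¹ := by rw [← conj_zpow, hj]
              _ = y.1 * (x.1 * f * x.1⁻¹) * y.1⁻¹ := by rw [hi]
              _ = y.1 * x.1 * f * (y.1 * x.1)⁻¹ := by group
          show (y * x).1⁻¹ * (x * y).1 * f * ((y * x).1⁻¹ * (x * y).1)⁻¹ = f
          calc (y * x).1⁻¹ * (x * y).1 * f * ((y * x).1⁻¹ * (x * y).1)⁻¹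
              = (y * x).1⁻¹ * ((x * y).1 * f * (x * y).1⁻¹) * (y * x).1 := by group
            _ = (y * x).1⁻¹ * ((y * x).1 * f * (y * x).1⁻¹) * (y * x).1 := by rw [e1]
            _ = f := by group
        rw [e, Subgroup.mem_bot, inv_mul_eq_one] at hk
        exact hk.symm
      have h1 : ∀ x : P, x = 1 := fun x => Subtype.ext (h.pair_center hab x.2 fun y hy =>
        congrArg Subtype.val (hcomm x ⟨y, hy⟩))
      haveI : Subsingleton P := ⟨fun x y => (h1 x).trans (h1 y).symm⟩
      have h2 := h.card_pair hab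
      rw [← hP, Nat.card_eq_one_iff_unique.2 ⟨inferInstance, ⟨1⟩⟩] at h2
      norm_num at h2
    · intro x hx
      have : (⟨x, hx⟩ : P) ∈ K := e ▸ mem_top _
      rw [hmem, mul_inv_eq_iff_eq_mul] at this
      exact this
  have hfb : f • b ≠ b := fun hb => by
    have := h.pair_center hab (z := f) ⟨hfa, hb⟩ fun y hy => (hcent y hy).symm
    rw [this, orderOf_one] at hf
    exact hp.out.ne_one hf.symm
  have hne : ∀ j : ℕ, f ^ j • a = a := fun j => by
    induction j with
    | zero => rw [pow_zero, one_smul]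
    | succ j ih => rw [pow_succ, mul_smul, hfa, ih]
  have hper : ∀ d : ℕ, 0 < d → d < p → f ^ d • b ≠ b := by
    intro d hd0 hdp hd
    have hcop : Nat.Coprime d (orderOf f) := by
      rw [hf]
      exact (Nat.Prime.coprime_iff_not_dvd hp.out).2 (Nat.not_dvd_of_pos_of_lt hd0 hdp) |>.symm
    obtain ⟨m, hm⟩ := exists_pow_eq_self_of_coprime hcop
    have hz : ∀ m : ℕ, (f ^ d) ^ m • b = b := fun m => by
      induction m with
      | zero => rw [pow_zero, one_smul]
      | succ m ih => rw [pow_succ, mul_smul, hd, ih]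
    have := hz m
    rw [hm] at this
    exact hfb this
  let F : Option (Fin p) → Ω := fun o => o.elim a fun j => f ^ j.1 • b
  have hF : Function.Injective F := by
    have key : ∀ i j : Fin p, i.1 < j.1 → f ^ i.1 • b ≠ f ^ j.1 • b := fun i j hij e => by
      refine hper (j.1 - i.1) (by omega) (by omega) (MulAction.injective (f ^ i.1) ?_)
      show f ^ i.1 • f ^ (j.1 - i.1) • b = f ^ i.1 • b
      rw [smul_smul, ← pow_add, Nat.add_sub_cancel' hij.le, e]
    have hanb : ∀ j : Fin p, a ≠ f ^ j.1 • b := fun j e =>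
      hab (MulAction.injective (f ^ j.1) ((hne j.1).trans e))
    rintro (_ | i) (_ | j) e
    · rfl
    · exact absurd e (hanb j)
    · exact absurd e.symm (hanb i)
    · rcases lt_trichotomy i.1 j.1 with hij | hij | hij
      · exact absurd e (key i j hij)
      · exact congrArg some (Fin.ext hij)
      · exact absurd e.symm (key j i hij)
  haveI := Fintype.ofFinite Ω
  have hsurj : Function.Surjective F := ((Fintype.bijective_iff_injective_and_card F).2 ⟨hF, by
    rw [Fintype.card_option, Fintype.card_fin, ← Nat.card_eq_fintype_card, hn]⟩).2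
  have hfix : ∀ x ∈ P, x = 1 := fun x hx => h.faith x fun q => by
    obtain ⟨o, rfl⟩ := hsurj q
    rcases o with _ | j
    · exact hx.1
    · show x • f ^ j.1 • b = f ^ j.1 • b
      rw [smul_smul, ((show Commute x f from hcent x hx).pow_right j.1).eq, mul_smul, show x • b = b from hx.2]
  have h2 := h.card_pair hab
  haveI : Subsingleton P := ⟨fun x y => Subtype.ext ((hfix x.1 x.2).trans (hfix y.1 y.2).symm)⟩
  rw [← hP, Nat.card_eq_one_iff_unique.2 ⟨inferInstance, ⟨1⟩⟩] at h2
  norm_num at h2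

omit hi2 hin hi in
theorem not_thirty_eight (hn : Nat.card Ω = 38) : False := by
  classical
  haveI := h.nontrivial
  haveI : Fact (Nat.Prime 37) := ⟨by norm_num⟩
  obtain ⟨a, b, hab⟩ := exists_pair_ne Ω
  have hc := h.card_stab a
  rw [hn] at hc
  obtain ⟨f, hf⟩ := exists_prime_orderOf_dvd_card' (G := stabilizer G a) 37 (by rw [hc]; exact ⟨60, rfl⟩)
  obtain ⟨Q, hQ⟩ := (IsPGroup.of_card (n := 1) (by rw [Nat.card_zpowers, hf, pow_one]) :
    IsPGroup 37 (zpowers f)).exists_le_sylow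
  have hQ37 : Nat.card (Q : Subgroup (stabilizer G a)) = 37 := by
    obtain ⟨j, hj⟩ := IsPGroup.iff_card.1 Q.2
    have h1 := Subgroup.card_le_of_le hQ
    rw [Nat.card_zpowers, hf] at h1
    have h2 := Subgroup.card_subgroup_dvd_card (Q : Subgroup (stabilizer G a))
    rw [hc, hj] at h2
    rcases j with _ | _ | j
    · rw [pow_zero] at hj; omega
    · exact hj.trans (pow_one 37)
    · exfalso
      have h3 : 37 * 37 ∣ (38 - 1) * 60 := (Dvd.intro (37 ^ j) (by ring)).trans h2
      norm_num at h3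
  have hone : Nat.card (Sylow 37 (stabilizer G a)) = 1 := by
    have h1 := Q.card_dvd_index
    have h2 := (Q : Subgroup (stabilizer G a)).card_mul_index
    rw [hQ37, hc] at h2
    have h3 : (Q : Subgroup (stabilizer G a)).index = 60 := by omega
    rw [h3] at h1
    have h4 := card_sylow_modEq_one 37 (stabilizer G a)
    have h5 := Nat.le_of_dvd (by norm_num) h1
    unfold Nat.ModEq at h4
    interval_cases hN : Nat.card (Sylow 37 (stabilizer G a)) <;> omega
  haveI : Subsingleton (Sylow 37 (stabilizer G a)) := (Nat.card_eq_one_iff_unique.1 hone).1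
  haveI := Q.normal_of_subsingleton
  have hQe : zpowers f = (Q : Subgroup (stabilizer G a)) :=
    Subgroup.eq_of_le_of_card_ge hQ (by rw [hQ37, Nat.card_zpowers, hf])
  refine h.no_prime_cycle hab (p := 37) (by rw [hn]) (f := f.1) (by rw [Subgroup.orderOf_coe, hf]) f.2 fun x hx => ?_
  have := Normal.conj_mem (inferInstance : (Q : Subgroup (stabilizer G a)).Normal) f (hQe ▸ mem_zpowers f) ⟨x, hx.1⟩
  rw [← hQe] at this
  obtain ⟨j, hj⟩ := mem_zpowers_iff.1 this
  exact ⟨j, by simpa using congrArg Subtype.val hj⟩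

theorem twelve_simple (hn : Nat.card Ω = 12) : IsSimpleGroup G := by
  classical
  haveI := h.nontrivial
  haveI := h.pretransitive
  obtain ⟨a, b, hab⟩ := exists_pair_ne Ω
  haveI : Nontrivial G := by
    obtain ⟨t, ht, -⟩ := h.exists_double hab
    exact ⟨t, 1, ht.2.1⟩
  refine ⟨fun N hN => ?_⟩
  by_cases hne : N = ⊥
  · exact Or.inl hne
  right
  haveI := hN
  have htr : ∀ p q : Ω, ∃ g ∈ N, g • p = q := by
    obtain ⟨n₀, hn₀, hn1⟩ := (Subgroup.bot_or_exists_ne_one N).resolve_left hne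
    obtain ⟨c, hc⟩ : ∃ c : Ω, n₀ • c ≠ c := by
      by_contra! hh
      exact hn1 (h.faith n₀ hh)
    have h1 : ∀ q : Ω, ∃ g ∈ N, g • c = q := fun q => by
      rcases eq_or_ne c q with rfl | hq
      · exact ⟨1, N.one_mem, one_smul G c⟩
      · obtain ⟨d, hd1, hd2⟩ := h.move c (n₀ • c) c q hc.symm hq
        exact ⟨d * n₀ * d⁻¹, hN.conj_mem n₀ hn₀ d, by rw [mul_smul, inv_smul_eq_iff.2 hd1.symm, mul_smul, hd2]⟩
    intro p q
    obtain ⟨g, hg, rfl⟩ := h1 p
    obtain ⟨g', hg', rfl⟩ := h1 q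
    exact ⟨g' * g⁻¹, N.mul_mem hg' (N.inv_mem hg), by rw [mul_smul, inv_smul_smul]⟩
  haveI hNt : MulAction.IsPretransitive N Ω := ⟨fun p q => by
    obtain ⟨g, hg, e⟩ := htr p q
    exact ⟨⟨g, hg⟩, e⟩⟩
  set Na : Subgroup G := N ⊓ stabilizer G a with hNa
  have hNcard : Nat.card N = 12 * Nat.card Na := by
    have h1 := (stabilizer N a).card_mul_index
    rw [index_stabilizer_of_transitive, hn] at h1
    rw [← h1, mul_comm]
    congr 1
    exact Nat.card_congr
      { toFun := fun x => ⟨x.1.1, x.1.2, x.2⟩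
        invFun := fun x => ⟨⟨x.1, x.2.1⟩, x.2.2⟩
        left_inv := fun _ => rfl
        right_inv := fun _ => rfl }
  have hG : Nat.card G = 12 * 660 := by rw [h.card_G, hn]
  have hst : Nat.card (stabilizer G a) = 660 := by rw [h.card_stab, hn]
  set P := stabilizer G a ⊓ stabilizer G b with hP
  have hP60 : Nat.card P = 60 := h.card_pair hab
  obtain ⟨eP⟩ := h.iso a b hab
  haveI : IsSimpleGroup ↥P := eP.isSimpleGroup_congr.2 alternatingGroup.isSimpleGroup_five
  have hNaNorm : ∀ x ∈ stabilizer G a, ∀ y ∈ Na, x * y * x⁻¹ ∈ Na := fun x hx y hy =>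
    ⟨hN.conj_mem y hy.1 x, (stabilizer G a).mul_mem ((stabilizer G a).mul_mem hx hy.2) ((stabilizer G a).inv_mem hx)⟩
  rcases (inferInstance : (N.subgroupOf P).Normal).eq_bot_or_eq_top with e | e
  · exfalso
    -- the stabiliser embeds in the quotient
    have h60 : 60 ∣ N.index := by
      have hinj : Function.Injective ((QuotientGroup.mk' N).comp P.subtype) := by
        rw [injective_iff_map_eq_one]
        intro x hx
        have hxN : x.1 ∈ N := (QuotientGroup.eq_one_iff _).1 hx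
        exact (Subgroup.eq_bot_iff_forall _).1 e x hxN
      rw [← hP60, index_eq_card]
      exact Subgroup.card_dvd_of_injective _ hinj
    have h1 := N.card_mul_index
    rw [hG, hNcard, mul_assoc] at h1
    have h2 := Nat.eq_of_mul_eq_mul_left (by norm_num : 0 < 12) h1
    obtain ⟨l, hl⟩ := h60
    rw [hl, ← mul_assoc, mul_comm (Nat.card Na), mul_assoc] at h2
    have h3 : Nat.card Na * l = 11 := by omega
    rcases (Nat.dvd_prime (by norm_num : Nat.Prime 11)).1 ⟨l, h3.symm⟩ with h4 | h4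
    · refine h.nr N hN hNt fun x => (Subgroup.eq_bot_iff_forall _).2 fun y hy => ?_
      obtain ⟨g, hg, rfl⟩ := htr a x
      have hm : g⁻¹ * y.1 * g ∈ Na := ⟨N.mul_mem (N.mul_mem (N.inv_mem hg) y.2) hg,
        show (g⁻¹ * y.1 * g) • a = a by
          rw [mul_smul, mul_smul, show y.1 • g • a = g • a from hy, inv_smul_smul]⟩
      rw [Subgroup.eq_bot_of_card_eq Na h4, Subgroup.mem_bot] at hm
      refine Subtype.ext ?_
      calc y.1 = g * (g⁻¹ * y.1 * g) * g⁻¹ := by group
        _ = 1 := by rw [hm, mul_one, mul_inv_cancel]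
    · haveI : Fact (Nat.Prime 11) := ⟨by norm_num⟩
      obtain ⟨f, hf⟩ := exists_prime_orderOf_dvd_card' (G := Na) 11 (by rw [h4])
      have hNe : zpowers (f : G) = Na := Subgroup.eq_of_le_of_card_ge (zpowers_le.2 f.2)
        (by rw [h4, Nat.card_zpowers, Subgroup.orderOf_coe, hf])
      refine h.no_prime_cycle hab (p := 11) (by rw [hn]) (f := f.1) (by rw [Subgroup.orderOf_coe, hf]) f.2.2
        fun x hx => ?_
      rw [hNe]
      exact hNaNorm x hx.1 _ f.2
  · have hPN : P ≤ Na := fun x hx =>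
      ⟨(Subgroup.eq_top_iff' _).1 e ⟨x, hx⟩, hx.1⟩
    have h1 : 60 ∣ Nat.card Na := hP60 ▸ Subgroup.card_dvd_of_le hPN
    have h2 : Nat.card Na ∣ 660 := hst ▸ Subgroup.card_dvd_of_le inf_le_right
    obtain ⟨l, hl⟩ := h1
    rw [hl] at h2
    have h3 : l ∣ 11 := (Nat.mul_dvd_mul_iff_left (by norm_num : 0 < 60)).1 (show 60 * l ∣ 60 * 11 from h2)
    rcases (Nat.dvd_prime (by norm_num : Nat.Prime 11)).1 h3 with rfl | rfl
    · exfalso
      have hPe : P = Na := Subgroup.eq_of_le_of_card_ge hPN (by rw [hl, hP60])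
      have hfix : ∀ x ∈ P, x = 1 := fun x hx => h.faith x fun q => by
        rcases eq_or_ne q a with rfl | hq
        · exact hx.1
        · obtain ⟨g, hga, hgb⟩ := h.move a b a q hab hq.symm
          have : g⁻¹ * x * g⁻¹⁻¹ ∈ P := by
            rw [hPe]
            exact hNaNorm _ ((stabilizer G a).inv_mem hga) _ (hPN hx)
          have h5 : (g⁻¹ * x * g⁻¹⁻¹) • b = b := this.2
          rw [inv_inv, mul_smul, mul_smul, inv_smul_eq_iff, hgb] at h5
          exact h5
      haveI : Subsingleton P := ⟨fun x y => Subtype.ext ((hfix x.1 x.2).trans (hfix y.1 y.2).symm)⟩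
      rw [Nat.card_eq_one_iff_unique.2 ⟨inferInstance, ⟨1⟩⟩] at hP60
      norm_num at hP60
    · exact Subgroup.eq_top_of_card_eq N (by rw [hNcard, hl, hG])

end TwoA5

end Cfsg.Lib.TwoPointFive
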