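import Cfsg.Agent.TwoPointFive.Restrict
import Cfsg.Agent.Quadratic.BaerSuzuki

/-!
Groups transitive on ordered pairs with two-point stabilisers of order two (row 3262).
-/

set_option autoImplicit false
set_option linter.unusedSectionVars false
set_option linter.style.haveILetI false

namespace Cfsg.Lib.TwoPointFive

open MulAction

universe u v

variable {X : Type u} {Φ : Type v} [Group X] [Finite X] [Finite Φ] [MulAction X Φ]

/-- The group is faithful and transitive on ordered pairs, and the stabiliser of a pair has order two. -/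
structure Half (X : Type u) (Φ : Type v) [Group X] [MulAction X Φ] : Prop extends Pairs X Φ where
  faith : ∀ g : X, (∀ p : Φ, g • p = p) → g = 1
  stab : ∀ a b : Φ, a ≠ b → Nat.card ↥(stabilizer X a ⊓ stabilizer X b) = 2
  two : 2 ≤ Nat.card Φ

/-- The involutions with two fixed points. -/
def doubles (X : Type u) (Φ : Type v) [Group X] [MulAction X Φ] : Set X :=
  {u | u * u = 1 ∧ u ≠ 1 ∧ 2 ≤ Nat.card (fixedBy Φ u)}

/-- The involutions with at most one fixed point. -/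
def others (X : Type u) (Φ : Type v) [Group X] [MulAction X Φ] : Set X :=
  {u | u * u = 1 ∧ u ≠ 1 ∧ Nat.card (fixedBy Φ u) ≤ 1}

theorem exists_two_fixed {u : X} (hu : u ∈ doubles X Φ) : ∃ a b : Φ, a ≠ b ∧ u • a = a ∧ u • b = b := by
  haveI : Nontrivial (fixedBy Φ u) := Finite.one_lt_card_iff_nontrivial.1 hu.2.2
  obtain ⟨⟨a, ha⟩, ⟨b, hb⟩, hab⟩ := exists_pair_ne (fixedBy Φ u)
  exact ⟨a, b, fun e => hab (Subtype.ext e), ha, hb⟩

theorem two_le_fixed {g : X} {a b : Φ} (hab : a ≠ b) (ha : g • a = a) (hb : g • b = b) :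
    2 ≤ Nat.card (fixedBy Φ g) :=
  Finite.one_lt_card_iff_nontrivial.2 ⟨⟨a, ha⟩, ⟨b, hb⟩, fun e => hab (congrArg Subtype.val e)⟩

theorem sq_conj {u : X} (hu : u * u = 1) (g : X) : g * u * g⁻¹ * (g * u * g⁻¹) = 1 := by
  rw [show g * u * g⁻¹ * (g * u * g⁻¹) = g * (u * u) * g⁻¹ by group, hu, mul_one, mul_inv_cancel]

theorem doubles_closed : ∀ u ∈ doubles X Φ, ∀ g : X, g * u * g⁻¹ ∈ doubles X Φ := fun u hu g =>
  ⟨sq_conj hu.1 g, fun e => hu.2.1 (conj_eq_one_iff.1 e), by rw [card_fixedBy_conj]; exact hu.2.2⟩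

theorem others_closed : ∀ u ∈ others X Φ, ∀ g : X, g * u * g⁻¹ ∈ others X Φ := fun u hu g =>
  ⟨sq_conj hu.1 g, fun e => hu.2.1 (conj_eq_one_iff.1 e), by rw [card_fixedBy_conj]; exact hu.2.2⟩

theorem mem_doubles_or_others {g : X} (hg : g * g = 1) (hg1 : g ≠ 1) : g ∈ doubles X Φ ∨ g ∈ others X Φ := by
  rcases le_or_gt 2 (Nat.card (fixedBy Φ g)) with h | h
  · exact Or.inl ⟨hg, hg1, h⟩
  · exact Or.inr ⟨hg, hg1, by omega⟩

theorem not_mem_both {g : X} (h1 : g ∈ doubles X Φ) (h2 : g ∈ others X Φ) : False := by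
  have := h1.2.2
  have := h2.2.2
  omega

theorem others_fix_unique {w : X} (hw : w ∈ others X Φ) {a b : Φ} (ha : w • a = a) (hb : w • b = b) : a = b :=
  not_not.1 fun hne => by
    have := two_le_fixed hne ha hb
    have := hw.2.2
    omega

namespace Half

variable (h : Half X Φ)
include h

theorem exists_stab {a b : Φ} (hab : a ≠ b) : ∃ u ∈ doubles X Φ, u • a = a ∧ u • b = b ∧
    ∀ g : X, g • a = a → g • b = b → g = 1 ∨ g = u := by
  obtain ⟨⟨u, hu⟩, hu1, hall⟩ :
      ∃ u : ↥(stabilizer X a ⊓ stabilizer X b), u ≠ 1 ∧ ∀ g, g = 1 ∨ g = u := by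
    obtain ⟨x, hx, huniq⟩ := (Nat.card_eq_two_iff' (1 : ↥(stabilizer X a ⊓ stabilizer X b))).1 (h.stab a b hab)
    exact ⟨x, hx, fun g => (em (g = 1)).imp id fun hg => huniq g hg⟩
  have hu1' : u ≠ 1 := fun e => hu1 (Subtype.ext e)
  have huu : u * u = 1 := by
    rcases hall ⟨u * u, mul_mem hu hu⟩ with e | e
    · exact congrArg Subtype.val e
    · exact absurd (mul_eq_left.1 (congrArg Subtype.val e)) hu1'
  refine ⟨u, ⟨huu, hu1', two_le_fixed hab hu.1 hu.2⟩, hu.1, hu.2, fun g ha hb => ?_⟩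
  exact (hall ⟨g, ha, hb⟩).imp (congrArg Subtype.val) (congrArg Subtype.val)

theorem eq_of_fix {u : X} (hu : u ∈ doubles X Φ) {a b : Φ} (hab : a ≠ b) (ha : u • a = a) (hb : u • b = b) {g : X}
    (hga : g • a = a) (hgb : g • b = b) : g = 1 ∨ g = u := by
  obtain ⟨v, -, -, -, hall⟩ := h.exists_stab hab
  rcases hall u ha hb with e | e
  · exact absurd e hu.2.1
  · rw [e]; exact hall g hga hgb

theorem mem_doubles {g : X} (hg1 : g ≠ 1) {a b : Φ} (hab : a ≠ b) (ha : g • a = a) (hb : g • b = b) :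
    g ∈ doubles X Φ := by
  obtain ⟨v, hv, -, -, hall⟩ := h.exists_stab hab
  rcases hall g ha hb with e | e
  · exact absurd e hg1
  · rw [e]; exact hv

theorem doubles_conj {u u' : X} (hu : u ∈ doubles X Φ) (hu' : u' ∈ doubles X Φ) : ∃ g : X, g * u * g⁻¹ = u' := by
  obtain ⟨a, b, hab, ha, hb⟩ := exists_two_fixed hu
  obtain ⟨c, d, hcd, hc, hd⟩ := exists_two_fixed hu'
  obtain ⟨g, hga, hgb⟩ := h.move a b c d hab hcd
  refine ⟨g, (h.eq_of_fix hu' hcd hc hd (g := g * u * g⁻¹) ?_ ?_).resolve_left fun e => hu.2.1 (conj_eq_one_iff.1 e)⟩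
  · rw [← hga, mul_smul, inv_smul_smul, mul_smul, ha]
  · rw [← hgb, mul_smul, inv_smul_smul, mul_smul, hb]

/-- All the involutions with two fixed points fix equally many points, and not all. -/
theorem exists_k : ∃ k : ℕ, 2 ≤ k ∧ k < Nat.card Φ ∧ ∀ u ∈ doubles X Φ, Nat.card (fixedBy Φ u) = k := by
  haveI : Nontrivial Φ := Finite.one_lt_card_iff_nontrivial.1 h.two
  obtain ⟨a, b, hab⟩ := exists_pair_ne Φ
  obtain ⟨u, hu, -⟩ := h.exists_stab hab
  refine ⟨Nat.card (fixedBy Φ u), hu.2.2, ?_, fun u' hu' => ?_⟩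
  · have h1 := card_moved (Φ := Φ) u
    by_contra hle
    have h0 : Nat.card {x : Φ // u • x ≠ x} = 0 := by omega
    rw [Nat.card_eq_zero, or_iff_left (not_infinite_iff_finite.2 inferInstance)] at h0
    exact hu.2.1 (h.faith u fun p => not_not.1 fun hp => h0.false ⟨p, hp⟩)
  · obtain ⟨g, rfl⟩ := h.doubles_conj hu hu'
    exact card_fixedBy_conj u g

variable {k : ℕ} (hk2 : 2 ≤ k) (hki : k < Nat.card Φ) (hk : ∀ u ∈ doubles X Φ, Nat.card (fixedBy Φ u) = k)
include hk2 hki hk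

omit hk2 hki in
theorem card_doubles : Nat.card (doubles X Φ) * (k * (k - 1)) = Nat.card Φ * (Nat.card Φ - 1) := by
  haveI : Nontrivial Φ := Finite.one_lt_card_iff_nontrivial.1 h.two
  obtain ⟨a, b, hab⟩ := exists_pair_ne Φ
  rw [h.count_fixes (doubles X Φ) doubles_closed (fun u hu => hu.1) k hk hab]
  suffices hone : Nat.card {u : X // u ∈ doubles X Φ ∧ u • a = a ∧ u • b = b} = 1 by rw [hone, one_mul]
  obtain ⟨u, hu, ha, hb, hall⟩ := h.exists_stab hab
  exact Nat.card_eq_one_iff_unique.2 ⟨⟨fun x y => Subtype.ext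
    (((hall x.1 x.2.2.1 x.2.2.2).resolve_left x.2.1.2.1).trans
      ((hall y.1 y.2.2.1 y.2.2.2).resolve_left y.2.1.2.1).symm)⟩, ⟨⟨u, hu, ha, hb⟩⟩⟩

/-- Every pair is exchanged by an involution with two fixed points. -/
theorem exists_swap {a b : Φ} (hab : a ≠ b) : ∃ s ∈ doubles X Φ, Swaps s a b := by
  by_contra! hno
  haveI : IsEmpty {u : X // u ∈ doubles X Φ ∧ Swaps u a b} := ⟨fun x => hno x.1 x.2.1 x.2.2⟩
  have hc := h.count_swaps (doubles X Φ) doubles_closed (fun u hu => hu.1) k hk hab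
  rw [Nat.card_of_isEmpty (α := {u : X // u ∈ doubles X Φ ∧ Swaps u a b}), zero_mul, mul_eq_zero] at hc
  rcases hc with hc | hc
  · have := h.card_doubles hk
    rw [hc, zero_mul, eq_comm, mul_eq_zero] at this
    omega
  · omega

theorem swappers {g s : X} (hs : s ∈ doubles X Φ) {a b : Φ} (hab : a ≠ b) (hsw : Swaps s a b) (hg : Swaps g a b) :
    ∃ u ∈ doubles X Φ, u • a = a ∧ u • b = b ∧ u * s = s * u ∧ (g = s ∨ g = s * u) := by
  obtain ⟨u, hu, hua, hub, hall⟩ := h.exists_stab hab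
  refine ⟨u, hu, hua, hub, ?_, ?_⟩
  · have hs' : s⁻¹ = s := inv_eq_of_mul_eq_one_right hs.1
    have he := (hall (s * u * s⁻¹) ?_ ?_).resolve_left fun e => hu.2.1 (conj_eq_one_iff.1 e)
    · exact (mul_inv_eq_iff_eq_mul.1 he).symm
    · rw [mul_smul, hs', hsw.1, mul_smul, hub, hsw.2]
    · rw [mul_smul, hs', hsw.2, mul_smul, hua, hsw.1]
  · rcases hall (s⁻¹ * g) (by rw [mul_smul, hg.1, inv_smul_eq_iff, hsw.1])
      (by rw [mul_smul, hg.2, inv_smul_eq_iff, hsw.2]) with e | e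
    · exact Or.inl (inv_mul_eq_one.1 e).symm
    · exact Or.inr (eq_mul_of_inv_mul_eq e)

/-- An element with a cycle of length two is an involution. -/
theorem swap_sq {g : X} {a b : Φ} (hab : a ≠ b) (hg : Swaps g a b) : g * g = 1 := by
  obtain ⟨s, hs, hsw⟩ := h.exists_swap hk2 hki hk hab
  obtain ⟨u, hu, -, -, hcomm, e | e⟩ := h.swappers hk2 hki hk hs hab hsw hg
  · rw [e, hs.1]
  · rw [e, show s * u * (s * u) = s * (u * s) * u by group, hcomm,
      show s * (s * u) * u = s * s * (u * u) by group, hs.1, hu.1, one_mul]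

omit hk2 hki hk in
theorem fix_sub {u g : X} (hu : u ∈ doubles X Φ) (hg : ∀ p ∈ fixedBy Φ u, g • p = p) : g = 1 ∨ g = u := by
  obtain ⟨a, b, hab, ha, hb⟩ := exists_two_fixed hu
  exact h.eq_of_fix hu hab ha hb (hg a ha) (hg b hb)

theorem not_square {w : X} (hw : w * w ∈ doubles X Φ) : False := by
  by_cases hm : ∀ p ∈ fixedBy Φ (w * w), w • p = p
  · rcases h.fix_sub hw hm with e | e
    · exact hw.2.1 (by rw [e, one_mul])
    · exact hw.2.1 (by rw [← e, (mul_eq_left.1 e.symm : w = 1)])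
  · push Not at hm
    obtain ⟨p, hp, hpm⟩ := hm
    exact hw.2.1 (h.swap_sq hk2 hki hk (a := p) (b := w • p) hpm.symm ⟨rfl, by rw [smul_smul]; exact hp⟩)

omit hk2 hki hk in
theorem cent_maps (u : X) : ∀ g ∈ Subgroup.centralizer ({u} : Set X), ∀ p ∈ fixedBy Φ u, g • p ∈ fixedBy Φ u :=
  fun g hg p hp => by
    rw [mem_fixedBy] at hp ⊢
    rw [smul_smul, ← Subgroup.mem_centralizer_singleton_iff.1 hg, ← smul_smul, hp]

omit hk2 hki hk in
theorem cent_sharp {u : X} (hu : u ∈ doubles X Φ) :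
    Sharp (restrictHom (Subgroup.centralizer ({u} : Set X)) (fixedBy Φ u) (h.cent_maps u)).range (fixedBy Φ u) := by
  refine restrict_sharp (fun a ha b hb c hc d hd hab hcd => ?_) (fun g hg a ha b hb hab hga hgb x hx => ?_) hu.2.2
  · obtain ⟨g, hga, hgb⟩ := h.move a b c d hab hcd
    refine ⟨g, Subgroup.mem_centralizer_singleton_iff.2 ?_, hga, hgb⟩
    refine mul_inv_eq_iff_eq_mul.1
      ((h.eq_of_fix hu hcd hc hd ?_ ?_).resolve_left fun e => hu.2.1 (conj_eq_one_iff.1 e))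
    · rw [← hga, mul_smul, inv_smul_smul, mul_smul, show u • a = a from ha]
    · rw [← hgb, mul_smul, inv_smul_smul, mul_smul, show u • b = b from hb]
  · rcases h.eq_of_fix hu hab ha hb hga hgb with e | e <;> rw [e]
    · exact one_smul X x
    · exact hx

omit hk2 hki in
/-- An involution commuting with `u` acts on the fixed points of `u` as an involution. -/
theorem image_invol {u x : X} (hu : u ∈ doubles X Φ) (hx : x * x = 1) (hx1 : x ≠ 1) (hxu : x ≠ u)
    (hc : x ∈ Subgroup.centralizer ({u} : Set X)) :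
    let r := (restrictHom (Subgroup.centralizer ({u} : Set X)) (fixedBy Φ u) (h.cent_maps u)).rangeRestrict ⟨x, hc⟩
    r * r = 1 ∧ r ≠ 1 := by
  intro r
  refine ⟨?_, fun e => ?_⟩
  · rw [← map_mul, show (⟨x, hc⟩ : Subgroup.centralizer ({u} : Set X)) * ⟨x, hc⟩ = 1 from Subtype.ext hx, map_one]
  · rcases h.fix_sub hu ((restrictHom_rangeRestrict_eq_one _).1 e) with e' | e'
    · exact hx1 e'
    · exact hxu e'

/-- Either every involution has two fixed points, or exchanged pairs see exactly one of each kind. -/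
theorem dichotomy : (others X Φ = ∅ ∧ Nat.card Φ + k = 2 * (k * k)) ∨
    ((others X Φ).Nonempty ∧ Nat.card Φ = k * k ∧
      ∀ a b : Φ, a ≠ b → Nat.card {w : X // w ∈ others X Φ ∧ Swaps w a b} = 1) := by
  classical
  haveI : Nontrivial Φ := Finite.one_lt_card_iff_nontrivial.1 h.two
  obtain ⟨a, b, hab⟩ := exists_pair_ne Φ
  obtain ⟨s, hs, hsw⟩ := h.exists_swap hk2 hki hk hab
  obtain ⟨u, hu, hua, hub, hcomm, -⟩ := h.swappers hk2 hki hk hs hab hsw hsw
  have hswu : Swaps (s * u) a b := ⟨by rw [mul_smul, hua, hsw.1], by rw [mul_smul, hub, hsw.2]⟩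
  have hne : s * u ≠ s := fun e => hu.2.1 (mul_eq_left.1 e)
  have hall : ∀ g : X, Swaps g a b → g = s ∨ g = s * u := fun g hg => by
    obtain ⟨u', hu', hu'a, hu'b, -, e⟩ := h.swappers hk2 hki hk hs hab hsw hg
    rw [(h.eq_of_fix hu hab hua hub hu'a hu'b).resolve_left hu'.2.1] at e
    exact e
  have hsu : s * u * (s * u) = 1 := h.swap_sq hk2 hki hk hab hswu
  have hsu1 : s * u ≠ 1 := fun e => hab (by rw [← hswu.1, e, one_smul])
  have hcd := h.card_doubles hk
  have hcs := h.count_swaps (doubles X Φ) doubles_closed (fun u hu => hu.1) k hk hab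
  have hkk : 0 < Nat.card (doubles X Φ) := Nat.card_pos_iff.2 ⟨⟨⟨u, hu⟩⟩, inferInstance⟩
  rcases mem_doubles_or_others (Φ := Φ) hsu hsu1 with hd | ho
  · left
    have h2 : Nat.card {g : X // g ∈ doubles X Φ ∧ Swaps g a b} = 2 := by
      rw [Nat.card_eq_two_iff' (⟨s, hs, hsw⟩ : {g : X // g ∈ doubles X Φ ∧ Swaps g a b})]
      refine ⟨⟨s * u, hd, hswu⟩, fun e => hne (congrArg Subtype.val e), fun g hg => Subtype.ext ?_⟩
      exact (hall g.1 g.2.2).resolve_left fun e => hg (Subtype.ext e)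
    rw [h2, ← hcd, show 2 * (Nat.card (doubles X Φ) * (k * (k - 1))) =
      Nat.card (doubles X Φ) * (2 * (k * (k - 1))) by ring] at hcs
    have h3 := Nat.eq_of_mul_eq_mul_left hkk hcs
    refine ⟨Set.eq_empty_iff_forall_notMem.2 fun w hw => ?_, ?_⟩
    · obtain ⟨p, hp⟩ : ∃ p : Φ, w • p ≠ p := by
        by_contra! hh
        exact hw.2.1 (h.faith w hh)
      obtain ⟨g, hga, hgb⟩ := h.move p (w • p) a b hp.symm hab
      have hsw' := (swaps_invol (x := p) hw.1).conj (h := g)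
      rw [hga, hgb] at hsw'
      rcases hall _ hsw' with e | e
      · exact not_mem_both (e ▸ hs) (others_closed w hw g)
      · exact not_mem_both (e ▸ hd) (others_closed w hw g)
    · obtain ⟨j, rfl⟩ : ∃ j, k = j + 1 := ⟨k - 1, by omega⟩
      rw [Nat.add_sub_cancel] at h3
      ring_nf at h3 ⊢
      omega
  · right
    have h1 : Nat.card {g : X // g ∈ doubles X Φ ∧ Swaps g a b} = 1 :=
      Nat.card_eq_one_iff_unique.2 ⟨⟨fun x y => Subtype.ext (by
        rcases hall _ x.2.2 with e | e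
        · rcases hall _ y.2.2 with e' | e'
          · rw [e, e']
          · exact (not_mem_both (e' ▸ y.2.1) ho).elim
        · exact (not_mem_both (e ▸ x.2.1) ho).elim)⟩, ⟨⟨s, hs, hsw⟩⟩⟩
    rw [h1, one_mul, ← hcd] at hcs
    have h3 := Nat.eq_of_mul_eq_mul_left hkk hcs
    refine ⟨⟨_, ho⟩, ?_, fun c d hcd' => ?_⟩
    · obtain ⟨j, rfl⟩ : ∃ j, k = j + 1 := ⟨k - 1, by omega⟩
      rw [Nat.add_sub_cancel] at h3
      ring_nf at h3 ⊢
      omega
    rw [h.swappers_eq (others X Φ) others_closed hab hcd']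
    refine Nat.card_eq_one_iff_unique.2 ⟨⟨fun x y => Subtype.ext ?_⟩, ⟨⟨s * u, ho, hswu⟩⟩⟩
    rcases hall _ x.2.2 with e | e
    · exact (not_mem_both hs (e ▸ x.2.1)).elim
    · rcases hall _ y.2.2 with e' | e'
      · exact (not_mem_both hs (e' ▸ y.2.1)).elim
      · rw [e, e']

omit hki hk in
theorem card_others_one {f : ℕ} (hf : ∀ w ∈ others X Φ, Nat.card (fixedBy Φ w) = f)
    (h1 : ∀ a b : Φ, a ≠ b → Nat.card {w : X // w ∈ others X Φ ∧ Swaps w a b} = 1) :
    Nat.card (others X Φ) * (Nat.card Φ - f) = Nat.card Φ * (Nat.card Φ - 1) := by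
  haveI : Nontrivial Φ := Finite.one_lt_card_iff_nontrivial.1 h.two
  obtain ⟨a, b, hab⟩ := exists_pair_ne Φ
  have := h.count_swaps (others X Φ) others_closed (fun u hu => hu.1) f hf hab
  rwa [h1 a b hab, one_mul] at this

variable (hne : (others X Φ).Nonempty)
include hne

theorem card_eq_sq : Nat.card Φ = k * k := by
  rcases h.dichotomy hk2 hki hk with e | e
  · exact absurd e.1 (Set.nonempty_iff_ne_empty.1 hne)
  · exact e.2.1

theorem other_unique {a b : Φ} (hab : a ≠ b) {w w' : X} (hw : w ∈ others X Φ) (hw' : w' ∈ others X Φ)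
    (hs : Swaps w a b) (hs' : Swaps w' a b) : w = w' := by
  rcases h.dichotomy hk2 hki hk with e | e
  · exact absurd e.1 (Set.nonempty_iff_ne_empty.1 hne)
  · haveI := (Nat.card_eq_one_iff_unique.1 (e.2.2 a b hab)).1
    exact congrArg Subtype.val (Subsingleton.elim
      (⟨w, hw, hs⟩ : {w : X // w ∈ others X Φ ∧ Swaps w a b}) ⟨w', hw', hs'⟩)

theorem exists_other {a b : Φ} (hab : a ≠ b) : ∃ w ∈ others X Φ, Swaps w a b := by
  rcases h.dichotomy hk2 hki hk with e | e
  · exact absurd e.1 (Set.nonempty_iff_ne_empty.1 hne)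
  · obtain ⟨⟨w, hw, hs⟩⟩ := (Nat.card_eq_one_iff_unique.1 (e.2.2 a b hab)).2
    exact ⟨w, hw, hs⟩

/-- For odd `k` every point is the fixed point of exactly one involution of the second kind. -/
theorem other_point (hodd : Odd k) :
    (∀ w ∈ others X Φ, Nat.card (fixedBy Φ w) = 1) ∧ ∀ p : Φ, ∃! w, w ∈ others X Φ ∧ w • p = p := by
  classical
  have hi := h.card_eq_sq hk2 hki hk hne
  have hiodd : Odd (Nat.card Φ) := hi ▸ hodd.mul hodd
  have hf : ∀ w ∈ others X Φ, Nat.card (fixedBy Φ w) = 1 := fun w hw => by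
    have h1 := fixedBy_parity (Φ := Φ) hw.1
    rw [Nat.odd_iff.1 hiodd] at h1
    have := hw.2.2
    omega
  refine ⟨hf, ?_⟩
  have h1 : ∀ a b : Φ, a ≠ b → Nat.card {w : X // w ∈ others X Φ ∧ Swaps w a b} = 1 := by
    rcases h.dichotomy hk2 hki hk with e | e
    · exact absurd e.1 (Set.nonempty_iff_ne_empty.1 hne)
    · exact e.2.2
  have hcard : Nat.card (others X Φ) = Nat.card Φ :=
    Nat.eq_of_mul_eq_mul_right (by have := h.two; omega) (h.card_others_one hk2 hf h1)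
  choose f hfp using fun w : others X Φ => (Nat.card_pos_iff.1 (by rw [hf _ w.2]; exact one_pos) :
    Nonempty (fixedBy Φ (w : X)) ∧ _).1.elim fun p => (⟨p.1, p.2⟩ : ∃ p : Φ, (w : X) • p = p)
  have hsurj : Function.Surjective f := fun q => by
    obtain ⟨w₀, hw₀⟩ := hne
    set x₀ : others X Φ := ⟨w₀, hw₀⟩
    haveI : Nontrivial Φ := Finite.one_lt_card_iff_nontrivial.1 h.two
    obtain ⟨c, hc⟩ := _root_.exists_ne (f x₀)
    obtain ⟨d, hd⟩ := _root_.exists_ne q
    obtain ⟨g, hg, -⟩ := h.move (f x₀) c q d hc.symm hd.symm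
    refine ⟨⟨g * w₀ * g⁻¹, others_closed w₀ hw₀ g⟩, others_fix_unique (others_closed w₀ hw₀ g) (hfp ⟨_, others_closed w₀ hw₀ g⟩) ?_⟩
    rw [← hg, mul_smul, inv_smul_smul, mul_smul]
    exact congrArg _ (hfp x₀)
  haveI := Fintype.ofFinite Φ
  haveI := Fintype.ofFinite (others X Φ)
  have hinj := ((Fintype.bijective_iff_surjective_and_card f).2
    ⟨hsurj, by rw [← Nat.card_eq_fintype_card, ← Nat.card_eq_fintype_card, hcard]⟩).1
  intro p
  obtain ⟨w, hw⟩ := hsurj p
  refine ⟨w.1, ⟨w.2, hw ▸ hfp w⟩, fun w' hw' => ?_⟩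
  have e : f ⟨w', hw'.1⟩ = p := others_fix_unique hw'.1 (hfp ⟨w', hw'.1⟩) hw'.2
  exact congrArg Subtype.val (hinj (e.trans hw.symm))

theorem other_central (hodd : Odd k) {w : X} (hw : w ∈ others X Φ) {p : Φ} (hp : w • p = p) {g : X}
    (hg : g • p = p) : g * w = w * g :=
  mul_inv_eq_iff_eq_mul.1 (((h.other_point hk2 hki hk hne hodd).2 p).unique ⟨others_closed w hw g, by
    rw [mul_smul, inv_smul_eq_iff.2 hg.symm, mul_smul, hp, hg]⟩ ⟨hw, hp⟩)

/-- For odd `k` two commuting involutions with two fixed points multiply to one of the second kind. -/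
theorem doubles_mul (hodd : Odd k) {u v : X} (hu : u ∈ doubles X Φ) (hv : v ∈ doubles X Φ) (hne' : u ≠ v)
    (hc : v * u = u * v) : u * v ∈ others X Φ := by
  have hvC : v ∈ Subgroup.centralizer ({u} : Set X) := Subgroup.mem_centralizer_singleton_iff.2 hc
  have hodd' : Odd (Nat.card (fixedBy Φ u)) := by rw [hk u hu]; exact hodd
  obtain ⟨hr, hr1⟩ := h.image_invol hk hu hv.1 hv.2.1 (Ne.symm hne') hvC
  obtain ⟨⟨p, hp⟩, hpv⟩ := (h.cent_sharp hu).exists_fix hodd' hr
  have hpv' : v • p = p := congrArg Subtype.val hpv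
  obtain ⟨w, ⟨hw, hwp⟩, -⟩ := (h.other_point hk2 hki hk hne hodd).2 p
  have hwu : u * w = w * u := h.other_central hk2 hki hk hne hodd hw hwp hp
  have hwC : w ∈ Subgroup.centralizer ({u} : Set X) := Subgroup.mem_centralizer_singleton_iff.2 hwu.symm
  obtain ⟨hs, hs1⟩ := h.image_invol hk hu hw.1 hw.2.1 (fun e => not_mem_both hu (e ▸ hw)) hwC
  have he := (h.cent_sharp hu).eq_of_fix hodd' hr hr1 hs hs1 (p := ⟨p, hp⟩) hpv (Subtype.ext hwp)
  rw [← div_eq_one, div_eq_mul_inv, ← map_inv, ← map_mul, restrictHom_rangeRestrict_eq_one] at he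
  rcases h.fix_sub hu he with e | e
  · exact (not_mem_both hv (mul_inv_eq_one.1 (show v * w⁻¹ = 1 from e) ▸ hw)).elim
  · have e' : v = u * w := mul_inv_eq_iff_eq_mul.1 (show v * w⁻¹ = u from e)
    rw [e', ← mul_assoc, hu.1, one_mul]
    exact hw

omit hk2 hki hk hne in
theorem others_comm_eq {w w' : X} (hw : w ∈ others X Φ) (hw' : w' ∈ others X Φ) (hc : w' * w = w * w')
    {p : Φ} (hp : w • p = p) : w' • p = p :=
  others_fix_unique hw (by rw [smul_smul, ← hc, mul_smul, hp]) hp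

/-- For odd `k` two commuting involutions of the second kind coincide. -/
theorem others_comm (hodd : Odd k) {w w' : X} (hw : w ∈ others X Φ) (hw' : w' ∈ others X Φ)
    (hc : w' * w = w * w') : w = w' := by
  obtain ⟨p, hp⟩ : ∃ p : Φ, w • p = p := by
    obtain ⟨⟨p, hp⟩⟩ := (Nat.card_pos_iff.1 (by rw [(h.other_point hk2 hki hk hne hodd).1 w hw]; exact one_pos) :
      Nonempty (fixedBy Φ w) ∧ _).1
    exact ⟨p, hp⟩
  exact ((h.other_point hk2 hki hk hne hodd).2 p).unique ⟨hw, hp⟩ ⟨hw', h.others_comm_eq hw hw' hc hp⟩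

theorem others_free (heven : Even k) {w : X} (hw : w ∈ others X Φ) (p : Φ) : w • p ≠ p := by
  intro hp
  have h1 := fixedBy_parity (Φ := Φ) hw.1
  rw [Nat.even_iff.1 (h.card_eq_sq hk2 hki hk hne ▸ heven.mul_right k : Even (Nat.card Φ))] at h1
  have h2 := hw.2.2
  haveI : Nonempty (fixedBy Φ w) := ⟨⟨p, hp⟩⟩
  have : 0 < Nat.card (fixedBy Φ w) := Nat.card_pos
  omega

end Half

end Cfsg.Lib.TwoPointFive
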