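import Cfsg.Agent.TwoPointFive.Half
import Cfsg.Agent.Fusion.TwoSite
import Cfsg.Agent.Components.Cores

/-!
The regular elementary abelian subgroup for even `k` (row 3262).
-/

set_option autoImplicit false
set_option linter.unusedSectionVars false
set_option linter.style.haveILetI false

namespace Cfsg.Lib.TwoPointFive

open MulAction

universe u v

variable {X : Type u} {Φ : Type v} [Group X] [Finite X] [Finite Φ] [MulAction X Φ]

namespace Half

variable (h : Half X Φ)
include h

variable {k : ℕ} (hk2 : 2 ≤ k) (hki : k < Nat.card Φ) (hk : ∀ u ∈ doubles X Φ, Nat.card (fixedBy Φ u) = k)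
include hk2 hki hk

/-- For even `k` the fixed-point sets carry a sharp action of even degree, so `k` is a power of two. -/
theorem k_two_pow (heven : Even k) : ∃ j : ℕ, k = 2 ^ j := by
  haveI : Nontrivial Φ := Finite.one_lt_card_iff_nontrivial.1 h.two
  obtain ⟨a, b, hab⟩ := exists_pair_ne Φ
  obtain ⟨u, hu, -⟩ := h.exists_stab hab
  obtain ⟨j, hj⟩ := (h.cent_sharp hu).two_pow_of_even (by rw [hk u hu]; exact heven)
  exact ⟨j, by rw [← hk u hu, hj]⟩

/-- The involutions of the second kind form, with the identity, a normal regular subgroup. -/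
theorem others_regular (hne : (others X Φ).Nonempty) (heven : Even k) :
    ∃ M : Subgroup X, M.Normal ∧ (∀ g : X, g ∈ M ↔ g = 1 ∨ g ∈ others X Φ) ∧ (∀ g ∈ M, g * g = 1) ∧
      Nat.card M = Nat.card Φ := by
  classical
  haveI : Fact (Nat.Prime 2) := ⟨Nat.prime_two⟩
  obtain ⟨j, hj⟩ := h.k_two_pow hk2 hki hk heven
  have hi : Nat.card Φ = 2 ^ (2 * j) := by rw [h.card_eq_sq hk2 hki hk hne, hj, two_mul, pow_add]
  have hfree := fun w hw p => h.others_free hk2 hki hk hne heven (w := w) hw p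
  -- every such involution lies in a normal 2-subgroup
  have hmem : ∀ w ∈ others X Φ, ∃ N : Subgroup X, N.Normal ∧ IsPGroup 2 N ∧ w ∈ N := by
    intro w hw
    by_contra! hrad
    obtain ⟨r, μ, hr, hr2, hμ, hinv⟩ := Cfsg.Lib.Fusion.exists_inverted (x := w) (by rw [pow_two]; exact hw.1)
      fun N hN hN2 => hrad N hN hN2
    haveI : Fact r.Prime := ⟨hr⟩
    have hμP : IsPGroup r (Subgroup.zpowers μ) := IsPGroup.of_card (n := 1) (by rw [Nat.card_zpowers, hμ, pow_one])
    obtain ⟨p, hp⟩ := hμP.nonempty_fixed_point_of_prime_not_dvd_card Φ (by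
      rw [hi]
      exact fun hd => hr2 ((Nat.prime_dvd_prime_iff_eq hr Nat.prime_two).1 (hr.dvd_of_dvd_pow hd)))
    have hμp : μ • p = p := hp ⟨μ, Subgroup.mem_zpowers μ⟩
    have hμwp : μ • (w • p) = w • p := by
      have hw' : w⁻¹ = w := inv_eq_of_mul_eq_one_right hw.1
      have e : μ * w = w * μ⁻¹ := by
        rw [← hinv, hw', show w * (w * μ * w) = w * w * (μ * w) by group, hw.1, one_mul]
      rw [smul_smul, e, mul_smul, inv_smul_eq_iff.2 hμp.symm]
    have hμ1 : μ ≠ 1 := fun e => hr.ne_one (by rw [← hμ, e, orderOf_one])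
    have hμd := h.mem_doubles hμ1 (hfree w hw p).symm hμp hμwp
    have h2 : orderOf μ ∣ 2 := orderOf_dvd_of_pow_eq_one (by rw [pow_two]; exact hμd.1)
    rw [hμ] at h2
    exact hr2 ((Nat.prime_dvd_prime_iff_eq hr Nat.prime_two).1 h2)
  choose N hNn hN2 hwN using fun w : others X Φ => hmem w.1 w.2
  haveI := hNn
  let M : Subgroup X := Cfsg.pCore 2 X
  have hMn : M.Normal := Cfsg.Lib.Components.pCore_normal' 2
  have hM2 : IsPGroup 2 M := Cfsg.Lib.Components.isPGroup_pCore 2
  have hsub : ∀ w ∈ others X Φ, w ∈ M := fun w hw =>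
    Cfsg.Lib.Components.le_pCore (hN2 ⟨w, hw⟩) (hwN ⟨w, hw⟩)
  haveI := hMn
  haveI : Nontrivial Φ := Finite.one_lt_card_iff_nontrivial.1 h.two
  have htrans : ∀ p q : Φ, ∃ g ∈ M, g • p = q := fun p q => by
    rcases eq_or_ne p q with rfl | hpq
    · exact ⟨1, M.one_mem, one_smul X p⟩
    · obtain ⟨w, hw, hsw⟩ := h.exists_other hk2 hki hk hne hpq
      exact ⟨w, hsub w hw, hsw.1⟩
  -- a point stabiliser in `M` fixes everything
  have hfreeM : ∀ g ∈ M, ∀ p : Φ, g • p = p → g = 1 := by
    intro g hg p hgp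
    refine h.faith g fun q => ?_
    rcases eq_or_ne q p with rfl | hqp
    · exact hgp
    set A : Subgroup X := M ⊓ stabilizer X p with hA
    have hA2 : IsPGroup 2 A := hM2.to_le inf_le_left
    set Ψ := {x : Φ // x ≠ p} with hΨ
    letI : MulAction A Ψ :=
      { smul := fun x y => ⟨x.1 • y.1, fun e => y.2 (MulAction.injective x.1 (e.trans (x.2.2 : x.1 • p = p).symm))⟩
        one_smul := fun y => Subtype.ext (one_smul X y.1)
        mul_smul := fun x x' y => Subtype.ext (mul_smul x.1 x'.1 y.1) }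
    have hodd : ¬ 2 ∣ Nat.card Ψ := by
      haveI := Fintype.ofFinite Φ
      rw [hΨ, Nat.card_eq_fintype_card, Fintype.card_subtype_compl, Fintype.card_subtype_eq,
        ← Nat.card_eq_fintype_card, hi]
      have : 2 ∣ 2 ^ (2 * j) := dvd_pow_self 2 (by
        rintro e
        rw [e] at hi
        have := h.two
        omega)
      have := Nat.one_le_two_pow (n := 2 * j)
      omega
    obtain ⟨⟨x₀, hx₀⟩, hfix⟩ := hA2.nonempty_fixed_point_of_prime_not_dvd_card Ψ hodd
    obtain ⟨c, hc1, hc2⟩ := h.move p x₀ p q hx₀.symm hqp.symm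
    have hmem : c⁻¹ * g * c ∈ A := by
      refine ⟨by simpa using hMn.conj_mem g hg c⁻¹, ?_⟩
      show (c⁻¹ * g * c) • p = p
      rw [mul_smul, mul_smul, hc1, hgp, inv_smul_eq_iff, hc1]
    have hfx : (c⁻¹ * g * c) • x₀ = x₀ := congrArg Subtype.val (hfix ⟨_, hmem⟩)
    rw [mul_smul, mul_smul, hc2, inv_smul_eq_iff, hc2] at hfx
    exact hfx
  obtain ⟨a⟩ := (inferInstance : Nonempty Φ)
  have hb : Function.Bijective fun g : M => (g : X) • a := by
    refine ⟨fun x y hxy => Subtype.ext ?_, fun q => ?_⟩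
    · have := hfreeM _ (M.mul_mem (M.inv_mem y.2) x.2) a
        (by rw [mul_smul, inv_smul_eq_iff]; exact hxy)
      exact (inv_mul_eq_one.1 this).symm
    · obtain ⟨g, hg, e⟩ := htrans a q
      exact ⟨⟨g, hg⟩, e⟩
  have hiff : ∀ g : X, g ∈ M ↔ g = 1 ∨ g ∈ others X Φ := by
    refine fun g => ⟨fun hg => ?_, fun hg => ?_⟩
    · rcases eq_or_ne a (g • a) with e | hne'
      · exact Or.inl (hfreeM g hg a e.symm)
      · obtain ⟨w, hw, hsw⟩ := h.exists_other hk2 hki hk hne hne'
        have := congrArg Subtype.val (hb.1 (a₁ := ⟨g, hg⟩) (a₂ := ⟨w, hsub w hw⟩) hsw.1.symm)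
        refine Or.inr ?_; rw [show g = w from this]; exact hw
    · rcases hg with rfl | hg
      · exact M.one_mem
      · exact hsub g hg
  refine ⟨M, hMn, hiff, fun g hg => ?_, Nat.card_congr (Equiv.ofBijective _ hb)⟩
  rcases (hiff g).1 hg with rfl | hg'
  · exact one_mul 1
  · exact hg'.1

end Half

end Cfsg.Lib.TwoPointFive
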