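import Cfsg.Agent.TwoPointFive.Setup
import Cfsg.Agent.Fusion.TwoSite
import Cfsg.Agent.InvolCalc.ZStarApps

/-!
The kernel of an involution centraliser on the fixed points (row 3262).
-/

set_option autoImplicit false
set_option linter.unusedSectionVars false
set_option linter.style.haveILetI false

namespace Cfsg.Lib.TwoPointFive

open MulAction Subgroup Equiv

universe u v

variable {G : Type u} {Ω : Type v} [Group G] [Finite G] [Finite Ω] [MulAction G Ω]

/-- The elements centralising `u` and fixing all its fixed points. -/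
def kerOf (Ω : Type v) [MulAction G Ω] (u : G) : Subgroup G :=
  centralizer ({u} : Set G) ⊓ fixingSubgroup G (fixedBy Ω u)

omit [Finite G] [Finite Ω] in
theorem mem_kerOf {u g : G} : g ∈ kerOf Ω u ↔ g * u = u * g ∧ ∀ p : Ω, u • p = p → g • p = p := by
  rw [kerOf, Subgroup.mem_inf, mem_centralizer_singleton_iff, mem_fixingSubgroup_iff]
  rfl

omit [Finite G] [Finite Ω] in
theorem self_mem_kerOf (u : G) : u ∈ kerOf Ω u := mem_kerOf.2 ⟨rfl, fun _ hp => hp⟩

omit [Finite G] [Finite Ω] in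
theorem conj_mem_kerOf {u x g : G} (hg : g * u = u * g) (hx : x ∈ kerOf Ω u) : g * x * g⁻¹ ∈ kerOf Ω u := by
  obtain ⟨hxu, hxf⟩ := mem_kerOf.1 hx
  refine mem_kerOf.2 ⟨?_, fun p hp => ?_⟩
  · exact mem_centralizer_singleton_iff.1 ((centralizer ({u} : Set G)).mul_mem
      ((centralizer ({u} : Set G)).mul_mem (mem_centralizer_singleton_iff.2 hg) (mem_centralizer_singleton_iff.2 hxu))
      ((centralizer ({u} : Set G)).inv_mem (mem_centralizer_singleton_iff.2 hg)))
  · have : u • g⁻¹ • p = g⁻¹ • p :=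
      fixed_maps u g⁻¹ ((centralizer ({u} : Set G)).inv_mem (mem_centralizer_singleton_iff.2 hg)) p hp
    rw [mul_smul, mul_smul, hxf _ this, smul_inv_smul]

/-- A group of order four is `{1, s, x, sx}`. -/
theorem four_cases {W : Subgroup G} (hW : Nat.card W = 4) {s x : G} (hs : s ∈ W) (hx : x ∈ W) (hs1 : s ≠ 1)
    (hx1 : x ≠ 1) (hxs : x ≠ s) (hs2 : s * s = 1) : ∀ y ∈ W, y = 1 ∨ y = s ∨ y = x ∨ y = s * x := by
  classical
  haveI := Fintype.ofFinite W
  set F : Finset W := {1, ⟨s, hs⟩, ⟨x, hx⟩, ⟨s, hs⟩ * ⟨x, hx⟩}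
  have h1 : (1 : W) ∉ ({⟨s, hs⟩, ⟨x, hx⟩, ⟨s, hs⟩ * ⟨x, hx⟩} : Finset W) := by
    simp only [Finset.mem_insert, Finset.mem_singleton, Subtype.ext_iff, Subgroup.coe_one, Subgroup.coe_mul, not_or]
    exact ⟨Ne.symm hs1, Ne.symm hx1,
      fun e => hxs ((inv_eq_of_mul_eq_one_right e.symm).symm.trans (inv_eq_of_mul_eq_one_right hs2))⟩
  have h2 : (⟨s, hs⟩ : W) ∉ ({⟨x, hx⟩, ⟨s, hs⟩ * ⟨x, hx⟩} : Finset W) := by
    simp only [Finset.mem_insert, Finset.mem_singleton, Subtype.ext_iff, Subgroup.coe_mul, not_or]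
    exact ⟨Ne.symm hxs, fun e => hx1 (left_eq_mul.1 e)⟩
  have h3 : (⟨x, hx⟩ : W) ≠ ⟨s, hs⟩ * ⟨x, hx⟩ := fun e => hs1 (right_eq_mul.1 (Subtype.ext_iff.1 e))
  have hF : F = Finset.univ := Finset.eq_univ_of_card F (by
    rw [Finset.card_insert_of_notMem h1, Finset.card_insert_of_notMem h2, Finset.card_pair h3,
      ← Nat.card_eq_fintype_card, hW])
  intro y hy
  have := Finset.mem_univ (⟨y, hy⟩ : W)
  rw [← hF] at this
  simp only [F, Finset.mem_insert, Finset.mem_singleton, Subtype.ext_iff, Subgroup.coe_one, Subgroup.coe_mul] at this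
  exact this

namespace TwoA5

variable (h : TwoA5 G Ω) {i : ℕ} (hi2 : 2 ≤ i) (hin : i < Nat.card Ω)
  (hi : ∀ u ∈ doubles G Ω, Nat.card (fixedBy Ω u) = i)
include h hi2 hin hi

omit hi2 hin hi in
theorem kerOf_le {u : G} {a b : Ω} (ha : u • a = a) (hb : u • b = b) :
    kerOf Ω u ≤ (stabilizer G a ⊓ stabilizer G b) ⊓ centralizer ({u} : Set G) := fun x hx =>
  ⟨⟨(mem_kerOf.1 hx).2 a ha, (mem_kerOf.1 hx).2 b hb⟩, mem_centralizer_singleton_iff.2 (mem_kerOf.1 hx).1⟩

omit hi2 hin hi in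
theorem kerOf_sq {u : G} (hu : u ∈ doubles G Ω) {g : G} (hg : g ∈ kerOf Ω u) : g * g = 1 := by
  obtain ⟨a, b, hab, ha, hb⟩ := exists_two_fixed hu
  exact (h.pair_cent hab ⟨ha, hb⟩ hu.1 hu.2.1).1 g (kerOf_le h ha hb hg).1 (mem_kerOf.1 hg).1

omit hi2 hin hi in
theorem card_kerOf_dvd {u : G} (hu : u ∈ doubles G Ω) : Nat.card (kerOf Ω u) ∣ 4 := by
  obtain ⟨a, b, hab, ha, hb⟩ := exists_two_fixed hu
  rw [← (h.pair_cent hab ⟨ha, hb⟩ hu.1 hu.2.1).2]
  exact Subgroup.card_dvd_of_le (kerOf_le h ha hb)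

omit hi2 hin hi in
theorem card_kerOf_eq {u u' : G} (hu : u ∈ doubles G Ω) (hu' : u' ∈ doubles G Ω) :
    Nat.card (kerOf Ω u') = Nat.card (kerOf Ω u) := by
  obtain ⟨g, rfl⟩ := h.doubles_conj hu hu'
  have key : ∀ (c v : G) (x : G), x ∈ kerOf Ω v → c * x * c⁻¹ ∈ kerOf Ω (c * v * c⁻¹) := by
    intro c v x hx
    obtain ⟨h1, h2⟩ := mem_kerOf.1 hx
    refine mem_kerOf.2 ⟨?_, fun p hp => ?_⟩
    · rw [show c * x * c⁻¹ * (c * v * c⁻¹) = c * (x * v) * c⁻¹ by group, h1]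
      group
    · have : v • c⁻¹ • p = c⁻¹ • p := by
        rw [mul_smul, mul_smul] at hp
        exact eq_inv_smul_iff.2 hp
      rw [mul_smul, mul_smul, h2 _ this, smul_inv_smul]
  refine (Nat.card_congr
    { toFun := fun x => ⟨g * x.1 * g⁻¹, key g u x.1 x.2⟩
      invFun := fun x => ⟨g⁻¹ * x.1 * g, by
        have := key g⁻¹ (g * u * g⁻¹) x.1 x.2
        rwa [show g⁻¹ * (g * u * g⁻¹) * g⁻¹⁻¹ = u by group, inv_inv] at this⟩
      left_inv := fun x => Subtype.ext (show g⁻¹ * (g * x.1 * g⁻¹) * g = x.1 by group)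
      right_inv := fun x => Subtype.ext (show g * (g⁻¹ * x.1 * g) * g⁻¹ = x.1 by group) }).symm

omit hi2 hin hi in
theorem kerOf_cases :
    (∀ u ∈ doubles G Ω, Nat.card (kerOf Ω u) = 4) ∨
      (∀ u ∈ doubles G Ω, ∀ g ∈ kerOf Ω u, g = 1 ∨ g = u) := by
  haveI := h.nontrivial
  obtain ⟨a, b, hab⟩ := exists_pair_ne Ω
  obtain ⟨t, ht, -⟩ := h.exists_double hab
  by_cases h4 : Nat.card (kerOf Ω t) = 4
  · exact Or.inl fun u hu => (h.card_kerOf_eq ht hu).trans h4
  refine Or.inr fun u hu g hg => ?_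
  have hd := h.card_kerOf_dvd hu
  have hne : Nat.card (kerOf Ω u) ≠ 4 := fun e => h4 ((h.card_kerOf_eq hu ht).trans e)
  have h2 : Nat.card (kerOf Ω u) = 2 := by
    have hne1 : Nat.card (kerOf Ω u) ≠ 1 := fun e =>
      hu.2.1 (Subgroup.mem_bot.1 (Subgroup.eq_bot_of_card_eq _ e ▸ self_mem_kerOf u))
    have : Nat.card (kerOf Ω u) ≤ 4 := Nat.le_of_dvd (by norm_num) hd
    interval_cases hc : Nat.card (kerOf Ω u) <;> simp_all
  obtain ⟨x, -, hx⟩ := (Nat.card_eq_two_iff' (1 : ↥(kerOf Ω u))).1 h2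
  by_cases hg1 : g = 1
  · exact Or.inl hg1
  · exact Or.inr (congrArg Subtype.val ((hx ⟨g, hg⟩ (fun e => hg1 (congrArg Subtype.val e))).trans
      (hx ⟨u, self_mem_kerOf u⟩ (fun e => hu.2.1 (congrArg Subtype.val e))).symm))

/-- The degree is not a power of two when a central involution has at most one fixed point. -/
theorem d_trick {a b : Ω} (hab : a ≠ b) {z : G} (hz : IsCentral a b z) (hzd : z ∉ doubles G Ω)
    (hzx : ∀ x ∈ stabilizer G a ⊓ stabilizer G b, x * x = 1 → x ≠ 1 → z * x ∈ doubles G Ω) {j : ℕ}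
    (hn : Nat.card Ω = 2 ^ j) : False := by
  haveI : Fact (Nat.Prime 2) := ⟨Nat.prime_two⟩
  obtain ⟨hzs, hz2, hzc⟩ := hz
  have hz1 : z ≠ 1 := fun e => hab (by rw [← hzs.1, e, one_smul])
  have hfree : ∀ p : Ω, z • p ≠ p := by
    intro p hp
    have h1 := fixedBy_parity (Φ := Ω) hz2
    have h2 : Nat.card (fixedBy Ω z) ≤ 1 := by
      by_contra hh
      exact hzd ⟨hz2, hz1, by omega⟩
    have heven : Nat.card Ω % 2 = 0 := by
      rw [hn]
      rcases j with _ | j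
      · rw [pow_zero] at hn; have := h.two; omega
      · rw [pow_succ]; omega
    rw [heven] at h1
    haveI : Nonempty (fixedBy Ω z) := ⟨⟨p, hp⟩⟩
    have : 0 < Nat.card (fixedBy Ω z) := Nat.card_pos
    omega
  obtain ⟨r, μ, hr, hr2, hμ, hinv⟩ := Cfsg.Lib.Fusion.exists_inverted (x := z) (by rw [pow_two]; exact hz2)
    fun N hN hN2 hzN => by
      haveI : Group.IsNilpotent N := hN2.isNilpotent
      haveI : Group.IsSolvable N := inferInstance
      rw [h.no_solvable_normal hi2 hin hi N hN, Subgroup.mem_bot] at hzN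
      exact hz1 hzN
  haveI : Fact r.Prime := ⟨hr⟩
  have hμP : IsPGroup r (Subgroup.zpowers μ) := IsPGroup.of_card (n := 1) (by rw [Nat.card_zpowers, hμ, pow_one])
  obtain ⟨p, hp⟩ := hμP.nonempty_fixed_point_of_prime_not_dvd_card Ω (by
    rw [hn]
    exact fun hd => hr2 ((Nat.prime_dvd_prime_iff_eq hr Nat.prime_two).1 (hr.dvd_of_dvd_pow hd)))
  have hμp : μ • p = p := hp ⟨μ, Subgroup.mem_zpowers μ⟩
  have hz' : z⁻¹ = z := inv_eq_of_mul_eq_one_right hz2
  have hμq : μ • (z • p) = z • p := by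
    have e : μ * z = z * μ⁻¹ := by
      rw [← hinv, hz', show z * (z * μ * z) = z * z * (μ * z) by group, hz2, one_mul]
    rw [smul_smul, e, mul_smul, inv_smul_eq_iff.2 hμp.symm]
  obtain ⟨g, hga, hgb⟩ := h.move p (z • p) a b (hfree p).symm hab
  -- the conjugate of `z` exchanges `a` and `b` and has no two fixed points, hence it is `z`
  have hs := (swaps_invol (x := p) hz2).conj (h := g)
  rw [hga, hgb] at hs
  have hzz : g * z * g⁻¹ = z := by
    set w := g * z * g⁻¹ with hw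
    have hwd : w ∉ doubles G Ω := fun hh => hzd (by
      have := doubles_closed w hh g⁻¹
      rwa [hw, show g⁻¹ * (g * z * g⁻¹) * g⁻¹⁻¹ = z by group] at this)
    have hw2 : w * w = 1 := sq_conj hz2 g
    have hx : z * w ∈ stabilizer G a ⊓ stabilizer G b :=
      ⟨show (z * w) • a = a by rw [mul_smul, hs.1, hzs.2], show (z * w) • b = b by rw [mul_smul, hs.2, hzs.1]⟩
    by_contra hne
    have hx1 : z * w ≠ 1 := fun e => hne (by rw [← inv_eq_of_mul_eq_one_right e, hz'])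
    have hcw : z * w = w * z := by
      have h1 := hzc _ hx
      rw [← mul_assoc, hz2, one_mul, mul_assoc] at h1
      calc z * w = z * (z * (w * z)) := by rw [← h1]
        _ = w * z := by rw [← mul_assoc, hz2, one_mul]
    have hx2 : z * w * (z * w) = 1 := by
      calc z * w * (z * w) = z * w * (w * z) := by rw [hcw]
        _ = z * (w * w) * z := by group
        _ = 1 := by rw [hw2, mul_one, hz2]
    have := hzx _ hx hx2 hx1
    rw [← mul_assoc, hz2, one_mul] at this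
    exact hwd this
  have hμP' : g * μ * g⁻¹ ∈ stabilizer G a ⊓ stabilizer G b :=
    ⟨show (g * μ * g⁻¹) • a = a by rw [← hga, mul_smul, inv_smul_smul, mul_smul, hμp],
      show (g * μ * g⁻¹) • b = b by rw [← hgb, mul_smul, inv_smul_smul, mul_smul, hμq]⟩
  have hc : z * μ = μ * z := by
    have h1 := hzc _ hμP'
    conv_lhs at h1 => rw [← hzz]
    conv_rhs at h1 => rw [← hzz]
    rw [show g * z * g⁻¹ * (g * μ * g⁻¹) = g * (z * μ) * g⁻¹ by group,
      show g * μ * g⁻¹ * (g * z * g⁻¹) = g * (μ * z) * g⁻¹ by group] at h1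
    exact mul_left_cancel (mul_right_cancel h1)
  rw [hc, mul_assoc, mul_inv_cancel, mul_one] at hinv
  have h2 : orderOf μ ∣ 2 := orderOf_dvd_of_pow_eq_one (by rw [pow_two]; exact eq_inv_iff_mul_eq_one.1 hinv)
  rw [hμ] at h2
  exact hr2 ((Nat.prime_dvd_prime_iff_eq hr Nat.prime_two).1 h2)

end TwoA5

end Cfsg.Lib.TwoPointFive
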