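import Cfsg.Agent.TwoPointFive.Sharp

/-!
Restriction of a subgroup to an invariant set (row 3262).
-/

set_option autoImplicit false
set_option linter.unusedSectionVars false
set_option linter.style.haveILetI false

namespace Cfsg.Lib.TwoPointFive

open MulAction

universe u v

variable {X : Type u} {Φ : Type v} [Group X] [MulAction X Φ]

/-- The restriction of a subgroup to an invariant set. -/
def restrictHom (C : Subgroup X) (F : Set Φ) (hF : ∀ c ∈ C, ∀ x ∈ F, c • x ∈ F) : C →* Equiv.Perm F where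
  toFun c :=
    { toFun := fun x => ⟨c.1 • x.1, hF c.1 c.2 x.1 x.2⟩
      invFun := fun x => ⟨c.1⁻¹ • x.1, hF _ (inv_mem c.2) x.1 x.2⟩
      left_inv := fun x => Subtype.ext (inv_smul_smul c.1 x.1)
      right_inv := fun x => Subtype.ext (smul_inv_smul c.1 x.1) }
  map_one' := Equiv.ext fun x => Subtype.ext (one_smul X x.1)
  map_mul' c d := Equiv.ext fun x => Subtype.ext (mul_smul c.1 d.1 x.1)

variable {C : Subgroup X} {F : Set Φ} {hF : ∀ c ∈ C, ∀ x ∈ F, c • x ∈ F}

theorem coe_restrictHom (c : C) (x : F) : ((restrictHom C F hF c) x : Φ) = c.1 • x.1 := rfl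

theorem restrictHom_eq_one (c : C) : restrictHom C F hF c = 1 ↔ ∀ x ∈ F, c.1 • x = x :=
  ⟨fun h x hx => congrArg Subtype.val (DFunLike.congr_fun h (⟨x, hx⟩ : F)),
    fun h => Equiv.ext fun x => Subtype.ext (h x.1 x.2)⟩

theorem restrictHom_smul (c : C) (x : F) :
    (((restrictHom C F hF).rangeRestrict c) • x : F).1 = c.1 • x.1 := rfl

theorem restrictHom_rangeRestrict_eq_one (c : C) :
    (restrictHom C F hF).rangeRestrict c = 1 ↔ ∀ x ∈ F, c.1 • x = x := by
  rw [← restrictHom_eq_one (hF := hF) c]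
  exact ⟨fun h => congrArg Subtype.val h, fun h => Subtype.ext h⟩

/-- The restriction is sharply transitive on pairs as soon as only the kernel fixes two points. -/
theorem restrict_sharp (hmove : ∀ a ∈ F, ∀ b ∈ F, ∀ c ∈ F, ∀ d ∈ F, a ≠ b → c ≠ d → ∃ g ∈ C, g • a = c ∧ g • b = d)
    (htriv : ∀ g ∈ C, ∀ a ∈ F, ∀ b ∈ F, a ≠ b → g • a = a → g • b = b → ∀ x ∈ F, g • x = x)
    (htwo : 2 ≤ Nat.card F) : Sharp (restrictHom C F hF).range F where
  move a b c d hab hcd := by
    obtain ⟨g, hg, h1, h2⟩ := hmove a a.2 b b.2 c c.2 d d.2 (fun e => hab (Subtype.ext e)) fun e => hcd (Subtype.ext e)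
    exact ⟨(restrictHom C F hF).rangeRestrict ⟨g, hg⟩, Subtype.ext h1, Subtype.ext h2⟩
  triv g a b hab ha hb := by
    obtain ⟨⟨c, hc⟩, rfl⟩ := (restrictHom C F hF).rangeRestrict_surjective g
    exact (restrictHom_rangeRestrict_eq_one _).2 (htriv c hc a a.2 b b.2 (fun e => hab (Subtype.ext e))
      (congrArg Subtype.val ha) (congrArg Subtype.val hb))
  two := htwo

end Cfsg.Lib.TwoPointFive
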