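import Cfsg.Agent.TwoPointFive.Setup

/-!
The case in which the set stabiliser of a pair is the symmetric group of degree five (row 3262).
-/

set_option autoImplicit false
set_option linter.unusedSectionVars false
set_option linter.style.haveILetI false

namespace Cfsg.Lib.TwoPointFive

open MulAction Subgroup Equiv

universe u v

variable {G : Type u} {Ω : Type v} [Group G] [Finite G] [Finite Ω] [MulAction G Ω]

/-- Conjugation of the elements permuting a pair on its stabiliser. -/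
def conjPair (a b : Ω) : ↥(pairSet G a b) →* MulAut ↥(stabilizer G a ⊓ stabilizer G b) where
  toFun x :=
    { toFun := fun y => ⟨x.1 * y.1 * x.1⁻¹, pairSet_normalises x.2 y.1 y.2⟩
      invFun := fun y => ⟨x.1⁻¹ * y.1 * x.1,
        by simpa using pairSet_normalises ((pairSet G a b).inv_mem x.2) y.1 y.2⟩
      left_inv := fun y => Subtype.ext (by show x.1⁻¹ * (x.1 * y.1 * x.1⁻¹) * x.1 = y.1; group)
      right_inv := fun y => Subtype.ext (by show x.1 * (x.1⁻¹ * y.1 * x.1) * x.1⁻¹ = y.1; group)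
      map_mul' := fun y y' => Subtype.ext (by
        show x.1 * (y.1 * y'.1) * x.1⁻¹ = x.1 * y.1 * x.1⁻¹ * (x.1 * y'.1 * x.1⁻¹)
        group) }
  map_one' := MulEquiv.ext fun y => Subtype.ext (by show (1 : G) * y.1 * (1 : G)⁻¹ = y.1; simp)
  map_mul' x x' := MulEquiv.ext fun y => Subtype.ext (by
    show (x.1 * x'.1) * y.1 * (x.1 * x'.1)⁻¹ = x.1 * (x'.1 * y.1 * x'.1⁻¹) * x.1⁻¹
    group)

namespace TwoA5

variable (h : TwoA5 G Ω) {i : ℕ} (hi2 : 2 ≤ i) (hin : i < Nat.card Ω)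
  (hi : ∀ u ∈ doubles G Ω, Nat.card (fixedBy Ω u) = i)
include h hi2 hin hi

/-- Without a central involution the pair group is the symmetric group of degree five. -/
theorem exists_sym {a b : Ω} (hab : a ≠ b) (hS : ∀ z : G, ¬ IsCentral a b z) :
    ∃ ρ : ↥(pairSet G a b) →* Perm (Fin 5), Function.Bijective ρ ∧
      ∀ x : ↥(pairSet G a b), Perm.sign (ρ x) = 1 ↔ x.1 ∈ stabilizer G a ⊓ stabilizer G b := by
  obtain ⟨e⟩ := h.iso a b hab
  set ρ : ↥(pairSet G a b) →* Perm (Fin 5) :=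
    Cfsg.Lib.M12Cent.conjAlt.symm.toMonoidHom.comp ((MulAut.congr e).toMonoidHom.comp (conjPair a b)) with hρ
  have hP : ∀ (x : ↥(pairSet G a b)) (hx : x.1 ∈ stabilizer G a ⊓ stabilizer G b),
      ρ x = ((e ⟨x.1, hx⟩ : alternatingGroup (Fin 5)) : Perm (Fin 5)) := by
    intro x hx
    show Cfsg.Lib.M12Cent.conjAlt.symm (MulAut.congr e (conjPair a b x)) = _
    rw [MulEquiv.symm_apply_eq]
    refine MulEquiv.ext fun y => Subtype.ext ?_
    show ((e (conjPair a b x (e.symm y)) : alternatingGroup (Fin 5)) : Perm (Fin 5)) =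
      (MulAut.conjNormal (H := alternatingGroup (Fin 5)) ((e ⟨x.1, hx⟩ : alternatingGroup (Fin 5)) : Perm (Fin 5)) y).1
    rw [MulAut.conjNormal_apply, show conjPair a b x (e.symm y) = ⟨x.1, hx⟩ * e.symm y * (⟨x.1, hx⟩ : ↥(stabilizer G a ⊓ stabilizer G b))⁻¹
      from Subtype.ext rfl, map_mul, map_mul, map_inv, MulEquiv.apply_symm_apply, Subgroup.coe_mul, Subgroup.coe_mul,
      Subgroup.coe_inv]
  have hker : ∀ x, ρ x = 1 → x = 1 := by
    intro x hx
    have hx' : conjPair a b x = 1 := by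
      have h1 : MulAut.congr e (conjPair a b x) = 1 := by
        rw [← map_eq_one_iff Cfsg.Lib.M12Cent.conjAlt.symm.toMonoidHom (MulEquiv.injective _)]
        exact hx
      exact (map_eq_one_iff (MulAut.congr e).toMonoidHom (MulEquiv.injective _)).1 h1
    have hc : ∀ y ∈ stabilizer G a ⊓ stabilizer G b, x.1 * y = y * x.1 := fun y hy => by
      have := congrArg Subtype.val (DFunLike.congr_fun hx' ⟨y, hy⟩)
      exact mul_inv_eq_iff_eq_mul.1 this
    rcases x.2 with hx1 | hx1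
    · exact Subtype.ext (h.pair_center hab ⟨hx1.1, hx1.2⟩ hc)
    · refine absurd ⟨hx1, h.pair_center hab ?_ fun y hy => ?_, hc⟩ (hS x.1)
      · exact ⟨show (x.1 * x.1) • a = a by rw [mul_smul, hx1.1, hx1.2],
          show (x.1 * x.1) • b = b by rw [mul_smul, hx1.2, hx1.1]⟩
      · rw [mul_assoc, hc y hy, ← mul_assoc, hc y hy, mul_assoc]
  have hinj : Function.Injective ρ := (injective_iff_map_eq_one ρ).2 hker
  have hsign : ∀ x : ↥(pairSet G a b), Perm.sign (ρ x) = 1 ↔ x.1 ∈ stabilizer G a ⊓ stabilizer G b := by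
    refine fun x => ⟨fun hs => ?_, fun hx => ?_⟩
    · obtain ⟨y, hy⟩ := e.surjective ⟨ρ x, Perm.mem_alternatingGroup.2 hs⟩
      have hy' : ρ ⟨y.1, stab_le_pairSet a b y.2⟩ = ρ x := by
        rw [hP _ y.2]; exact congrArg Subtype.val hy
      rw [← hinj hy']
      exact y.2
    · rw [hP x hx]; exact Perm.mem_alternatingGroup.1 (e ⟨x.1, hx⟩).2
  refine ⟨ρ, ⟨hinj, fun σ => ?_⟩, hsign⟩
  obtain ⟨g, hg, hgs⟩ := h.exists_swap hi2 hin hi hab
  have hgo : Perm.sign (ρ ⟨g, Or.inr hgs⟩) = -1 := (Int.units_eq_one_or _).resolve_left fun hh =>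
    hab ((((hsign _).1 hh).1 : g • a = a).symm.trans hgs.1)
  rcases Int.units_eq_one_or (Perm.sign σ) with hσ | hσ
  · exact ⟨⟨_, stab_le_pairSet a b (e.symm ⟨σ, Perm.mem_alternatingGroup.2 hσ⟩).2⟩, by
      rw [hP _ (e.symm ⟨σ, Perm.mem_alternatingGroup.2 hσ⟩).2]; simp⟩
  · obtain ⟨y, hy⟩ := e.surjective ⟨σ * (ρ ⟨g, Or.inr hgs⟩)⁻¹,
      Perm.mem_alternatingGroup.2 (by rw [map_mul, map_inv, hσ, hgo]; decide)⟩
    refine ⟨⟨y.1, stab_le_pairSet a b y.2⟩ * ⟨g, Or.inr hgs⟩, ?_⟩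
    rw [map_mul, hP ⟨y.1, stab_le_pairSet a b y.2⟩ y.2, congrArg Subtype.val hy]
    exact inv_mul_cancel_right σ _

/-- All the facts used in this case. -/
theorem sType_facts {a b : Ω} (hab : a ≠ b) (hS : ∀ z : G, ¬ IsCentral a b z) :
    Nat.card {u : G // u ∈ doubles G Ω ∧ Swaps u a b} = 10 ∧
    (∀ u : G, u * u = 1 → u ≠ 1 → u ∈ doubles G Ω) ∧
    (∀ t ∈ stabilizer G a ⊓ stabilizer G b, t * t = 1 → t ≠ 1 →
      (∃ r : G, Swaps r a b ∧ r * r = t) ∧
      ∃ τ ∈ doubles G Ω, Swaps τ a b ∧ τ * t = t * τ ∧ ∃ w ∈ stabilizer G a ⊓ stabilizer G b,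
        w * w = 1 ∧ w ≠ 1 ∧ w ≠ t ∧ w * t = t * w ∧ τ * w * τ⁻¹ = w * t) ∧
    ∃ D : Subgroup G, Nonempty (D ≃* DihedralGroup 4) := by
  obtain ⟨ρ, hρ, hsign⟩ := h.exists_sym hi2 hin hi hab hS
  have hsw : ∀ x : ↥(pairSet G a b), Perm.sign (ρ x) = -1 → Swaps x.1 a b := fun x hx =>
    x.2.resolve_left fun h1 => by
      rw [(hsign x).2 ⟨h1.1, h1.2⟩] at hx
      exact absurd hx (by decide)
  have hsw' : ∀ x : ↥(pairSet G a b), Swaps x.1 a b → Perm.sign (ρ x) = -1 := fun x hx =>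
    (Int.units_eq_one_or _).resolve_left fun hh => hab ((((hsign x).1 hh).1 : x.1 • a = a).symm.trans hx.1)
  have hall : ∀ u : G, u * u = 1 → Swaps u a b → u ∈ doubles G Ω := by
    intro u hu hus
    obtain ⟨g, hg, hgs⟩ := h.exists_swap hi2 hin hi hab
    have hm : ∀ (x : G) (hx : Swaps x a b), x * x = 1 → ρ ⟨x, Or.inr hx⟩ ∈ oddInv := fun x hx h2 => by
      simp only [oddInv, Finset.mem_filter, Finset.mem_univ, true_and]
      exact ⟨by rw [← map_mul, ← map_one ρ]; exact congrArg ρ (Subtype.ext h2), hsw' _ hx⟩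
    obtain ⟨c, -, he⟩ := oddInv_conj _ (hm g hgs hg.1) _ (hm u hus hu)
    obtain ⟨d, rfl⟩ := hρ.2 c
    rw [← map_inv, ← map_mul, ← map_mul] at he
    have := doubles_closed g hg d.1
    rwa [show d.1 * g * d.1⁻¹ = u from congrArg Subtype.val (hρ.1 he)] at this
  refine ⟨?_, fun u hu hu1 => ?_, fun t ht ht2 ht1 => ?_, ?_⟩
  · let F : {u : G // u ∈ doubles G Ω ∧ Swaps u a b} → {σ : Perm (Fin 5) // σ ∈ oddInv} := fun u =>
      ⟨ρ ⟨u.1, Or.inr u.2.2⟩, by
        simp only [oddInv, Finset.mem_filter, Finset.mem_univ, true_and]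
        exact ⟨by rw [← map_mul, ← map_one ρ]; exact congrArg ρ (Subtype.ext u.2.1.1), hsw' _ u.2.2⟩⟩
    have hF : Function.Bijective F := by
      refine ⟨fun x y e => ?_, fun σ => ?_⟩
      · have e1 := hρ.1 (congrArg Subtype.val e)
        exact Subtype.ext (congrArg Subtype.val e1 :)
      · obtain ⟨h2, hs⟩ := (Finset.mem_filter.1 σ.2).2
        obtain ⟨x, hx⟩ := hρ.2 σ.1
        rw [← hx, ← map_mul, ← map_one ρ] at h2
        rw [← hx] at hs
        exact ⟨⟨x.1, hall x.1 (congrArg Subtype.val (hρ.1 h2)) (hsw x hs), hsw x hs⟩, Subtype.ext hx⟩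
    rw [Nat.card_congr (Equiv.ofBijective F hF), Nat.card_eq_fintype_card, Fintype.card_coe, card_oddInv]
  · obtain ⟨p, hp⟩ : ∃ p : Ω, u • p ≠ p := by
      by_contra! hh
      exact hu1 (h.faith u hh)
    obtain ⟨g, hga, hgb⟩ := h.move p (u • p) a b hp.symm hab
    have hs := (swaps_invol (x := p) hu).conj (h := g)
    rw [hga, hgb] at hs
    have := doubles_closed _ (hall _ (sq_conj hu g) hs) g⁻¹
    rwa [show g⁻¹ * (g * u * g⁻¹) * g⁻¹⁻¹ = u by group] at this
  · have htm : ρ ⟨t, stab_le_pairSet a b ht⟩ ∈ evenInv := by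
      simp only [evenInv, Finset.mem_filter, Finset.mem_univ, true_and]
      refine ⟨?_, fun e => ?_, (hsign _).2 ht⟩
      · rw [← map_mul, ← map_one ρ]; exact congrArg ρ (Subtype.ext ht2)
      · exact ht1 (congrArg Subtype.val (hρ.1 (e.trans (map_one ρ).symm)))
    obtain ⟨⟨r, hr, hrr⟩, τ, hτ, hτc, w, hw, hwc, hwne, hτw⟩ := evenInv_outer _ htm
    obtain ⟨r', rfl⟩ := hρ.2 r
    obtain ⟨τ', rfl⟩ := hρ.2 τ
    obtain ⟨w', rfl⟩ := hρ.2 w
    rw [← map_mul] at hrr
    refine ⟨⟨r'.1, hsw r' hr, congrArg Subtype.val (hρ.1 hrr)⟩, τ'.1, ?_, hsw τ' (Finset.mem_filter.1 hτ).2.2, ?_,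
      w'.1, (hsign w').1 (Finset.mem_filter.1 hw).2.2.2, ?_, fun e => (Finset.mem_filter.1 hw).2.2.1 ?_,
      fun e => hwne (congrArg ρ (Subtype.ext e)), ?_, ?_⟩
    · refine hall τ'.1 ?_ (hsw τ' (Finset.mem_filter.1 hτ).2.2)
      have := (Finset.mem_filter.1 hτ).2.1
      rw [← map_mul, ← map_one ρ] at this
      exact congrArg Subtype.val (hρ.1 this)
    · rw [← map_mul, ← map_mul] at hτc
      exact congrArg Subtype.val (hρ.1 hτc)
    · have := (Finset.mem_filter.1 hw).2.1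
      rw [← map_mul, ← map_one ρ] at this
      exact congrArg Subtype.val (hρ.1 this)
    · rw [show w' = 1 from Subtype.ext e, map_one]
    · rw [← map_mul, ← map_mul] at hwc
      exact congrArg Subtype.val (hρ.1 hwc)
    · rw [← map_inv, ← map_mul, ← map_mul, ← map_mul] at hτw
      exact congrArg Subtype.val (hρ.1 hτw)
  · obtain ⟨r, s, hr4, hr2, hs2, hsr, hs1, hsne⟩ := exists_dihedral_gens
    obtain ⟨r', rfl⟩ := hρ.2 r
    obtain ⟨s', rfl⟩ := hρ.2 s
    have hs2' : s' * s' = 1 := hρ.1 (by rw [map_mul, map_one]; exact hs2)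
    have hsr' : s' * r' * s'⁻¹ = r'⁻¹ := hρ.1 (by rw [map_mul, map_mul, map_inv, map_inv]; exact hsr)
    have hr4' : r' ^ 4 = 1 := hρ.1 (by rw [map_pow, map_one]; exact hr4)
    have hr2' : r' ^ 2 ≠ 1 := fun e => hr2 (by rw [← map_pow, e, map_one])
    have hs1' : s' ≠ 1 := fun e => hs1 (by rw [e, map_one])
    have hord : orderOf r'.1 = 4 := by
      rw [orderOf_coe]
      refine orderOf_eq_of_pow_and_pow_div_prime (by norm_num) hr4' fun p hp hd => ?_
      obtain rfl : p = 2 := (Nat.prime_dvd_prime_iff_eq hp Nat.prime_two).1 (hp.dvd_of_dvd_pow (n := 2) hd)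
      exact hr2'
    have hb2 : s' * r' * (s' * r') = 1 := by
      have : s' * r' * s' = r'⁻¹ := by rw [← hsr', inv_eq_of_mul_eq_one_right hs2']
      rw [← mul_assoc, this, inv_mul_cancel]
    have hb1 : s' * r' ≠ 1 := fun e => hr2' (by
      have : r' = s' := by rw [← inv_eq_of_mul_eq_one_right e, inv_eq_of_mul_eq_one_right hs2']
      rw [this, pow_two, hs2'])
    have hne : s'.1 ≠ (s' * r').1 := fun e => hr2' (by
      rw [mul_eq_left.1 (Subtype.ext e.symm : s' * r' = s'), one_pow])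
    obtain ⟨d⟩ := InvolCalc.exists_dihedral_equiv (x := s'.1) (y := (s' * r').1)
      (InvolCalc.order_two_of_mul_self (congrArg Subtype.val hs2') fun e => hs1' (Subtype.ext e))
      (InvolCalc.order_two_of_mul_self (congrArg Subtype.val hb2) fun e => hb1 (Subtype.ext e)) hne
    have he : orderOf (s'.1 * (s' * r').1) = 4 := by
      rw [Subgroup.coe_mul, ← mul_assoc, show s'.1 * s'.1 = 1 from congrArg Subtype.val hs2', one_mul, hord]
    rw [he] at d
    exact ⟨_, ⟨d⟩⟩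

end TwoA5

end Cfsg.Lib.TwoPointFive
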