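import Cfsg.Agent.TwoPointFive.A5
import Cfsg.Agent.TwoPointFive.HalfEven
import Cfsg.Agent.InvolCalc.Dihedral

/-!
Doubly transitive groups with two-point stabiliser `A₅`: the first facts (row 3262).
-/

set_option autoImplicit false
set_option linter.unusedSectionVars false
set_option linter.style.haveILetI false

namespace Cfsg.Lib.TwoPointFive

open MulAction Subgroup Equiv
open scoped commutatorElement

universe u v

variable {G : Type u} {Ω : Type v} [Group G] [Finite G] [Finite Ω] [MulAction G Ω]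

/-- The hypotheses of row 3262. -/
structure TwoA5 (G : Type u) (Ω : Type v) [Group G] [MulAction G Ω] : Prop extends Pairs G Ω where
  faith : ∀ g : G, (∀ p : Ω, g • p = p) → g = 1
  iso : ∀ a b : Ω, a ≠ b → Nonempty (↥(stabilizer G a ⊓ stabilizer G b) ≃* alternatingGroup (Fin 5))
  nr : ∀ N : Subgroup G, N.Normal → MulAction.IsPretransitive ↥N Ω →
    (∀ x : Ω, MulAction.stabilizer ↥N x = ⊥) → False
  two : 2 ≤ Nat.card Ω

/-- An involution centralising the two-point stabiliser of a pair it exchanges. -/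
def IsCentral (a b : Ω) (z : G) : Prop :=
  Swaps z a b ∧ z * z = 1 ∧ ∀ h ∈ stabilizer G a ⊓ stabilizer G b, z * h = h * z

/-- The elements permuting a pair of points. -/
def pairSet (G : Type u) [Group G] [MulAction G Ω] (a b : Ω) : Subgroup G where
  carrier := {g | (g • a = a ∧ g • b = b) ∨ Swaps g a b}
  one_mem' := Or.inl ⟨one_smul G a, one_smul G b⟩
  mul_mem' := by
    rintro x y (⟨hx1, hx2⟩ | ⟨hx1, hx2⟩) (⟨hy1, hy2⟩ | ⟨hy1, hy2⟩)
    · exact Or.inl ⟨by rw [mul_smul, hy1, hx1], by rw [mul_smul, hy2, hx2]⟩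
    · exact Or.inr ⟨by rw [mul_smul, hy1, hx2], by rw [mul_smul, hy2, hx1]⟩
    · exact Or.inr ⟨by rw [mul_smul, hy1, hx1], by rw [mul_smul, hy2, hx2]⟩
    · exact Or.inl ⟨by rw [mul_smul, hy1, hx2], by rw [mul_smul, hy2, hx1]⟩
  inv_mem' := by
    rintro x (⟨hx1, hx2⟩ | ⟨hx1, hx2⟩)
    · exact Or.inl ⟨inv_smul_eq_iff.2 hx1.symm, inv_smul_eq_iff.2 hx2.symm⟩
    · exact Or.inr ⟨inv_smul_eq_iff.2 hx2.symm, inv_smul_eq_iff.2 hx1.symm⟩

omit [Finite G] [Finite Ω] in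
theorem stab_le_pairSet (a b : Ω) : stabilizer G a ⊓ stabilizer G b ≤ pairSet G a b := fun _ hg => Or.inl ⟨hg.1, hg.2⟩

omit [Finite G] [Finite Ω] in
theorem pairSet_normalises {a b : Ω} {x : G} (hx : x ∈ pairSet G a b) :
    ∀ g ∈ stabilizer G a ⊓ stabilizer G b, x * g * x⁻¹ ∈ stabilizer G a ⊓ stabilizer G b := by
  intro g hg
  have hga : g • a = a := hg.1
  have hgb : g • b = b := hg.2
  rcases hx with ⟨h1, h2⟩ | ⟨h1, h2⟩
  · exact ⟨show (x * g * x⁻¹) • a = a by rw [mul_smul, inv_smul_eq_iff.2 h1.symm, mul_smul, hga, h1],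
      show (x * g * x⁻¹) • b = b by rw [mul_smul, inv_smul_eq_iff.2 h2.symm, mul_smul, hgb, h2]⟩
  · exact ⟨show (x * g * x⁻¹) • a = a by rw [mul_smul, inv_smul_eq_iff.2 h2.symm, mul_smul, hgb, h2],
      show (x * g * x⁻¹) • b = b by rw [mul_smul, inv_smul_eq_iff.2 h1.symm, mul_smul, hga, h1]⟩

omit [Finite G] [Finite Ω] in
theorem fixed_maps (u : G) : ∀ g ∈ Subgroup.centralizer ({u} : Set G), ∀ p ∈ fixedBy Ω u, g • p ∈ fixedBy Ω u :=
  fun g hg p hp => by
    rw [mem_fixedBy] at hp ⊢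
    rw [smul_smul, ← Subgroup.mem_centralizer_singleton_iff.1 hg, ← smul_smul, hp]

namespace TwoA5

variable (h : TwoA5 G Ω)
include h

theorem nontrivial : Nontrivial Ω := Finite.one_lt_card_iff_nontrivial.1 h.two

theorem exists_perm {a b : Ω} (hab : a ≠ b) : ∃ f : ↥(stabilizer G a ⊓ stabilizer G b) →* Perm (Fin 5),
    Function.Injective f ∧ (∀ x, Perm.sign (f x) = 1) ∧ ∀ σ : Perm (Fin 5), Perm.sign σ = 1 → ∃ x, f x = σ := by
  obtain ⟨e⟩ := h.iso a b hab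
  exact ⟨(alternatingGroup (Fin 5)).subtype.comp e.toMonoidHom, Subtype.val_injective.comp e.injective,
    fun x => Perm.mem_alternatingGroup.1 (e x).2, fun σ hσ => ⟨e.symm ⟨σ, Perm.mem_alternatingGroup.2 hσ⟩, by simp⟩⟩

theorem pair_invol_conj {a b : Ω} (hab : a ≠ b) {x y : G} (hx : x ∈ stabilizer G a ⊓ stabilizer G b)
    (hy : y ∈ stabilizer G a ⊓ stabilizer G b) (hx2 : x * x = 1) (hy2 : y * y = 1) (hx1 : x ≠ 1) (hy1 : y ≠ 1) :
    ∃ c ∈ stabilizer G a ⊓ stabilizer G b, c * x * c⁻¹ = y := by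
  obtain ⟨f, hf, hs, hr⟩ := h.exists_perm hab
  have hmem : ∀ (z : G) (hz : z ∈ stabilizer G a ⊓ stabilizer G b), z * z = 1 → z ≠ 1 → f ⟨z, hz⟩ ∈ evenInv := by
    intro z hz h2 h1
    simp only [evenInv, Finset.mem_filter, Finset.mem_univ, true_and]
    refine ⟨?_, fun e => h1 ?_, hs _⟩
    · rw [← map_mul, show (⟨z, hz⟩ : ↥(stabilizer G a ⊓ stabilizer G b)) * ⟨z, hz⟩ = 1 from Subtype.ext h2, map_one]
    · exact congrArg Subtype.val (hf (e.trans (map_one f).symm))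
  obtain ⟨c, hc, he⟩ := evenInv_conj _ (hmem x hx hx2 hx1) _ (hmem y hy hy2 hy1)
  obtain ⟨d, rfl⟩ := hr c (Finset.mem_filter.1 hc).2
  rw [← map_inv, ← map_mul, ← map_mul] at he
  exact ⟨d.1, d.2, congrArg Subtype.val (hf he)⟩

theorem pair_cent {a b : Ω} (hab : a ≠ b) {x : G} (hx : x ∈ stabilizer G a ⊓ stabilizer G b) (hx2 : x * x = 1)
    (hx1 : x ≠ 1) :
    (∀ y ∈ stabilizer G a ⊓ stabilizer G b, y * x = x * y → y * y = 1) ∧
      Nat.card ↥((stabilizer G a ⊓ stabilizer G b) ⊓ centralizer ({x} : Set G)) = 4 := by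
  obtain ⟨f, hf, hs, hr⟩ := h.exists_perm hab
  have hm : f ⟨x, hx⟩ ∈ evenInv := by
    simp only [evenInv, Finset.mem_filter, Finset.mem_univ, true_and]
    refine ⟨?_, fun e => hx1 ?_, hs _⟩
    · rw [← map_mul, show (⟨x, hx⟩ : ↥(stabilizer G a ⊓ stabilizer G b)) * ⟨x, hx⟩ = 1 from Subtype.ext hx2, map_one]
    · exact congrArg Subtype.val (hf (e.trans (map_one f).symm))
  obtain ⟨h4, hsq⟩ := evenInv_cent _ hm
  refine ⟨fun y hy hc => ?_, ?_⟩
  · have := hsq (f ⟨y, hy⟩) (by simp [evenAll, hs])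
      (by rw [← map_mul, ← map_mul]; exact congrArg f (Subtype.ext hc))
    rw [← map_mul, ← map_one f] at this
    exact congrArg Subtype.val (hf this)
  · let F : ↥((stabilizer G a ⊓ stabilizer G b) ⊓ centralizer ({x} : Set G)) →
        {σ : Perm (Fin 5) // σ ∈ evenAll.filter fun y => y * f ⟨x, hx⟩ = f ⟨x, hx⟩ * y} := fun y =>
      ⟨f ⟨y.1, y.2.1⟩, Finset.mem_filter.2 ⟨by simp [evenAll, hs], by
        rw [← map_mul, ← map_mul]
        exact congrArg f (Subtype.ext (mem_centralizer_singleton_iff.1 y.2.2))⟩⟩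
    have hF : Function.Bijective F := by
      refine ⟨fun y y' e => ?_, fun σ => ?_⟩
      · have e1 := hf (congrArg Subtype.val e)
        simp only [Subtype.mk.injEq] at e1
        exact Subtype.ext e1
      obtain ⟨h1, h2⟩ := Finset.mem_filter.1 σ.2
      obtain ⟨y, hy⟩ := hr σ.1 (Finset.mem_filter.1 h1).2
      rw [← hy, ← map_mul, ← map_mul] at h2
      exact ⟨⟨y.1, y.2, mem_centralizer_singleton_iff.2 (congrArg Subtype.val (hf h2))⟩, Subtype.ext hy⟩
    rw [Nat.card_congr (Equiv.ofBijective F hF), Nat.card_eq_fintype_card, Fintype.card_coe, h4]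

theorem pair_center {a b : Ω} (hab : a ≠ b) {z : G} (hz : z ∈ stabilizer G a ⊓ stabilizer G b)
    (hc : ∀ y ∈ stabilizer G a ⊓ stabilizer G b, z * y = y * z) : z = 1 := by
  obtain ⟨f, hf, hs, hr⟩ := h.exists_perm hab
  have := evenAll_center (f ⟨z, hz⟩) (by simp [evenAll, hs]) fun y hy => by
    obtain ⟨y', rfl⟩ := hr y (Finset.mem_filter.1 hy).2.2.2
    rw [← map_mul, ← map_mul]
    exact congrArg f (Subtype.ext (hc y'.1 y'.2))
  rw [← map_one f] at this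
  exact congrArg Subtype.val (hf this)

theorem card_pair_invol {a b : Ω} (hab : a ≠ b) :
    Nat.card {x : G // x ∈ stabilizer G a ⊓ stabilizer G b ∧ x * x = 1 ∧ x ≠ 1} = 15 := by
  obtain ⟨f, hf, hs, hr⟩ := h.exists_perm hab
  let F : {x : G // x ∈ stabilizer G a ⊓ stabilizer G b ∧ x * x = 1 ∧ x ≠ 1} → {σ : Perm (Fin 5) // σ ∈ evenInv} :=
    fun x => ⟨f ⟨x.1, x.2.1⟩, by
      simp only [evenInv, Finset.mem_filter, Finset.mem_univ, true_and]
      refine ⟨?_, fun e => x.2.2.2 (congrArg Subtype.val (hf (e.trans (map_one f).symm))), hs _⟩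
      rw [← map_mul, show (⟨x.1, x.2.1⟩ : ↥(stabilizer G a ⊓ stabilizer G b)) * ⟨x.1, x.2.1⟩ = 1 from
        Subtype.ext x.2.2.1, map_one]⟩
  have hF : Function.Bijective F := by
    refine ⟨fun y y' e => ?_, fun σ => ?_⟩
    · have e1 := hf (congrArg Subtype.val e)
      simp only [Subtype.mk.injEq] at e1
      exact Subtype.ext e1
    obtain ⟨h2, h1, h3⟩ := (Finset.mem_filter.1 σ.2).2
    obtain ⟨y, hy⟩ := hr σ.1 h3
    refine ⟨⟨y.1, y.2, ?_, fun e => h1 ?_⟩, Subtype.ext hy⟩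
    · rw [← hy, ← map_mul, ← map_one f] at h2
      exact congrArg Subtype.val (hf h2)
    · rw [← hy, show y = 1 from Subtype.ext e, map_one]
  rw [Nat.card_congr (Equiv.ofBijective F hF), Nat.card_eq_fintype_card, Fintype.card_coe, card_evenInv]

theorem card_pair {a b : Ω} (hab : a ≠ b) : Nat.card ↥(stabilizer G a ⊓ stabilizer G b) = 60 := by
  obtain ⟨e⟩ := h.iso a b hab
  rw [Nat.card_congr e.toEquiv, nat_card_alternatingGroup, Nat.card_eq_fintype_card, Fintype.card_fin]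
  rfl

theorem card_G : Nat.card G = Nat.card Ω * (Nat.card Ω - 1) * 60 := by
  haveI := h.nontrivial
  obtain ⟨a, b, hab⟩ := exists_pair_ne Ω
  rw [h.card_group hab, h.card_pair hab]

theorem doubles_conj {u u' : G} (hu : u ∈ doubles G Ω) (hu' : u' ∈ doubles G Ω) : ∃ g : G, g * u * g⁻¹ = u' := by
  obtain ⟨a, b, hab, ha, hb⟩ := exists_two_fixed hu
  obtain ⟨c, d, hcd, hc, hd⟩ := exists_two_fixed hu'
  obtain ⟨g, hga, hgb⟩ := h.move a b c d hab hcd
  obtain ⟨k, -, hk⟩ := h.pair_invol_conj hcd (x := g * u * g⁻¹) (y := u')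
    ⟨show (g * u * g⁻¹) • c = c by rw [← hga, mul_smul, inv_smul_smul, mul_smul, ha],
      show (g * u * g⁻¹) • d = d by rw [← hgb, mul_smul, inv_smul_smul, mul_smul, hb]⟩
    ⟨hc, hd⟩ (sq_conj hu.1 g) hu'.1 (fun e => hu.2.1 (conj_eq_one_iff.1 e)) hu'.2.1
  exact ⟨k * g, by rw [← hk]; group⟩

/-- The elements centralising `u` move pairs of fixed points freely. -/
theorem cent_move {u : G} (hu : u ∈ doubles G Ω) {a b c d : Ω} (hab : a ≠ b) (hcd : c ≠ d) (ha : u • a = a)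
    (hb : u • b = b) (hc : u • c = c) (hd : u • d = d) :
    ∃ g ∈ centralizer ({u} : Set G), g • a = c ∧ g • b = d := by
  obtain ⟨g, hga, hgb⟩ := h.move a b c d hab hcd
  obtain ⟨k, hk, he⟩ := h.pair_invol_conj hcd (x := g * u * g⁻¹) (y := u)
    ⟨show (g * u * g⁻¹) • c = c by rw [← hga, mul_smul, inv_smul_smul, mul_smul, ha],
      show (g * u * g⁻¹) • d = d by rw [← hgb, mul_smul, inv_smul_smul, mul_smul, hb]⟩
    ⟨hc, hd⟩ (sq_conj hu.1 g) hu.1 (fun e => hu.2.1 (conj_eq_one_iff.1 e)) hu.2.1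
  refine ⟨k * g, mem_centralizer_singleton_iff.2 (mul_inv_eq_iff_eq_mul.1 ?_), ?_, ?_⟩
  · conv_rhs => rw [← he]
    group
  · rw [mul_smul, hga]; exact hk.1
  · rw [mul_smul, hgb]; exact hk.2

theorem exists_double {a b : Ω} (hab : a ≠ b) :
    ∃ t ∈ doubles G Ω, t ∈ stabilizer G a ⊓ stabilizer G b := by
  have h15 := h.card_pair_invol hab
  obtain ⟨⟨t, ht, ht2, ht1⟩⟩ := (Nat.card_pos_iff.1 (by rw [h15]; norm_num) :
    Nonempty {x : G // x ∈ stabilizer G a ⊓ stabilizer G b ∧ x * x = 1 ∧ x ≠ 1} ∧ _).1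
  exact ⟨t, ⟨ht2, ht1, two_le_fixed hab ht.1 ht.2⟩, ht⟩

/-- The common number of fixed points. -/
theorem exists_i : ∃ i : ℕ, 2 ≤ i ∧ i < Nat.card Ω ∧ ∀ u ∈ doubles G Ω, Nat.card (fixedBy Ω u) = i := by
  haveI := h.nontrivial
  obtain ⟨a, b, hab⟩ := exists_pair_ne Ω
  obtain ⟨u, hu, -⟩ := h.exists_double hab
  refine ⟨Nat.card (fixedBy Ω u), hu.2.2, ?_, fun u' hu' => ?_⟩
  · have h1 := card_moved (Φ := Ω) u
    by_contra hle
    have h0 : Nat.card {x : Ω // u • x ≠ x} = 0 := by omega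
    rw [Nat.card_eq_zero, or_iff_left (not_infinite_iff_finite.2 inferInstance)] at h0
    exact hu.2.1 (h.faith u fun p => not_not.1 fun hp => h0.false ⟨p, hp⟩)
  · obtain ⟨g, rfl⟩ := h.doubles_conj hu hu'
    exact card_fixedBy_conj u g

variable {i : ℕ} (hi2 : 2 ≤ i) (hin : i < Nat.card Ω) (hi : ∀ u ∈ doubles G Ω, Nat.card (fixedBy Ω u) = i)
include hi2 hin hi

omit hi2 hin in
theorem card_fixers {a b : Ω} (hab : a ≠ b) :
    Nat.card (doubles G Ω) * (i * (i - 1)) = 15 * (Nat.card Ω * (Nat.card Ω - 1)) := by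
  rw [h.count_fixes (doubles G Ω) doubles_closed (fun u hu => hu.1) i hi hab, ← h.card_pair_invol hab]
  congr 1
  exact Nat.card_congr (Equiv.subtypeEquivRight fun x =>
    ⟨fun hx => ⟨⟨hx.2.1, hx.2.2⟩, hx.1.1, hx.1.2.1⟩,
      fun hx => ⟨⟨hx.2.1, hx.2.2, two_le_fixed hab hx.1.1 hx.1.2⟩, hx.1.1, hx.1.2⟩⟩)

omit hi2 hin in
/-- The fundamental equation. -/
theorem eq_count {a b : Ω} (hab : a ≠ b) {m : ℕ} (hm : Nat.card {u : G // u ∈ doubles G Ω ∧ Swaps u a b} = m) :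
    15 * (Nat.card Ω - i) = m * (i * (i - 1)) := by
  obtain ⟨u, hu, -⟩ := h.exists_double hab
  have h1 := h.count_swaps (doubles G Ω) doubles_closed (fun u hu => hu.1) i hi hab
  have h2 := h.card_fixers hi hab
  rw [hm] at h1
  refine Nat.eq_of_mul_eq_mul_left (Nat.card_pos_iff.2 ⟨⟨⟨u, hu⟩⟩, inferInstance⟩ : 0 < Nat.card (doubles G Ω)) ?_
  calc Nat.card (doubles G Ω) * (15 * (Nat.card Ω - i))
      = 15 * (Nat.card (doubles G Ω) * (Nat.card Ω - i)) := by ring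
    _ = m * (15 * (Nat.card Ω * (Nat.card Ω - 1))) := by rw [h1]; ring
    _ = _ := by rw [← h2]; ring

theorem exists_swap {a b : Ω} (hab : a ≠ b) : ∃ s ∈ doubles G Ω, Swaps s a b := by
  by_contra! hno
  haveI : IsEmpty {u : G // u ∈ doubles G Ω ∧ Swaps u a b} := ⟨fun x => hno x.1 x.2.1 x.2.2⟩
  have := h.eq_count hi hab (m := 0) Nat.card_of_isEmpty
  omega

omit hi2 hin in
theorem card_cent {t : G} (ht : t ∈ doubles G Ω) :
    Nat.card (centralizer ({t} : Set G)) = 4 * (i * (i - 1)) := by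
  obtain ⟨a, b, hab, ha, hb⟩ := exists_two_fixed ht
  letI : MulAction ↥(centralizer ({t} : Set G)) ↥(fixedBy Ω t) :=
    MulAction.compHom _ (restrictHom (centralizer ({t} : Set G)) (fixedBy Ω t) (fixed_maps t))
  have hp : Pairs ↥(centralizer ({t} : Set G)) ↥(fixedBy Ω t) := ⟨fun x y z w hxy hzw => by
    obtain ⟨g, hg, h1, h2⟩ := h.cent_move ht (fun e => hxy (Subtype.ext e)) (fun e => hzw (Subtype.ext e))
      x.2 y.2 z.2 w.2
    exact ⟨⟨g, hg⟩, Subtype.ext h1, Subtype.ext h2⟩⟩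
  rw [hp.card_group (a := ⟨a, ha⟩) (b := ⟨b, hb⟩) (fun e => hab (congrArg Subtype.val e)), hi t ht,
    mul_comm 4]
  congr 1
  rw [← (h.pair_cent hab ⟨ha, hb⟩ ht.1 ht.2.1).2]
  refine Nat.card_congr
    { toFun := fun x => ⟨x.1.1, ⟨congrArg Subtype.val x.2.1, congrArg Subtype.val x.2.2⟩, x.1.2⟩
      invFun := fun x => ⟨⟨x.1, x.2.2⟩, Subtype.ext x.2.1.1, Subtype.ext x.2.1.2⟩
      left_inv := fun _ => rfl
      right_inv := fun _ => rfl }

omit hi2 hin in
/-- The involutions exchanging a pair when one of them is central. -/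
theorem central_swappers {a b : Ω} (hab : a ≠ b) {z : G} (hz : IsCentral a b z) :
    ∃ m₀ m₁ : ℕ, Nat.card {u : G // u ∈ doubles G Ω ∧ Swaps u a b} = m₀ + m₁ ∧
      ((z ∈ doubles G Ω ∧ m₀ = 1) ∨ (z ∉ doubles G Ω ∧ m₀ = 0)) ∧
      (((∀ x ∈ stabilizer G a ⊓ stabilizer G b, x * x = 1 → x ≠ 1 → z * x ∈ doubles G Ω) ∧ m₁ = 15) ∨
        ((∀ x ∈ stabilizer G a ⊓ stabilizer G b, x * x = 1 → x ≠ 1 → z * x ∉ doubles G Ω) ∧ m₁ = 0)) := by
  classical
  haveI := Fintype.ofFinite G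
  obtain ⟨hzs, hz2, hzc⟩ := hz
  have hzab : ∀ x ∈ stabilizer G a ⊓ stabilizer G b, Swaps (z * x) a b := fun x hx =>
    ⟨by rw [mul_smul, show x • a = a from hx.1, hzs.1], by rw [mul_smul, show x • b = b from hx.2, hzs.2]⟩
  have hdec : ∀ u : G, u * u = 1 → Swaps u a b → ∃ x ∈ stabilizer G a ⊓ stabilizer G b, x * x = 1 ∧ u = z * x := by
    intro u hu hus
    have hx : z * u ∈ stabilizer G a ⊓ stabilizer G b :=
      ⟨show (z * u) • a = a by rw [mul_smul, hus.1, hzs.2], show (z * u) • b = b by rw [mul_smul, hus.2, hzs.1]⟩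
    refine ⟨z * u, hx, ?_, by rw [← mul_assoc, hz2, one_mul]⟩
    have hcu : z * u = u * z := by
      have h1 := hzc _ hx
      rw [← mul_assoc, hz2, one_mul, mul_assoc] at h1
      calc z * u = z * (z * (u * z)) := by rw [← h1]
        _ = u * z := by rw [← mul_assoc, hz2, one_mul]
    calc z * u * (z * u) = z * u * (u * z) := by rw [hcu]
      _ = z * (u * u) * z := by group
      _ = 1 := by rw [hu, mul_one, hz2]
  set U := {u : G // u ∈ doubles G Ω ∧ Swaps u a b}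
  let S₀ : Finset G := Finset.univ.filter fun u => u ∈ doubles G Ω ∧ u = z
  let S₁ : Finset G := Finset.univ.filter fun u =>
    u ∈ doubles G Ω ∧ ∃ x ∈ stabilizer G a ⊓ stabilizer G b, x * x = 1 ∧ x ≠ 1 ∧ u = z * x
  have hU : Nat.card U = (S₀ ∪ S₁).card := by
    rw [Nat.card_eq_fintype_card, Fintype.card_subtype]
    congr 1
    ext u
    simp only [S₀, S₁, Finset.mem_union, Finset.mem_filter, Finset.mem_univ, true_and]
    refine ⟨fun hu => ?_, fun hu => ?_⟩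
    · obtain ⟨x, hx, hx2, rfl⟩ := hdec u hu.1.1 hu.2
      rcases eq_or_ne x 1 with rfl | hx1
      · exact Or.inl ⟨hu.1, mul_one z⟩
      · exact Or.inr ⟨hu.1, x, hx, hx2, hx1, rfl⟩
    · rcases hu with ⟨hu, rfl⟩ | ⟨hu, x, hx, -, -, rfl⟩
      · exact ⟨hu, hzs⟩
      · exact ⟨hu, hzab x hx⟩
  have hd : Disjoint S₀ S₁ := Finset.disjoint_filter.2 fun u _ hu hu' => by
    obtain ⟨-, x, -, -, hx1, hux⟩ := hu'
    rw [hu.2] at hux
    exact hx1 (left_eq_mul.1 hux)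
  refine ⟨S₀.card, S₁.card, by rw [hU, Finset.card_union_of_disjoint hd], ?_, ?_⟩
  · by_cases hzd : z ∈ doubles G Ω
    · exact Or.inl ⟨hzd, Finset.card_eq_one.2 ⟨z, by ext u; simp [S₀]; rintro rfl; exact hzd⟩⟩
    · exact Or.inr ⟨hzd, Finset.card_eq_zero.2 (Finset.filter_eq_empty_iff.2 fun u _ hu => hzd (hu.2 ▸ hu.1))⟩
  · by_cases hall : ∀ x ∈ stabilizer G a ⊓ stabilizer G b, x * x = 1 → x ≠ 1 → z * x ∈ doubles G Ω
    · refine Or.inl ⟨hall, ?_⟩
      rw [← h.card_pair_invol hab, Nat.card_eq_fintype_card]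
      refine (Finset.card_bij (fun x _ => z * x.1) (fun x _ => ?_) (fun x _ y _ e => Subtype.ext (mul_left_cancel e))
        fun u hu => ?_).symm
      · simp only [S₁, Finset.mem_filter, Finset.mem_univ, true_and]
        exact ⟨hall x.1 x.2.1 x.2.2.1 x.2.2.2, x.1, x.2.1, x.2.2.1, x.2.2.2, rfl⟩
      · obtain ⟨-, -, x, hx, hx2, hx1, rfl⟩ := Finset.mem_filter.1 hu
        exact ⟨⟨x, hx, hx2, hx1⟩, Finset.mem_univ _, rfl⟩
    · refine Or.inr ⟨fun x hx hx2 hx1 hxd => hall fun y hy hy2 hy1 => ?_, Finset.card_eq_zero.2 ?_⟩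
      · obtain ⟨c, hc, rfl⟩ := h.pair_invol_conj hab hx hy hx2 hy2 hx1 hy1
        have := doubles_closed _ hxd c
        rwa [show c * (z * x) * c⁻¹ = c * z * (x * c⁻¹) by group, ← hzc c hc,
          show z * c * (x * c⁻¹) = z * (c * x * c⁻¹) by group] at this
      · refine Finset.filter_eq_empty_iff.2 fun u _ hu => hall fun y hy hy2 hy1 => ?_
        obtain ⟨hu, x, hx, hx2, hx1, rfl⟩ := hu
        obtain ⟨c, hc, rfl⟩ := h.pair_invol_conj hab hx hy hx2 hy2 hx1 hy1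
        have := doubles_closed _ hu c
        rwa [show c * (z * x) * c⁻¹ = c * z * (x * c⁻¹) by group, ← hzc c hc,
          show z * c * (x * c⁻¹) = z * (c * x * c⁻¹) by group] at this

/-- A minimal normal subgroup would be regular if soluble. -/
theorem no_abelian_normal (A : Subgroup G) (hA : A.Normal) (hc : ∀ x ∈ A, ∀ y ∈ A, x * y = y * x) : A = ⊥ := by
  by_contra hne
  haveI := hA
  haveI := h.nontrivial
  have hpt : MulAction.IsPretransitive G Ω := ⟨fun x y => by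
    obtain ⟨x', hx⟩ := _root_.exists_ne x
    obtain ⟨y', hy⟩ := _root_.exists_ne y
    obtain ⟨g, hg, -⟩ := h.move x x' y y' hx.symm hy.symm
    exact ⟨g, hg⟩⟩
  obtain ⟨n₀, hn₀, hn1⟩ := (Subgroup.bot_or_exists_ne_one A).resolve_left hne
  obtain ⟨a, ha⟩ : ∃ a : Ω, n₀ • a ≠ a := by
    by_contra! hh
    exact hn1 (h.faith n₀ hh)
  have htr : ∀ p q : Ω, ∃ g ∈ A, g • p = q := by
    have h1 : ∀ q : Ω, ∃ g ∈ A, g • a = q := fun q => by
      rcases eq_or_ne a q with rfl | hq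
      · exact ⟨1, A.one_mem, one_smul G a⟩
      · obtain ⟨c, hc1, hc2⟩ := h.move a (n₀ • a) a q ha.symm hq
        refine ⟨c * n₀ * c⁻¹, hA.conj_mem n₀ hn₀ c, ?_⟩
        rw [mul_smul, inv_smul_eq_iff.2 hc1.symm, mul_smul, hc2]
    intro p q
    obtain ⟨g, hg, rfl⟩ := h1 p
    obtain ⟨g', hg', rfl⟩ := h1 q
    exact ⟨g' * g⁻¹, A.mul_mem hg' (A.inv_mem hg), by rw [mul_smul, inv_smul_smul]⟩
  refine h.nr A hA ⟨fun p q => ?_⟩ fun x => (Subgroup.eq_bot_iff_forall _).2 fun g hg => ?_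
  · obtain ⟨g, hg, e⟩ := htr p q
    exact ⟨⟨g, hg⟩, e⟩
  · refine Subtype.ext (h.faith g.1 fun p => ?_)
    obtain ⟨k, hk, rfl⟩ := htr x p
    rw [smul_smul, hc g.1 g.2 k hk, mul_smul]
    exact congrArg (k • ·) (hg : (g : G) • x = x)

theorem no_solvable_normal (N : Subgroup G) (hN : N.Normal) [Group.IsSolvable N] : N = ⊥ := by
  haveI := hN
  by_contra hne
  have hex : ∃ n, derivedSeries ↥N n = ⊥ := Group.IsSolvable.solvable
  classical
  obtain ⟨n, hn, hmin⟩ : ∃ n, derivedSeries ↥N n = ⊥ ∧ ∀ j, j < n → derivedSeries ↥N j ≠ ⊥ :=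
    ⟨Nat.find hex, Nat.find_spec hex, fun j hj => Nat.find_min hex hj⟩
  rcases n with _ | n
  · rw [derivedSeries_zero] at hn
    exact hne ((Subgroup.eq_bot_iff_forall _).2 fun x hx => congrArg Subtype.val
      ((Subgroup.eq_bot_iff_forall _).1 hn (⟨x, hx⟩ : ↥N) (mem_top _)))
  · have hA := h.no_abelian_normal hi2 hin hi ((derivedSeries ↥N n).map N.subtype) inferInstance (by
      rintro _ ⟨x, hx, rfl⟩ _ ⟨y, hy, rfl⟩
      have hm : ⁅(x : ↥N), y⁆ ∈ derivedSeries ↥N (n + 1) := by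
        rw [derivedSeries_succ]
        exact commutator_mem_commutator hx hy
      rw [hn, Subgroup.mem_bot, commutatorElement_eq_one_iff_mul_comm] at hm
      rw [← map_mul, ← map_mul, hm])
    rw [Subgroup.map_eq_bot_iff_of_injective _ N.subtype_injective] at hA
    exact hmin n (Nat.lt_succ_self n) hA

end TwoA5

end Cfsg.Lib.TwoPointFive
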