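import Cfsg.Agent.TwoPointFive.Count

/-!
The involutions of a sharply two-transitive action, by counting alone (row 3262).
-/

set_option autoImplicit false
set_option linter.unusedSectionVars false
set_option linter.style.haveILetI false

namespace Cfsg.Lib.TwoPointFive

open MulAction

universe u v

variable {X : Type u} {Φ : Type v} [Group X] [Finite X] [Finite Φ] [MulAction X Φ]

/-- The group is sharply transitive on ordered pairs. -/
structure Sharp (X : Type u) (Φ : Type v) [Group X] [MulAction X Φ] : Prop extends Pairs X Φ where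
  triv : ∀ (g : X) (a b : Φ), a ≠ b → g • a = a → g • b = b → g = 1
  two : 2 ≤ Nat.card Φ

namespace Sharp

variable (h : Sharp X Φ)
include h

theorem exists_pair : ∃ a b : Φ, a ≠ b := by
  haveI : Nontrivial Φ := Finite.one_lt_card_iff_nontrivial.1 h.two
  exact exists_pair_ne Φ

theorem exists_ne (a : Φ) : ∃ b : Φ, b ≠ a := by
  haveI : Nontrivial Φ := Finite.one_lt_card_iff_nontrivial.1 h.two
  exact _root_.exists_ne a

theorem swap_unique {g s : X} {a b : Φ} (hab : a ≠ b) (hg : Swaps g a b) (hs : Swaps s a b) : g = s :=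
  (inv_mul_eq_one.1 (h.triv (s⁻¹ * g) a b hab (by rw [mul_smul, hg.1, inv_smul_eq_iff, hs.1])
    (by rw [mul_smul, hg.2, inv_smul_eq_iff, hs.2]))).symm

theorem exists_swap {a b : Φ} (hab : a ≠ b) : ∃ s : X, s * s = 1 ∧ s ≠ 1 ∧ Swaps s a b := by
  obtain ⟨s, h1, h2⟩ := h.move a b b a hab hab.symm
  refine ⟨s, h.triv _ a b hab (by rw [mul_smul, h1, h2]) (by rw [mul_smul, h2, h1]), fun e => hab ?_, h1, h2⟩
  rw [e, one_smul] at h1
  exact h1

theorem fix_unique {s : X} (h1 : s ≠ 1) {a b : Φ} (ha : s • a = a) (hb : s • b = b) : a = b :=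
  not_not.1 fun hne => h1 (h.triv s a b hne ha hb)

theorem card_fix_le {s : X} (h1 : s ≠ 1) : Nat.card (fixedBy Φ s) ≤ 1 := by
  rw [Finite.card_le_one_iff_subsingleton]
  exact ⟨fun a b => Subtype.ext (h.fix_unique h1 a.2 b.2)⟩

theorem card_eq : Nat.card X = Nat.card Φ * (Nat.card Φ - 1) := by
  obtain ⟨a, b, hab⟩ := h.exists_pair
  rw [h.card_group hab]
  have : stabilizer X a ⊓ stabilizer X b = ⊥ := (Subgroup.eq_bot_iff_forall _).2 fun g hg => h.triv g a b hab hg.1 hg.2
  rw [this, Subgroup.card_bot, mul_one]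

theorem invol_closed : ∀ s ∈ {s : X | s * s = 1 ∧ s ≠ 1}, ∀ g : X, g * s * g⁻¹ ∈ {s : X | s * s = 1 ∧ s ≠ 1} := by
  rintro s ⟨hs, hs1⟩ g
  refine ⟨?_, fun e => hs1 (conj_eq_one_iff.1 e)⟩
  rw [show g * s * g⁻¹ * (g * s * g⁻¹) = g * (s * s) * g⁻¹ by group, hs, mul_one, mul_inv_cancel]

theorem one_swapper {a b : Φ} (hab : a ≠ b) :
    Nat.card {u : X // u ∈ {s : X | s * s = 1 ∧ s ≠ 1} ∧ Swaps u a b} = 1 := by
  obtain ⟨s, hs, hs1, hsw⟩ := h.exists_swap hab
  rw [Nat.card_eq_one_iff_unique]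
  exact ⟨⟨fun x y => Subtype.ext (h.swap_unique hab x.2.2 y.2.2)⟩, ⟨⟨s, ⟨hs, hs1⟩, hsw⟩⟩⟩

/-- In odd degree every involution fixes a point. -/
theorem exists_fix (hodd : Odd (Nat.card Φ)) {s : X} (hs : s * s = 1) : ∃ p : Φ, s • p = p := by
  have hp := fixedBy_parity (Φ := Φ) hs
  rw [Nat.odd_iff.1 hodd] at hp
  have : 0 < Nat.card (fixedBy Φ s) := by omega
  obtain ⟨⟨p, hp⟩⟩ := (Nat.card_pos_iff.1 this).1
  exact ⟨p, hp⟩

/-- In odd degree a point is fixed by one involution only. -/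
theorem eq_of_fix (hodd : Odd (Nat.card Φ)) {s s' : X} (hs : s * s = 1) (hs1 : s ≠ 1) (hs' : s' * s' = 1)
    (hs'1 : s' ≠ 1) {p : Φ} (hp : s • p = p) (hp' : s' • p = p) : s = s' := by
  classical
  set U : Set X := {s : X | s * s = 1 ∧ s ≠ 1}
  have hfix : ∀ u ∈ U, Nat.card (fixedBy Φ u) = 1 := fun u hu => by
    refine le_antisymm (h.card_fix_le hu.2) ?_
    obtain ⟨q, hq⟩ := h.exists_fix hodd hu.1
    exact Nat.card_pos_iff.2 ⟨⟨⟨q, hq⟩⟩, inferInstance⟩
  obtain ⟨a, b, hab⟩ := h.exists_pair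
  have hc := h.count_swaps U h.invol_closed (fun u hu => hu.1) 1 hfix hab
  rw [h.one_swapper hab, one_mul] at hc
  have hU : Nat.card U = Nat.card Φ := Nat.eq_of_mul_eq_mul_right (by have := h.two; omega) hc
  choose f hf using fun u : U => h.exists_fix hodd u.2.1
  have hsurj : Function.Surjective f := fun q => by
    obtain ⟨s₀, hs₀, hs₀1, -⟩ := h.exists_swap hab
    set u₀ : U := ⟨s₀, hs₀, hs₀1⟩
    obtain ⟨c, hc'⟩ := h.exists_ne (f u₀)
    obtain ⟨d, hd⟩ := h.exists_ne q
    obtain ⟨g, hg, -⟩ := h.move (f u₀) c q d hc'.symm hd.symm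
    refine ⟨⟨g * s₀ * g⁻¹, h.invol_closed s₀ ⟨hs₀, hs₀1⟩ g⟩, ?_⟩
    refine h.fix_unique (h.invol_closed s₀ ⟨hs₀, hs₀1⟩ g).2 (hf ⟨_, h.invol_closed s₀ ⟨hs₀, hs₀1⟩ g⟩) ?_
    show (g * s₀ * g⁻¹) • q = q
    rw [← hg, mul_smul, inv_smul_smul, mul_smul]
    exact congrArg _ (hf u₀)
  haveI := Fintype.ofFinite Φ
  haveI := Fintype.ofFinite U
  have hinj := ((Fintype.bijective_iff_surjective_and_card f).2
    ⟨hsurj, by rw [← Nat.card_eq_fintype_card, ← Nat.card_eq_fintype_card, hU]⟩).1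
  have e1 : f ⟨s, hs, hs1⟩ = p := h.fix_unique hs1 (hf ⟨s, hs, hs1⟩) hp
  have e2 : f ⟨s', hs', hs'1⟩ = p := h.fix_unique hs'1 (hf ⟨s', hs', hs'1⟩) hp'
  exact congrArg Subtype.val (hinj (e1.trans e2.symm))

/-- In odd degree the involution fixing a point centralises the stabiliser. -/
theorem central_of_fix (hodd : Odd (Nat.card Φ)) {s : X} (hs : s * s = 1) (hs1 : s ≠ 1) {p : Φ} (hp : s • p = p)
    {g : X} (hg : g • p = p) : g * s = s * g := by
  refine mul_inv_eq_iff_eq_mul.1 (h.eq_of_fix hodd (h.invol_closed s ⟨hs, hs1⟩ g).1 (h.invol_closed s ⟨hs, hs1⟩ g).2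
    hs hs1 (p := p) ?_ hp)
  rw [mul_smul, inv_smul_eq_iff.2 hg.symm, mul_smul, hp, hg]

/-- In even degree involutions fix no point. -/
theorem free_of_even (heven : Even (Nat.card Φ)) {s : X} (hs : s * s = 1) (hs1 : s ≠ 1) (p : Φ) : s • p ≠ p := by
  intro hp
  have h1 := fixedBy_parity (Φ := Φ) hs
  rw [Nat.even_iff.1 heven] at h1
  have h2 := h.card_fix_le hs1
  haveI : Nonempty (fixedBy Φ s) := ⟨⟨p, hp⟩⟩
  have : 0 < Nat.card (fixedBy Φ s) := Nat.card_pos
  omega

theorem card_stabilizer (a : Φ) : Nat.card (stabilizer X a) = Nat.card Φ - 1 := by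
  haveI : IsPretransitive X Φ := ⟨fun x y => by
    obtain ⟨x', hx⟩ := h.exists_ne x
    obtain ⟨y', hy⟩ := h.exists_ne y
    obtain ⟨g, hg, -⟩ := h.move x x' y y' hx.symm hy.symm
    exact ⟨g, hg⟩⟩
  have hm := (stabilizer X a).card_mul_index
  rw [index_stabilizer_of_transitive, h.card_eq, mul_comm (Nat.card Φ) (Nat.card Φ - 1)] at hm
  exact Nat.eq_of_mul_eq_mul_right (by have := h.two; omega) hm

/-- In even degree the involutions are exactly the elements without fixed points. -/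
theorem free_iff (heven : Even (Nat.card Φ)) (g : X) : (∀ p : Φ, g • p ≠ p) ↔ g * g = 1 ∧ g ≠ 1 := by
  classical
  refine ⟨fun hg => ?_, fun hg => h.free_of_even heven hg.1 hg.2⟩
  haveI := Fintype.ofFinite X
  haveI := Fintype.ofFinite Φ
  set U : Set X := {s : X | s * s = 1 ∧ s ≠ 1}
  obtain ⟨a, b, hab⟩ := h.exists_pair
  have hfix : ∀ u ∈ U, Nat.card (fixedBy Φ u) = 0 := fun u hu => by
    haveI : IsEmpty (fixedBy Φ u) := ⟨fun p => h.free_of_even heven hu.1 hu.2 p.1 p.2⟩
    exact Nat.card_of_isEmpty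
  have hc := h.count_swaps U h.invol_closed (fun u hu => hu.1) 0 hfix hab
  have h2 := h.two
  rw [h.one_swapper hab, one_mul, Nat.sub_zero, mul_comm (Nat.card Φ)] at hc
  have hU : Nat.card U = Nat.card Φ - 1 := Nat.eq_of_mul_eq_mul_right (by omega) hc
  -- the elements with a fixed point
  have hF : Nat.card {g : X // g ≠ 1 ∧ ∃ p : Φ, g • p = p} = Nat.card Φ * (Nat.card Φ - 2) := by
    let e : (Σ p : Φ, {g : stabilizer X p // g ≠ 1}) → {g : X // g ≠ 1 ∧ ∃ p : Φ, g • p = p} := fun q =>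
      ⟨q.2.1.1, fun e1 => q.2.2 (Subtype.ext e1), q.1, q.2.1.2⟩
    have hb : Function.Bijective e := by
      refine ⟨fun q q' hq => ?_, fun g => ?_⟩
      · obtain ⟨p, ⟨g, hgp⟩, hg1⟩ := q
        obtain ⟨p', ⟨g', hgp'⟩, hg'1⟩ := q'
        obtain rfl : g = g' := congrArg Subtype.val hq
        obtain rfl : p = p' := h.fix_unique (fun e1 => hg1 (Subtype.ext e1)) hgp hgp'
        rfl
      · obtain ⟨g, hg1, p, hp⟩ := g
        exact ⟨⟨p, ⟨g, hp⟩, fun e1 => hg1 (congrArg Subtype.val e1)⟩, rfl⟩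
    rw [← Nat.card_congr (Equiv.ofBijective e hb), Nat.card_sigma,
      Finset.sum_congr rfl fun p _ => (show Nat.card {g : stabilizer X p // g ≠ 1} = Nat.card Φ - 2 by
        rw [Nat.card_eq_fintype_card, Fintype.card_subtype_compl, Fintype.card_subtype_eq,
          ← Nat.card_eq_fintype_card, h.card_stabilizer]
        omega), Finset.sum_const, Finset.card_univ, smul_eq_mul, ← Nat.card_eq_fintype_card]
  -- the free elements
  let S : Finset X := Finset.univ.filter fun g => ∀ p : Φ, g • p ≠ p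
  let T : Finset X := Finset.univ.filter fun g => g ∈ U
  let R : Finset X := Finset.univ.filter fun g => g ≠ 1 ∧ ∃ p : Φ, g • p = p
  have hR : R.card = Nat.card Φ * (Nat.card Φ - 2) := by rw [← hF, Nat.card_eq_fintype_card, Fintype.card_subtype]
  have hT : T.card = Nat.card Φ - 1 := by
    rw [← hU, Nat.card_eq_fintype_card, ← Set.toFinset_card]
    congr 1
    ext g
    simp [T]
  have hTS : T ⊆ S := fun g hg => by
    simp only [T, S, Finset.mem_filter, Finset.mem_univ, true_and] at hg ⊢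
    exact h.free_of_even heven hg.1 hg.2
  have hd : Disjoint S R := Finset.disjoint_filter.2 fun g _ hg hgR => hgR.2.elim fun p hp => hg p hp
  have h1 : (1 : X) ∉ S ∪ R := by
    simp only [S, R, Finset.mem_union, Finset.mem_filter, Finset.mem_univ, true_and, not_or]
    exact ⟨fun hh => hh a (one_smul X a), fun hh => hh.1 rfl⟩
  have hle := Finset.card_le_univ (insert 1 (S ∪ R))
  rw [Finset.card_insert_of_notMem h1, Finset.card_union_of_disjoint hd, hR, ← Nat.card_eq_fintype_card, h.card_eq] at hle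
  have hTS' : T = S := Finset.eq_of_subset_of_card_le hTS (by
    obtain ⟨m, hm⟩ : ∃ m, Nat.card Φ = m + 2 := ⟨Nat.card Φ - 2, by omega⟩
    rw [hm] at hle hT
    simp only [show m + 2 - 1 = m + 1 by omega, show m + 2 - 2 = m by omega] at hle hT
    rw [hT]
    nlinarith)
  have hgS : g ∈ S := by simp [S, hg]
  rw [← hTS'] at hgS
  exact (Finset.mem_filter.1 hgS).2

/-- In even degree two involutions commute. -/
theorem commute_of_even (heven : Even (Nat.card Φ)) {s s' : X} (hs : s * s = 1) (hs1 : s ≠ 1) (hs' : s' * s' = 1)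
    (hs'1 : s' ≠ 1) : s * s' = s' * s := by
  rcases eq_or_ne s s' with rfl | hne
  · rfl
  have hd : ∀ p : Φ, (s * s') • p ≠ p := fun p hp => hne (by
    have hsp : s • p = s' • p := by
      conv_lhs => rw [← hp]
      rw [smul_smul, ← mul_assoc, hs, one_mul]
    refine h.swap_unique (h.free_of_even heven hs hs1 p).symm (swaps_invol hs) ?_
    rw [hsp]
    exact swaps_invol hs')
  have hh := ((h.free_iff heven _).1 hd).1
  calc s * s' = (s * s')⁻¹ := (inv_eq_of_mul_eq_one_right hh).symm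
    _ = s' * s := by rw [mul_inv_rev, inv_eq_of_mul_eq_one_right hs, inv_eq_of_mul_eq_one_right hs']

/-- In even degree all involutions are conjugate. -/
theorem conj_of_even (heven : Even (Nat.card Φ)) {s s' : X} (hs : s * s = 1) (hs1 : s ≠ 1) (hs' : s' * s' = 1)
    (hs'1 : s' ≠ 1) (p : Φ) : ∃ g : X, g • p = p ∧ g * s * g⁻¹ = s' := by
  obtain ⟨g, hgp, hgq⟩ := h.move p (s • p) p (s' • p) (h.free_of_even heven hs hs1 p).symm
    (h.free_of_even heven hs' hs'1 p).symm
  refine ⟨g, hgp, h.swap_unique (h.free_of_even heven hs' hs'1 p).symm ?_ (swaps_invol hs')⟩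
  have := (swaps_invol (x := p) hs).conj (h := g)
  rwa [hgp, hgq] at this

/-- In even degree the degree is a power of two. -/
theorem two_pow_of_even (heven : Even (Nat.card Φ)) : ∃ j : ℕ, Nat.card Φ = 2 ^ j := by
  haveI : Fact (Nat.Prime 2) := ⟨Nat.prime_two⟩
  obtain ⟨a, b, hab⟩ := h.exists_pair
  let M : Subgroup X :=
    { carrier := {g | g * g = 1 ∧ ∀ g' : X, g' * g' = 1 → g * g' = g' * g}
      one_mem' := ⟨one_mul 1, fun g' _ => by rw [one_mul, mul_one]⟩
      mul_mem' := fun {x y} hx hy => ⟨by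
          rw [show x * y * (x * y) = x * (y * x) * y by group, ← hx.2 y hy.1,
            show x * (x * y) * y = x * x * (y * y) by group, hx.1, hy.1, one_mul],
        fun g' hg' => by rw [mul_assoc, hy.2 g' hg', ← mul_assoc, hx.2 g' hg', mul_assoc]⟩
      inv_mem' := fun {x} hx => by
        have e : x⁻¹ = x := inv_eq_of_mul_eq_one_right hx.1
        rw [Set.mem_setOf_eq, e]; exact hx }
  have hmem : ∀ g : X, g ∈ M ↔ g * g = 1 := by
    refine fun g => ⟨fun hg => hg.1, fun hg => ⟨hg, fun g' hg' => ?_⟩⟩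
    by_cases hg1 : g = 1
    · rw [hg1, one_mul, mul_one]
    by_cases hg'1 : g' = 1
    · rw [hg'1, one_mul, mul_one]
    exact h.commute_of_even heven hg hg1 hg' hg'1
  let f : M → Φ := fun g => (g : X) • a
  have hb : Function.Bijective f := by
    refine ⟨fun x y hxy => Subtype.ext ?_, fun q => ?_⟩
    · by_contra hne
      have hm := (hmem _).1 (M.mul_mem y.2 x.2)
      have hfx : ((y : X) * x) • a = a := by
        rw [mul_smul]
        show (y : X) • f x = a
        rw [hxy]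
        show (y : X) • (y : X) • a = a
        rw [smul_smul, y.2.1, one_smul]
      refine hne ?_
      have h1 : (y : X) * x = 1 := not_not.1 fun h1 => h.free_of_even heven hm h1 a hfx
      rw [← inv_eq_of_mul_eq_one_right h1, inv_eq_of_mul_eq_one_right y.2.1]
    · rcases eq_or_ne a q with rfl | hq
      · exact ⟨⟨1, M.one_mem⟩, one_smul X a⟩
      · obtain ⟨s, hs, -, hsw⟩ := h.exists_swap hq
        exact ⟨⟨s, (hmem s).2 hs⟩, hsw.1⟩
  have hp : IsPGroup 2 M := fun g => ⟨1, Subtype.ext (by rw [pow_one, pow_two]; exact g.2.1)⟩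
  obtain ⟨j, hj⟩ := IsPGroup.iff_card.1 hp
  exact ⟨j, by rw [← hj, Nat.card_congr (Equiv.ofBijective f hb)]⟩

end Sharp

end Cfsg.Lib.TwoPointFive
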